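import Mathlib
import Groth.Agent.Lib.Helper19.EtalePointwise
import Groth.Agent.Lib.Helper55.FL.StalkFlat

/-!
# Pointwise flatness and flat base change

For a pullback square with `g` flat and `f` locally of finite presentation, the base change `f'`
is flat at `x'` iff `f` is flat at the image of `x'`.
-/

set_option autoImplicit false
universe u

open CategoryTheory CategoryTheory.Limits AlgebraicGeometry

namespace Groth.Agent.Lib.Helper19

/-- The open locus of points where the stalk map is flat. -/
noncomputable def flatLocus {X Y : Scheme.{u}} (f : X ⟶ Y) [LocallyOfFinitePresentation f] :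
    X.Opens :=
  ⟨{x | (f.stalkMap x).hom.Flat}, Groth.Agent.Lib.Helper55.FL.isOpen_stalkMap_flat f⟩

lemma mem_flatLocus {X Y : Scheme.{u}} (f : X ⟶ Y) [LocallyOfFinitePresentation f] (x : X) :
    x ∈ flatLocus f ↔ (f.stalkMap x).hom.Flat := Iff.rfl

lemma flat_stalkMap_of_ι_comp {X Y : Scheme.{u}} (f : X ⟶ Y) (U : X.Opens) [Flat (U.ι ≫ f)]
    (x : X) (hx : x ∈ U) : (f.stalkMap x).hom.Flat := by
  let xU : U.toScheme := ⟨x, hx⟩
  have h1 := Flat.stalkMap (U.ι ≫ f) xU
  rw [Scheme.Hom.stalkMap_comp] at h1
  have hiso : IsIso (U.ι.stalkMap xU) := inferInstance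
  exact (RingHom.Flat.respectsIso.cancel_right_isIso (f.stalkMap (U.ι xU))
    (U.ι.stalkMap xU)).mp h1

instance flat_flatLocus_ι_comp {X Y : Scheme.{u}} (f : X ⟶ Y) [LocallyOfFinitePresentation f] :
    Flat ((flatLocus f).ι ≫ f) := by
  rw [Flat.iff_flat_stalkMap]
  intro u
  rw [Scheme.Hom.stalkMap_comp]
  have hiso : IsIso ((flatLocus f).ι.stalkMap u) := inferInstance
  exact (RingHom.Flat.respectsIso.cancel_right_isIso (f.stalkMap ((flatLocus f).ι u))
    ((flatLocus f).ι.stalkMap u)).mpr u.2

/-- Pointwise flatness is compatible with flat base change. -/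
theorem flat_stalkMap_iff_of_isPullback {X' X Y' Y : Scheme.{u}} {k : X' ⟶ X} {f' : X' ⟶ Y'}
    {f : X ⟶ Y} {g : Y' ⟶ Y} (sq : IsPullback k f' f g) [Flat g]
    [LocallyOfFinitePresentation f] (x' : X') :
    (f'.stalkMap x').hom.Flat ↔ (f.stalkMap (k x')).hom.Flat := by
  have hf' : LocallyOfFinitePresentation f' :=
    MorphismProperty.of_isPullback (P := @LocallyOfFinitePresentation) sq ‹_›
  constructor
  · intro hx'
    -- descent
    let U' := flatLocus f'
    let e := sq.isoPullback
    let W : (pullback f g).Opens := e.inv ⁻¹ᵁ U'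
    let z : ↑(pullback f g) := e.hom x'
    have hzz : e.inv z = x' := by
      change (e.hom ≫ e.inv) x' = x'
      rw [Iso.hom_inv_id]; rfl
    have hz : z ∈ W := by
      change e.inv z ∈ U'
      rw [hzz]
      exact hx'
    have hWflat : Flat (W.ι ≫ pullback.snd f g) := by
      have h1 : pullback.snd f g = e.inv ≫ f' := (sq.isoPullback_inv_snd).symm
      rw [h1, ← Category.assoc, ← morphismRestrict_ι, Category.assoc]
      infer_instance
    have hg : (g.stalkMap ((pullback.snd f g).base z)).hom.Flat := Flat.stalkMap g _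
    have key := flat_stalkMap_fst_of_flat f g z hg ⟨W, hz, hWflat⟩
    have hk : (pullback.fst f g).base z = k.base x' := by
      change (e.hom ≫ pullback.fst f g) x' = k x'
      rw [sq.isoPullback_hom_fst]
    exact hk ▸ key
  · intro hx
    -- ascent
    let U := flatLocus f
    have sq' : IsPullback (k ∣_ U) ((k ⁻¹ᵁ U).ι ≫ f') (U.ι ≫ f) g :=
      (isPullback_morphismRestrict k U).paste_vert sq
    have : Flat ((k ⁻¹ᵁ U).ι ≫ f') :=
      MorphismProperty.of_isPullback (P := @Flat) sq' inferInstance
    exact flat_stalkMap_of_ι_comp f' (k ⁻¹ᵁ U) x' hx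

end Groth.Agent.Lib.Helper19
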