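import Mathlib
import Groth.Agent.Lib.Helper19.Grp.FlatBaseChangePt
import Groth.Agent.Lib.Helper10.GrpShear
import Groth.Agent.Lib.Helper19.UnramifiedLocus
import Groth.Agent.Lib.Helper19.UnramifiedFiber

/-!
# Homogeneity for homomorphisms of locally algebraic groups over a field

A pointwise property of morphisms which is compatible with flat base change holds at all points
of a homomorphism `f : H ⟶ G` of group schemes locally of finite type over a field as soon as it
holds at the unit point.  (Universal translation trick; no passage to the algebraic closure.)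
-/

set_option autoImplicit false
universe u

open CategoryTheory CategoryTheory.Limits AlgebraicGeometry MonoidalCategory
  CartesianMonoidalCategory MonObj GrpObj

namespace Groth.Agent.Lib.Helper19

/-- A pointwise property of morphisms of schemes compatible with flat base change (for morphisms
locally of finite type with locally Noetherian target). -/
def IsFlatBaseChangeInvariant (Q : ∀ {X Y : Scheme.{u}} (_ : X ⟶ Y), X → Prop) : Prop :=
  ∀ {X' X Y' Y : Scheme.{u}} {k : X' ⟶ X} {f' : X' ⟶ Y'} {f : X ⟶ Y} {g : Y' ⟶ Y},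
    IsPullback k f' f g → Flat g → LocallyOfFiniteType f → IsLocallyNoetherian Y →
    ∀ x' : X', Q f' x' ↔ Q f (k x')

variable (k : Type u) [Field k]

lemma toUnit_left_eq {S : Scheme.{u}} (N : Over S) : (toUnit N).left = N.hom := by
  have := Over.w (toUnit N)
  simpa using this

/-- Translation invariance. -/
theorem fst_iff_mul_of_isFlatBaseChangeInvariant
    {Q : ∀ {X Y : Scheme.{u}} (_ : X ⟶ Y), X → Prop} (hQ : IsFlatBaseChangeInvariant Q)
    (H G : Over (Spec (CommRingCat.of k))) [GrpObj H] [GrpObj G]
    [LocallyOfFiniteType H.hom] [LocallyOfFiniteType G.hom] (f : H ⟶ G) [IsMonHom f]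
    (z : ↥(H ⊗ H).left) :
    Q f.left ((fst H H).left.base z) ↔ Q f.left (μ[H].left.base z) := by
  have hG : IsLocallyNoetherian G.left := LocallyOfFiniteType.isLocallyNoetherian G.hom
  have hlft : LocallyOfFiniteType f.left := by
    have : LocallyOfFiniteType (f.left ≫ G.hom) := by rw [Over.w f]; infer_instance
    exact locallyOfFiniteType_of_comp f.left G.hom
  have sq1 := (Groth.Agent.Lib.Helper10.GrpShear.sq_fst f).map (Over.forget _)
  have sq2 := (Groth.Agent.Lib.Helper10.GrpShear.sq_mul f).map (Over.forget _)
  simp only [Over.forget_obj, Over.forget_map] at sq1 sq2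
  have hfst : (fst G H).left = pullback.fst G.hom H.hom := rfl
  have h1 : Flat (fst G H).left := by rw [hfst]; infer_instance
  haveI : IsIso (Groth.Agent.Lib.Helper10.GrpShear.tau f).hom.left :=
    inferInstanceAs (IsIso ((Over.forget _).map (Groth.Agent.Lib.Helper10.GrpShear.tau f).hom))
  have h2 : Flat ((Groth.Agent.Lib.Helper10.GrpShear.tau f).hom ≫ fst G H).left := by
    rw [Over.comp_left]; infer_instance
  exact (hQ sq1.flip h1 hlft hG z).symm.trans (hQ sq2.flip h2 hlft hG z)

/-- Homogeneity: a flat-base-change-invariant pointwise property which holds at the unit point of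
the source of a homomorphism of locally algebraic groups over a field holds everywhere. -/
theorem forall_of_unit_of_isFlatBaseChangeInvariant
    {Q : ∀ {X Y : Scheme.{u}} (_ : X ⟶ Y), X → Prop} (hQ : IsFlatBaseChangeInvariant Q)
    (H G : Over (Spec (CommRingCat.of k))) [GrpObj H] [GrpObj G]
    [LocallyOfFiniteType H.hom] [LocallyOfFiniteType G.hom] (f : H ⟶ G) [IsMonHom f]
    (pt : ↥(𝟙_ (Over (Spec (CommRingCat.of k)))).left)
    (he : Q f.left (η[H].left.base pt)) (h : H.left) : Q f.left h := by
  let s : H ⟶ H ⊗ H := lift (toUnit H ≫ η[H]) (𝟙 H)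
  let z : ↥(H ⊗ H).left := s.left.base h
  have h1 : (fst H H).left.base z = η[H].left.base pt := by
    have e1 : s ≫ fst H H = toUnit H ≫ η[H] := lift_fst _ _
    have e2 := congrArg (fun φ => φ.left.base h) e1
    simp only [Over.comp_left, Scheme.Hom.comp_base, TopCat.comp_app] at e2
    change (fst H H).left.base (s.left.base h) = _
    rw [e2]
    congr 1
    have : Subsingleton ↥(𝟙_ (Over (Spec (CommRingCat.of k)))).left :=
      inferInstanceAs (Subsingleton (PrimeSpectrum k))
    exact Subsingleton.elim _ _
  have h2 : μ[H].left.base z = h := by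
    have e1 : s ≫ μ[H] = 𝟙 H := lift_comp_one_left _ _
    have e2 := congrArg (fun φ => φ.left.base h) e1
    simp only [Over.comp_left, Scheme.Hom.comp_base, TopCat.comp_app] at e2
    change μ[H].left.base (s.left.base h) = _
    rw [e2]
    rfl
  have key := (fst_iff_mul_of_isFlatBaseChangeInvariant k hQ H G f z).mp (h1 ▸ he)
  exact h2 ▸ key

/-! ### Instances of flat-base-change-invariant properties -/

/-- Flatness at a point. -/
theorem isFlatBaseChangeInvariant_flat :
    IsFlatBaseChangeInvariant (fun {X Y : Scheme.{u}} (f : X ⟶ Y) x => (f.stalkMap x).hom.Flat) := by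
  intro X' X Y' Y k f' f g sq hg hf hY x'
  exact flat_stalkMap_iff_of_isPullback sq x'

/-- Being formally unramified near a point is compatible with arbitrary base change. -/
theorem exists_nhd_formallyUnramified_iff_of_isPullback {X' X Y' Y : Scheme.{u}} {k : X' ⟶ X}
    {f' : X' ⟶ Y'} {f : X ⟶ Y} {g : Y' ⟶ Y} (sq : IsPullback k f' f g)
    [LocallyOfFiniteType f] (x' : X') :
    (∃ U' : X'.Opens, x' ∈ U' ∧ FormallyUnramified (U'.ι ≫ f')) ↔
      ∃ U : X.Opens, k x' ∈ U ∧ FormallyUnramified (U.ι ≫ f) := by
  constructor
  · rintro ⟨U', hx', hU'⟩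
    let e := sq.isoPullback
    let W : (pullback f g).Opens := e.inv ⁻¹ᵁ U'
    let z : ↑(pullback f g) := e.hom x'
    have hzz : e.inv z = x' := by
      change (e.hom ≫ e.inv) x' = x'
      rw [Iso.hom_inv_id]; rfl
    have hz : z ∈ W := by
      change e.inv z ∈ U'
      rw [hzz]
      exact hx'
    have hW : FormallyUnramified (W.ι ≫ pullback.snd f g) := by
      have h1 : pullback.snd f g = e.inv ≫ f' := (sq.isoPullback_inv_snd).symm
      rw [h1, ← Category.assoc, ← morphismRestrict_ι, Category.assoc]
      have : IsIso (e.inv ∣_ U') := inferInstance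
      exact MorphismProperty.comp_mem _ _ _
        (inferInstance : FormallyUnramified (e.inv ∣_ U')) hU'
    obtain ⟨U, hU, hU2⟩ := exists_nhd_formallyUnramified_of_pullback f g z ⟨W, hz, hW⟩
    have hk : (pullback.fst f g).base z = k.base x' := by
      change (e.hom ≫ pullback.fst f g) x' = k x'
      rw [sq.isoPullback_hom_fst]
    exact ⟨U, hk ▸ hU, hU2⟩
  · rintro ⟨U, hx, hU⟩
    have sq' : IsPullback (k ∣_ U) ((k ⁻¹ᵁ U).ι ≫ f') (U.ι ≫ f) g :=
      (isPullback_morphismRestrict k U).paste_vert sq
    have : FormallyUnramified ((k ⁻¹ᵁ U).ι ≫ f') :=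
      MorphismProperty.of_isPullback (P := @FormallyUnramified) sq' hU
    exact ⟨k ⁻¹ᵁ U, hx, this⟩

theorem isFlatBaseChangeInvariant_unramified :
    IsFlatBaseChangeInvariant (fun {X Y : Scheme.{u}} (f : X ⟶ Y) x =>
      ∃ U : X.Opens, x ∈ U ∧ FormallyUnramified (U.ι ≫ f)) := by
  intro X' X Y' Y k f' f g sq hg hf hY x'
  exact exists_nhd_formallyUnramified_iff_of_isPullback sq x'

/-- A homomorphism of locally algebraic groups over a field which is unramified near the unit
point is unramified. -/
theorem formallyUnramified_of_unit (H G : Over (Spec (CommRingCat.of k))) [GrpObj H] [GrpObj G]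
    [LocallyOfFiniteType H.hom] [LocallyOfFiniteType G.hom] (f : H ⟶ G) [IsMonHom f]
    (pt : ↥(𝟙_ (Over (Spec (CommRingCat.of k)))).left)
    (he : ∃ U : H.left.Opens, η[H].left.base pt ∈ U ∧ FormallyUnramified (U.ι ≫ f.left)) :
    FormallyUnramified f.left :=
  formallyUnramified_of_forall_exists_nhd f.left
    (forall_of_unit_of_isFlatBaseChangeInvariant k isFlatBaseChangeInvariant_unramified H G f pt he)

end Groth.Agent.Lib.Helper19
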