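import Mathlib

/-!
# Every morphism to the spectrum of a local artinian ring is universally open
-/

set_option autoImplicit false
universe u

open CategoryTheory CategoryTheory.Limits AlgebraicGeometry

namespace Groth.Agent.Lib.Helper19

/-- If the base change of `q` along a surjective open map is open, then `q` is open. -/
theorem isOpenMap_of_isOpenMap_pullback_fst {Z T T₀ : Scheme.{u}} (q : Z ⟶ T) (h : T₀ ⟶ T)
    (hsurj : Function.Surjective h) (hopen : IsOpenMap h)
    (hq : IsOpenMap (pullback.fst h q)) : IsOpenMap q := by
  intro U hU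
  have : q '' U = h '' (pullback.fst h q '' (pullback.snd h q ⁻¹' U)) := by
    ext t
    constructor
    · rintro ⟨w, hw, rfl⟩
      obtain ⟨t₀, ht₀⟩ := hsurj (q w)
      obtain ⟨w₀, hw1, hw2⟩ := Scheme.Pullback.exists_preimage_pullback (f := h) (g := q) t₀ w ht₀
      exact ⟨t₀, ⟨w₀, by simpa [hw2] using hw, hw1⟩, ht₀⟩
    · rintro ⟨t₀, ⟨w₀, hw0, rfl⟩, rfl⟩
      refine ⟨pullback.snd h q w₀, hw0, ?_⟩
      have := congrArg (fun φ => φ w₀) (pullback.condition (f := h) (g := q))
      simpa using this.symm
  rw [this]
  exact hopen _ (hq _ (hU.preimage (pullback.snd h q).continuous))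

/-- A surjective closed immersion is an open map. -/
theorem isOpenMap_of_isClosedImmersion_of_surjective {X Y : Scheme.{u}} (f : X ⟶ Y)
    [IsClosedImmersion f] (hf : Function.Surjective f) : IsOpenMap f :=
  (f.isClosedEmbedding.isEmbedding.toHomeomorphOfSurjective hf).isOpenMap

variable (A : Type u) [CommRing A] [IsArtinianRing A] [IsLocalRing A]

/-- Every morphism to the spectrum of a local artinian ring is universally open. -/
theorem universallyOpen_of_isArtinianRing_of_isLocalRing {X : Scheme.{u}}
    (g : X ⟶ Spec (CommRingCat.of A)) : UniversallyOpen g := by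
  let κ := IsLocalRing.ResidueField A
  let i : Spec (CommRingCat.of κ) ⟶ Spec (CommRingCat.of A) :=
    Spec.map (CommRingCat.ofHom (IsLocalRing.residue A))
  haveI : IsClosedImmersion i :=
    IsClosedImmersion.spec_of_surjective _ IsLocalRing.residue_surjective
  haveI : Subsingleton ↥(Spec (CommRingCat.of A)) := by
    refine ⟨fun p q => ?_⟩
    apply PrimeSpectrum.ext
    have hp : p.asIdeal.IsMaximal := IsArtinianRing.isMaximal_of_isPrime p.asIdeal
    have hq : q.asIdeal.IsMaximal := IsArtinianRing.isMaximal_of_isPrime q.asIdeal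
    rw [IsLocalRing.eq_maximalIdeal hp, IsLocalRing.eq_maximalIdeal hq]
  haveI : Surjective i := by
    refine ⟨fun s => ?_⟩
    obtain ⟨t⟩ : Nonempty ↥(Spec (CommRingCat.of κ)) := inferInstance
    exact ⟨t, Subsingleton.elim _ _⟩
  -- the case of a base factoring through the residue field
  have key : ∀ {T₀ : Scheme.{u}} (e : T₀ ⟶ Spec (CommRingCat.of A))
      (p : T₀ ⟶ Spec (CommRingCat.of κ)), e = p ≫ i → IsOpenMap (pullback.fst e g) := by
    rintro T₀ _ p rfl
    have h1 : UniversallyOpen (pullback.fst i g) := inferInstance
    have h2 : UniversallyOpen (pullback.fst p (pullback.fst i g)) := inferInstance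
    have h3 : pullback.fst (p ≫ i) g =
        (pullbackRightPullbackFstIso i g p).inv ≫ pullback.fst p (pullback.fst i g) := by simp
    rw [h3]
    exact (Scheme.Hom.isOpenMap _)
  constructor
  apply MorphismProperty.universally_mk'
  intro T f _
  let h := pullback.fst f i
  have hh : Function.Surjective h := (inferInstance : Surjective h).surj
  refine isOpenMap_of_isOpenMap_pullback_fst (pullback.fst f g) h hh
    (isOpenMap_of_isClosedImmersion_of_surjective h hh) ?_
  have h3 : pullback.fst h (pullback.fst f g) =
      (pullbackRightPullbackFstIso f g h).hom ≫ pullback.fst (h ≫ f) g := by simp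
  rw [h3]
  have h4 := key (h ≫ f) (pullback.snd f i) pullback.condition
  exact h4.comp (pullbackRightPullbackFstIso f g h).hom.homeomorph.isOpenMap

end Groth.Agent.Lib.Helper19
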