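import Mathlib

set_option autoImplicit false
set_option linter.style.haveILetI false
universe u
open scoped TensorProduct

namespace Groth.Agent.Lib.Helper19.KrullTube

/-- uniform Krull intersection: one element `r ∈ m` fixes every element of `⋂ mⁿ` -/
theorem exists_mul_eq_self (B : Type u) [CommRing B] [IsNoetherianRing B] (m : Ideal B) :
    ∃ r ∈ m, ∀ b : B, (∀ n : ℕ, b ∈ m ^ n) → r * b = b := by
  let N : Submodule B B := ⨅ i : ℕ, m ^ i • (⊤ : Submodule B B)
  have hmem : ∀ b : B, (∀ n : ℕ, b ∈ m ^ n) → b ∈ N := by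
    intro b hb
    rw [Submodule.mem_iInf]
    intro i
    have : m ^ i • (⊤ : Submodule B B) = m ^ i := by
      rw [smul_eq_mul, ← Ideal.one_eq_top, mul_one]
    rw [this]
    exact hb i
  have hle : N ≤ m • N := by
    intro x hx
    obtain ⟨r, hr⟩ := (Ideal.mem_iInf_smul_pow_eq_bot_iff m x).mp hx
    rw [← hr]
    exact Submodule.smul_mem_smul r.2 hx
  obtain ⟨r, hr, h⟩ := Submodule.exists_mem_and_smul_eq_self_of_fg_of_le_smul m N
    (IsNoetherian.noetherian N) hle
  exact ⟨r, hr, fun b hb => h b (hmem b hb)⟩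

variable (k : Type u) [Field k]

/-- coordinates in `B ⊗ A` with respect to a `k`-basis of `A` are natural in `B` -/
theorem repr_map {B B' A : Type u} [CommRing B] [Algebra k B] [CommRing B'] [Algebra k B']
    [CommRing A] [Algebra k A] {ι : Type*} (bA : Module.Basis ι k A) (d : B →ₐ[k] B')
    (y : B ⊗[k] A) (j : ι) :
    (Algebra.TensorProduct.basis B' bA).repr (Algebra.TensorProduct.map d (AlgHom.id k A) y) j =
      d ((Algebra.TensorProduct.basis B bA).repr y j) := by
  induction y using TensorProduct.induction_on with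
  | zero => simp
  | tmul b a =>
    rw [Algebra.TensorProduct.map_tmul, AlgHom.coe_id, id_eq]
    rw [Algebra.TensorProduct.basis_repr_tmul, Algebra.TensorProduct.basis_repr_tmul]
    simp only [Finsupp.smul_apply, Finsupp.mapRange_apply, smul_eq_mul, map_mul,
      AlgHom.commutes]
  | add y z hy hz =>
    rw [map_add, map_add, map_add, Finsupp.add_apply, Finsupp.add_apply, map_add, hy, hz]

/-- the formal tube lemma: there is `r ∈ m` such that for every `k`-algebra `A`, every element of
`B ⊗ A` vanishing in all `(B/mⁿ) ⊗ A` is killed by `(1 - r) ⊗ 1` -/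
theorem exists_tube (B : Type u) [CommRing B] [Algebra k B] [IsNoetherianRing B] (m : Ideal B) :
    ∃ r ∈ m, ∀ (A : Type u) [CommRing A] [Algebra k A] (x : B ⊗[k] A),
      (∀ n : ℕ, Algebra.TensorProduct.map (Ideal.Quotient.mkₐ k (m ^ n)) (AlgHom.id k A) x = 0) →
      ((1 - r) ⊗ₜ[k] (1 : A)) * x = 0 := by
  obtain ⟨r, hr, h⟩ := exists_mul_eq_self B m
  refine ⟨r, hr, ?_⟩
  intro A _ _ x hx
  let bA := Module.Free.chooseBasis k A
  let 𝔟 := Algebra.TensorProduct.basis B bA
  have hcoord : ∀ j, r * 𝔟.repr x j = 𝔟.repr x j := by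
    intro j
    apply h
    intro n
    rw [← Ideal.Quotient.eq_zero_iff_mem]
    have := repr_map k bA (Ideal.Quotient.mkₐ k (m ^ n)) x j
    rw [hx n, map_zero, Finsupp.zero_apply] at this
    exact this.symm
  have hsm : ((1 - r) ⊗ₜ[k] (1 : A)) * x = (1 - r) • x := by
    rw [Algebra.smul_def, Algebra.TensorProduct.algebraMap_apply, Algebra.algebraMap_self,
      RingHom.id_apply]
  rw [hsm]
  apply 𝔟.repr.injective
  ext j
  rw [map_smul, map_zero, Finsupp.smul_apply, Finsupp.zero_apply, smul_eq_mul, sub_mul, one_mul,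
    hcoord, sub_self]

end Groth.Agent.Lib.Helper19.KrullTube
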