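import Mathlib
import Groth.Prelude.Def_AlgGrp

set_option autoImplicit false
set_option linter.style.haveILetI false
universe u
open CategoryTheory CategoryTheory.Limits MonoidalCategory CartesianMonoidalCategory AlgebraicGeometry
open scoped TensorProduct

namespace Groth.Agent.Lib.Helper19.AffProd

variable (k : Type u) [Field k]

/-- `Spec B` as an object over `Spec k` -/
noncomputable abbrev SpO (B : Type u) [CommRing B] [Algebra k B] : Over (Spec (CommRingCat.of k)) :=
  Over.mk (Spec.map (CommRingCat.ofHom (algebraMap k B)))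

variable {k}

/-- the morphism `Spec B ⟶ Spec A` over `Spec k` induced by a `k`-algebra map `A → B` -/
noncomputable def SpO.map {A B : Type u} [CommRing A] [Algebra k A] [CommRing B] [Algebra k B]
    (f : A →ₐ[k] B) : SpO k B ⟶ SpO k A :=
  Over.homMk (Spec.map (CommRingCat.ofHom f.toRingHom)) (by
    change Spec.map (CommRingCat.ofHom f.toRingHom) ≫ Spec.map (CommRingCat.ofHom (algebraMap k A)) =
      Spec.map (CommRingCat.ofHom (algebraMap k B))
    rw [← Spec.map_comp, ← CommRingCat.ofHom_comp]
    congr 2
    exact f.comp_algebraMap)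

@[simp] theorem SpO.map_left {A B : Type u} [CommRing A] [Algebra k A] [CommRing B] [Algebra k B]
    (f : A →ₐ[k] B) : (SpO.map f).left = Spec.map (CommRingCat.ofHom f.toRingHom) := rfl

@[reassoc]
theorem SpO.map_comp {A B C : Type u} [CommRing A] [Algebra k A] [CommRing B] [Algebra k B]
    [CommRing C] [Algebra k C] (f : A →ₐ[k] B) (g : B →ₐ[k] C) :
    SpO.map (g.comp f) = SpO.map g ≫ SpO.map f := by
  ext1
  change Spec.map (CommRingCat.ofHom (g.comp f).toRingHom) =
    Spec.map (CommRingCat.ofHom g.toRingHom) ≫ Spec.map (CommRingCat.ofHom f.toRingHom)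
  rw [← Spec.map_comp, ← CommRingCat.ofHom_comp]
  rfl

/-- the canonical comparison `Spec (B ⊗ A) ⟶ Spec B × Spec A` -/
noncomputable def prodLift (B A : Type u) [CommRing B] [Algebra k B] [CommRing A] [Algebra k A] :
    SpO k (B ⊗[k] A) ⟶ SpO k B ⊗ SpO k A :=
  lift (SpO.map Algebra.TensorProduct.includeLeft) (SpO.map Algebra.TensorProduct.includeRight)

theorem prodLift_left (B A : Type u) [CommRing B] [Algebra k B] [CommRing A] [Algebra k A] :
    (prodLift (k := k) B A).left = (pullbackSpecIso k B A).inv := by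
  apply pullback.hom_ext
  · have := congrArg (fun φ => φ.left) (lift_fst (SpO.map (Algebra.TensorProduct.includeLeft (R := k) (S := k) (A := B) (B := A)))
      (SpO.map (Algebra.TensorProduct.includeRight (R := k) (A := B) (B := A))))
    simp only [Over.comp_left, Over.fst_left] at this
    exact this.trans (pullbackSpecIso_inv_fst k B A).symm
  · have := congrArg (fun φ => φ.left) (lift_snd (SpO.map (Algebra.TensorProduct.includeLeft (R := k) (S := k) (A := B) (B := A)))
      (SpO.map (Algebra.TensorProduct.includeRight (R := k) (A := B) (B := A))))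
    simp only [Over.comp_left, Over.snd_left] at this
    exact this.trans (pullbackSpecIso_inv_snd k B A).symm

instance (B A : Type u) [CommRing B] [Algebra k B] [CommRing A] [Algebra k A] :
    IsIso (prodLift (k := k) B A) := by
  have : IsIso ((Over.forget _).map (prodLift (k := k) B A)) := by
    change IsIso (prodLift (k := k) B A).left
    rw [prodLift_left]; infer_instance
  exact isIso_of_reflects_iso _ (Over.forget _)

/-- closed immersions into `Spec R` correspond to ideals: factorization criterion -/
theorem exists_ideal_of_isClosedImmersion {R : CommRingCat.{u}} {Z : Scheme.{u}} (c : Z ⟶ Spec R)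
    [IsClosedImmersion c] :
    ∃ I : Ideal R, (I = ⊥ → IsIso c) ∧ ∀ (R' : CommRingCat.{u}) (ψ : R ⟶ R'),
      (∃ z : Spec R' ⟶ Z, z ≫ c = Spec.map ψ) ↔ I ≤ RingHom.ker ψ.hom := by
  obtain ⟨I, e, he⟩ := IsClosedImmersion.Spec_iff.mp (inferInstance : IsClosedImmersion c)
  refine ⟨I, ?_, ?_⟩
  · rintro rfl
    have hb : Function.Bijective (Ideal.Quotient.mk (⊥ : Ideal R)) :=
      (RingEquiv.quotientBot R).symm.bijective
    have : IsIso (CommRingCat.ofHom (Ideal.Quotient.mk (⊥ : Ideal R))) :=
      (ConcreteCategory.isIso_iff_bijective _).mpr hb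
    rw [he]
    infer_instance
  · intro R' ψ
    constructor
    · rintro ⟨z, hz⟩
      obtain ⟨χ, hχ⟩ := Spec.map_surjective (z ≫ e.hom)
      have h1 : Spec.map (CommRingCat.ofHom (Ideal.Quotient.mk I) ≫ χ) = Spec.map ψ := by
        rw [Spec.map_comp, hχ, Category.assoc, ← he, hz]
      have h2 := Spec.map_injective h1
      intro a ha
      rw [RingHom.mem_ker, ← h2]
      change χ.hom (Ideal.Quotient.mk I a) = 0
      rw [Ideal.Quotient.eq_zero_iff_mem.mpr ha, map_zero]
    · intro h
      refine ⟨Spec.map (CommRingCat.ofHom (Ideal.Quotient.lift I ψ.hom (fun a ha => h ha))) ≫ e.inv, ?_⟩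
      rw [he, Category.assoc, Iso.inv_hom_id_assoc, ← Spec.map_comp]
      congr 1

/-- affine charts of a `k`-scheme, as morphisms over `Spec k` -/
theorem exists_chart (X : Over (Spec (CommRingCat.of k))) (x : X.left) :
    ∃ (B : Type u) (_ : CommRing B) (_ : Algebra k B) (j : SpO k B ⟶ X),
      IsOpenImmersion j.left ∧ x ∈ Set.range j.left.base := by
  obtain ⟨_, ⟨V : X.left.Opens, hV : IsAffineOpen V, rfl⟩, hxV, -⟩ :=
    X.left.isBasis_affineOpens.exists_subset_of_mem_open (Set.mem_univ x) isOpen_univ
  obtain ⟨ψ, hψ : Spec.map ψ = hV.fromSpec ≫ X.hom⟩ :=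
    Spec.homEquiv.symm.surjective (hV.fromSpec ≫ X.hom)
  letI : Algebra k Γ(X.left, V) := ψ.hom.toAlgebra
  refine ⟨Γ(X.left, V), inferInstance, inferInstance, Over.homMk hV.fromSpec hψ.symm, ?_, ?_⟩
  · change IsOpenImmersion hV.fromSpec
    infer_instance
  · change x ∈ Set.range hV.fromSpec.base
    rw [hV.range_fromSpec]
    exact hxV

theorem smooth_of_chart {X : Over (Spec (CommRingCat.of k))} [Smooth X.hom] {B : Type u}
    [CommRing B] [Algebra k B] (j : SpO k B ⟶ X) [IsOpenImmersion j.left] : Algebra.Smooth k B := by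
  have h1 : Smooth (SpO k B).hom := by
    rw [← Over.w j]; infer_instance
  have h2 : (CommRingCat.ofHom (algebraMap k B)).hom.Smooth :=
    (HasRingHomProperty.Spec_iff (P := @Smooth)).mp h1
  exact RingHom.smooth_algebraMap.mp h2

theorem finiteType_of_chart {X : Over (Spec (CommRingCat.of k))} [LocallyOfFiniteType X.hom]
    {B : Type u} [CommRing B] [Algebra k B] (j : SpO k B ⟶ X) [IsOpenImmersion j.left] :
    Algebra.FiniteType k B := by
  have h1 : LocallyOfFiniteType (SpO k B).hom := by
    rw [← Over.w j]; infer_instance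
  have h2 : (CommRingCat.ofHom (algebraMap k B)).hom.FiniteType :=
    (HasRingHomProperty.Spec_iff (P := @LocallyOfFiniteType)).mp h1
  exact RingHom.finiteType_algebraMap.mp h2

end Groth.Agent.Lib.Helper19.AffProd
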