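import Mathlib
import Groth.Prelude.Def_AlgGrp
import Groth.Agent.Lib.Helper81.GrpQuotDesc

/-!
# Descent of morphisms along quotient homomorphisms of group schemes

For a kernel `j : H ⟶ G` of a homomorphism `q : G ⟶ Q` of group objects of `Over S`
(`AlgGrp.IsKernel j q`):

* `exists_lift_of_isKernel`: points of `G` killed by `q` come from `H`;
* `exists_eq_mul_of_isKernel`: two points of `G` with the same image differ by a point of `H`;
* `exists_desc_of_isKernel`: if `q.left` is an effective epimorphism of schemes (e.g. flat surjective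
  and quasi-compact, or fppf), a morphism `φ : G ⟶ X` invariant under right translation by `H`
  factors through `q`.

Also `exists_factor_of_isAffine`: a morphism from a proper integral scheme over an algebraically
closed field `k` to an affine scheme factors through `Spec k`.
-/

set_option autoImplicit false
universe u
open CategoryTheory CategoryTheory.Limits MonoidalCategory CartesianMonoidalCategory MonObj GrpObj
  AlgebraicGeometry

namespace Groth.Agent.Lib.Helper19.QuotDesc

section
variable {S : Scheme.{u}} {G H Q : Over S} [GrpObj G] [GrpObj H] [GrpObj Q]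

theorem exists_lift_of_isKernel {j : H ⟶ G} {q : G ⟶ Q} (hker : AlgGrp.IsKernel j q)
    {T : Over S} (g : T ⟶ G) (hg : g ≫ q = 1) : ∃ h : T ⟶ H, h ≫ j = g := by
  refine ⟨hker.lift g (toUnit T) ?_, hker.lift_fst _ _ _⟩
  rw [hg, Hom.one_def]

theorem exists_eq_mul_of_isKernel {j : H ⟶ G} {q : G ⟶ Q} [IsMonHom q]
    (hker : AlgGrp.IsKernel j q) {T : Over S} (g₁ g₂ : T ⟶ G) (h12 : g₁ ≫ q = g₂ ≫ q) :
    ∃ h : T ⟶ H, g₂ = g₁ * (h ≫ j) := by
  obtain ⟨h, hh⟩ := exists_lift_of_isKernel hker (g₁⁻¹ * g₂) (by
    rw [MonObj.mul_comp, GrpObj.inv_comp, h12, inv_mul_cancel])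
  exact ⟨h, by rw [hh]; group⟩

theorem exists_desc_of_isKernel {j : H ⟶ G} {q : G ⟶ Q} [IsMonHom q] [EffectiveEpi q.left]
    (hker : AlgGrp.IsKernel j q) {X : Over S} (φ : G ⟶ X)
    (hφ : ∀ {T : Over S} (g : T ⟶ G) (h : T ⟶ H), (g * (h ≫ j)) ≫ φ = g ≫ φ) :
    ∃ φ' : Q ⟶ X, q ≫ φ' = φ := by
  refine Groth.Agent.Lib.Helper81.GrpQuotDesc.exists_desc q
    (pullback.fst q q) (pullback.snd q q) (IsPullback.of_hasPullback q q) φ ?_
  obtain ⟨h, hh⟩ := exists_eq_mul_of_isKernel hker _ _ (pullback.condition (f := q) (g := q))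
  rw [hh, hφ]

end

/-- morphisms from a proper integral scheme over an algebraically closed field to an affine scheme
factor through the structure morphism. -/
theorem exists_factor_of_isAffine (k : Type u) [Field k] [IsAlgClosed k] {X Y : Scheme.{u}}
    (f : X ⟶ Spec (CommRingCat.of k)) [IsIntegral X] [UniversallyClosed f] [LocallyOfFiniteType f]
    [IsAffine Y] (g : X ⟶ Y) : ∃ c : Spec (CommRingCat.of k) ⟶ Y, g = f ≫ c := by
  have hfin := finite_appTop_of_universallyClosed k f
  have hfield := isField_of_universallyClosed k f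
  let F := (Scheme.ΓSpecIso (CommRingCat.of k)).inv ≫ f.appTop
  have hFfin : F.hom.Finite := by
    apply RingHom.finite_respectsIso.2 (e := (Scheme.ΓSpecIso _).symm.commRingCatIsoToRingEquiv)
    exact hfin
  let _ := hfield.toField
  algebraize [F.hom]
  have hbij : Function.Bijective F.hom := by
    have : Algebra.IsIntegral k Γ(X, ⊤) := Algebra.IsIntegral.of_finite k _
    exact IsAlgClosed.algebraMap_bijective_of_isIntegral
  have hiso : IsIso F := by
    rw [ConcreteCategory.isIso_iff_bijective]
    exact hbij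
  have hiso2 : IsIso f.appTop := by
    have : f.appTop = (Scheme.ΓSpecIso (CommRingCat.of k)).hom ≫ F := by simp [F]
    rw [this]; infer_instance
  have hnat := Scheme.toSpecΓ_naturality f
  have h1 : X.toSpecΓ = f ≫ (Spec (CommRingCat.of k)).toSpecΓ ≫ inv (Spec.map f.appTop) := by
    rw [← Category.assoc, hnat, Category.assoc, IsIso.hom_inv_id, Category.comp_id]
  have hg : g = X.toSpecΓ ≫ Spec.map g.appTop ≫ inv Y.toSpecΓ := by
    rw [← Category.assoc, ← Scheme.toSpecΓ_naturality, Category.assoc, IsIso.hom_inv_id,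
      Category.comp_id]
  refine ⟨(Spec (CommRingCat.of k)).toSpecΓ ≫ inv (Spec.map f.appTop) ≫ Spec.map g.appTop ≫
    inv Y.toSpecΓ, ?_⟩
  rw [h1] at hg
  exact hg.trans (by simp only [Category.assoc])

end Groth.Agent.Lib.Helper19.QuotDesc
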