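import Groth.Agent.S0348
import Groth.Agent.S5342
import Groth.Agent.Lib.Helper19.Grp.QuotDesc
import Groth.Agent.Lib.Helper19.Act.SectionRigid

/-!
# Constancy of maps from proper varieties to affine schemes, integrality of products of groups

* `eq_toUnit_comp_of_isAffine`: over an algebraically closed field `k`, a morphism `ψ : X ⟶ Y` of
  `k`-schemes with `X` proper integral and `Y` affine is constant: `ψ = toUnit X ≫ x ≫ ψ` for any
  rational point `x`.
* `isIntegral_tensor`: the product of two smooth connected group schemes over a field is integral.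
* `isIntegral_of_smooth_connected`: a smooth connected group scheme over a field is integral.
-/

set_option autoImplicit false
universe u
open CategoryTheory CategoryTheory.Limits MonoidalCategory CartesianMonoidalCategory MonObj GrpObj
  AlgebraicGeometry

namespace Groth.Agent.Lib.Helper19.QuotDesc

theorem eq_toUnit_comp_of_isAffine (k : Type u) [Field k] [IsAlgClosed k]
    {X Y : Over (Spec (CommRingCat.of k))} [IsIntegral X.left] [UniversallyClosed X.hom]
    [LocallyOfFiniteType X.hom] [IsAffine Y.left] (ψ : X ⟶ Y)
    (x : 𝟙_ (Over (Spec (CommRingCat.of k))) ⟶ X) : ψ = toUnit X ≫ x ≫ ψ := by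
  obtain ⟨c, hc⟩ := exists_factor_of_isAffine k X.hom ψ.left
  have hw : x.left ≫ X.hom = 𝟙 _ := Over.w x
  ext
  rw [Over.comp_left, Over.comp_left, Over.toUnit_left, hc, ← Category.assoc x.left, hw,
    Category.id_comp]

theorem isIntegral_of_smooth_connected (k : Type u) [Field k]
    (A : Over (Spec (CommRingCat.of k))) [GrpObj A] [Smooth A.hom]
    [ConnectedSpace A.left] : IsIntegral A.left := by
  haveI : IrreducibleSpace A.left := Groth.Agent.S0348.result k A
  haveI : IsReduced A.left := Groth.Agent.Lib.Helper19.Act.isReduced_of_smooth A.hom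
  exact isIntegral_of_irreducibleSpace_of_isReduced _

theorem isIntegral_tensor (k : Type u) [Field k]
    (A B : Over (Spec (CommRingCat.of k))) [GrpObj A] [GrpObj B] [Smooth A.hom] [Smooth B.hom]
    [ConnectedSpace A.left] [ConnectedSpace B.left] : IsIntegral (A ⊗ B).left := by
  haveI : ConnectedSpace (A ⊗ B).left :=
    Groth.Agent.S5342.result k A.left B.left A.hom B.hom η[A].left (Over.w η[A])
  haveI : Smooth (A ⊗ B).hom := by
    rw [Over.tensorObj_hom]
    infer_instance
  exact isIntegral_of_smooth_connected k (A ⊗ B)

end Groth.Agent.Lib.Helper19.QuotDesc
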