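import Groth.Agent.Lib.Helper22.Rigidity
import Groth.Agent.Lib.Helper19.Grp.ProperAffineConst
import Groth.Agent.S5331

/-!
# Abelian subvarieties are central; finiteness of intersections with affine subgroups

Over an algebraically closed field `k`:

* `commute_of_proper`: a homomorphism (pointed morphism) from a smooth connected proper group `A`
  and one from a smooth connected group `B` into a group `C` have commuting images
  (rigidity lemma, `Helper22.Rigidity.rigidity_algClosed`).

Over any base:

* `isPullback_of_points`: a commutative square in `Over S` is a pullback if it is so on points.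
* `isFinite_of_isPullback`: a fibre product of closed subschemes `A`, `N` of `G` with `A` proper and
  `N` affine over an affine base is finite.
-/

set_option autoImplicit false
set_option linter.style.haveILetI false
universe u
open CategoryTheory CategoryTheory.Limits MonoidalCategory CartesianMonoidalCategory MonObj GrpObj
  AlgebraicGeometry

namespace Groth.Agent.Lib.Helper19.CentralAbelian

section AlgClosed
variable {K : Type u} [Field K] [IsAlgClosed K]

/-- group schemes over a field are separated -/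
theorem isSeparated_of_field (k : Type u) [Field k] (G : Over (Spec (CommRingCat.of k))) [GrpObj G] :
    IsSeparated G.hom := by
  haveI : DiscreteTopology (Spec (CommRingCat.of k)) := inferInstance
  exact Groth.Agent.S5331.result _ G

theorem commute_of_proper (A B C : Over (Spec (.of K))) [GrpObj A] [GrpObj B] [GrpObj C]
    [IsProper A.hom] [Smooth A.hom] [ConnectedSpace A.left] [Smooth B.hom] [ConnectedSpace B.left]
    (h₁ : A ⟶ C) (h₂ : B ⟶ C)
    (e₁ : η[A] ≫ h₁ = η[C]) (e₂ : η[B] ≫ h₂ = η[C]) {T : Over (Spec (.of K))}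
    (a : T ⟶ A) (b : T ⟶ B) : Commute (a ≫ h₁) (b ≫ h₂) := by
  haveI : IsIntegral A.left := QuotDesc.isIntegral_of_smooth_connected K A
  haveI : IsIntegral (A ⊗ B).left := QuotDesc.isIntegral_tensor K A B
  haveI : IsSeparated C.hom := isSeparated_of_field K C
  set p : A ⊗ B ⟶ C := fst A B ≫ h₁ with hp
  set q : A ⊗ B ⟶ C := snd A B ≫ h₂ with hq
  let κ : A ⊗ B ⟶ C := p * q * p⁻¹ * q⁻¹
  set j : A ⟶ A ⊗ B := lift (𝟙 A) (toUnit A ≫ η[B]) with hj
  set σ : B ⟶ A ⊗ B := lift (toUnit B ≫ η[A]) (𝟙 B) with hσ
  have hjp : j ≫ p = h₁ := by simp [j, p]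
  have hjq : j ≫ q = 1 := by
    rw [hj, hq, lift_snd_assoc, Category.assoc, e₂, ← Hom.one_def]
  have hσp : σ ≫ p = 1 := by
    rw [hσ, hp, lift_fst_assoc, Category.assoc, e₁, ← Hom.one_def]
  have hσq : σ ≫ q = h₂ := by simp [σ, q]
  have hjκ : j ≫ κ = toUnit A ≫ η[C] := by
    rw [← Hom.one_def]
    simp only [κ, comp_mul, GrpObj.comp_inv, hjp, hjq]
    simp
  have hσκ : σ ≫ κ = 1 := by
    simp only [κ, comp_mul, GrpObj.comp_inv, hσp, hσq]
    simp
  have hκ : κ = 1 := by
    rw [Groth.Agent.Lib.Helper22.Rigidity.rigidity_algClosed A B C κ η[A] η[B] η[C] hjκ, ← hσ, hσκ,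
      comp_one]
  have := congr(lift a b ≫ $hκ)
  simp only [κ, comp_mul, GrpObj.comp_inv, comp_one, p, q, lift_fst_assoc, lift_snd_assoc] at this
  rw [← commutatorElement_eq_one_iff_commute, commutatorElement_def]
  exact this

end AlgClosed

section
variable {S : Scheme.{u}}

theorem isPullback_of_points {K A N G : Over S} (p₁ : K ⟶ A) (p₂ : K ⟶ N) (j : A ⟶ G) (i : N ⟶ G)
    (w : p₁ ≫ j = p₂ ≫ i)
    (hex : ∀ {T : Over S} (a : T ⟶ A) (n : T ⟶ N), a ≫ j = n ≫ i →
      ∃ t : T ⟶ K, t ≫ p₁ = a ∧ t ≫ p₂ = n)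
    (huniq : ∀ {T : Over S} (t t' : T ⟶ K), t ≫ p₁ = t' ≫ p₁ → t ≫ p₂ = t' ≫ p₂ → t = t') :
    IsPullback p₁ p₂ j i := by
  refine ⟨⟨w⟩, ⟨PullbackCone.IsLimit.mk _ (fun s => (hex s.fst s.snd s.condition).choose)
    (fun s => (hex s.fst s.snd s.condition).choose_spec.1)
    (fun s => (hex s.fst s.snd s.condition).choose_spec.2) ?_⟩⟩
  intro s m h1 h2
  exact huniq _ _ (h1.trans (hex s.fst s.snd s.condition).choose_spec.1.symm)
    (h2.trans (hex s.fst s.snd s.condition).choose_spec.2.symm)

theorem isFinite_of_isPullback [IsAffine S] {K A N G : Over S} (p₁ : K ⟶ A) (p₂ : K ⟶ N)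
    (j : A ⟶ G) (i : N ⟶ G) [IsClosedImmersion j.left] [IsClosedImmersion i.left]
    (h : IsPullback p₁ p₂ j i) [IsProper A.hom] [IsAffine N.left] : IsFinite K.hom := by
  have h' : IsPullback p₁.left p₂.left j.left i.left := h.map (Over.forget S)
  haveI : IsClosedImmersion p₁.left :=
    MorphismProperty.of_isPullback (P := @IsClosedImmersion) h'.flip inferInstance
  haveI : IsClosedImmersion p₂.left :=
    MorphismProperty.of_isPullback (P := @IsClosedImmersion) h' inferInstance
  haveI : IsProper K.hom := by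
    rw [← Over.w p₁]
    infer_instance
  haveI : IsAffine K.left := isAffine_of_isAffineHom p₂.left
  haveI : IsAffineHom K.hom := inferInstance
  rw [IsFinite.iff_isProper_and_isAffineHom]
  exact ⟨inferInstance, inferInstance⟩

end

end Groth.Agent.Lib.Helper19.CentralAbelian
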