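import Groth.Agent.Lib.Helper19.Grp.AntiAffine
import Groth.Agent.Lib.Helper19.Grp.QuotDesc
import Groth.Agent.Lib.Helper19.Grp.CentralAbelian

/-!
# Extensions of anti-affine groups are anti-affine
-/

set_option autoImplicit false
set_option linter.style.haveILetI false
universe u
open CategoryTheory CategoryTheory.Limits MonoidalCategory CartesianMonoidalCategory MonObj GrpObj
  AlgebraicGeometry

namespace Groth.Agent.Lib.Helper19.AntiAffine

/-- morphisms into an affine scheme are determined by their effect on global sections -/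
theorem ext_to_Spec {W : Scheme.{u}} {R : CommRingCat.{u}} (a b : W ⟶ Spec R)
    (h : a.appTop = b.appTop) : a = b := by
  have ha : ∀ c : W ⟶ Spec R,
      c = W.toSpecΓ ≫ Spec.map c.appTop ≫ Spec.map (Scheme.ΓSpecIso R).inv := by
    intro c
    rw [← Scheme.toSpecΓ_naturality_assoc, toSpecΓ_SpecMap_ΓSpecIso_inv, Category.comp_id]
  rw [ha a, ha b, h]

variable {k : Type u} [Field k]

/-- the affinization `X ⟶ Spec Γ(X)` as an object and morphism over `Spec k` -/
noncomputable def affinization (X : Over (Spec (CommRingCat.of k))) :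
    Over (Spec (CommRingCat.of k)) :=
  Over.mk (Spec.map ((Scheme.ΓSpecIso (CommRingCat.of k)).inv ≫ X.hom.appTop))

noncomputable def toAffinization (X : Over (Spec (CommRingCat.of k))) : X ⟶ affinization X :=
  Over.homMk X.left.toSpecΓ (by
    change X.left.toSpecΓ ≫ Spec.map ((Scheme.ΓSpecIso (CommRingCat.of k)).inv ≫ X.hom.appTop) = X.hom
    rw [Spec.map_comp, ← Scheme.toSpecΓ_naturality_assoc, toSpecΓ_SpecMap_ΓSpecIso_inv,
      Category.comp_id])

/-- an extension of anti-affine groups is anti-affine -/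
theorem isIso_appTop_of_extension (G₁ G G₂ : Over (Spec (CommRingCat.of k))) [GrpObj G₁] [GrpObj G]
    [GrpObj G₂] [CompactSpace G.left] [QuasiSeparatedSpace G.left] [CompactSpace G₁.left]
    [QuasiSeparatedSpace G₁.left] (i : G₁ ⟶ G) [IsMonHom i] (q : G ⟶ G₂) [IsMonHom q]
    [Flat q.left] [Surjective q.left] [EffectiveEpi q.left]
    (hex : AlgGrp.IsKernel i q) (h₁ : IsIso G₁.hom.appTop) (h₂ : IsIso G₂.hom.appTop) :
    IsIso G.hom.appTop := by
  let φ := toAffinization G
  haveI hfst := isIso_fst_appTop G G₁ h₁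
  let σ : G ⟶ G ⊗ G₁ := lift (𝟙 G) (toUnit G ≫ η[G₁])
  let m : G ⊗ G₁ ⟶ G := fst G G₁ * (snd G G₁ ≫ i)
  have hσfst : σ ≫ fst G G₁ = 𝟙 G := lift_fst _ _
  have hσm : σ ≫ m = 𝟙 G := by
    change lift (𝟙 G) (toUnit G ≫ η[G₁]) ≫ (fst G G₁ * (snd G G₁ ≫ i)) = 𝟙 G
    rw [comp_mul, lift_fst, lift_snd_assoc, Category.assoc, IsMonHom.one_hom, ← Hom.one_def,
      _root_.mul_one]
  have e1 : (fst G G₁).left.appTop ≫ σ.left.appTop = 𝟙 _ := by
    rw [← Scheme.Hom.comp_appTop, ← Over.comp_left, hσfst, Over.id_left, Scheme.Hom.id_appTop]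
  have e2 : m.left.appTop ≫ σ.left.appTop = 𝟙 _ := by
    rw [← Scheme.Hom.comp_appTop, ← Over.comp_left, hσm, Over.id_left, Scheme.Hom.id_appTop]
  have e3 : σ.left.appTop ≫ (fst G G₁).left.appTop = 𝟙 _ := by
    rw [← cancel_epi ((fst G G₁).left.appTop), ← Category.assoc, e1, Category.id_comp,
      Category.comp_id]
  have hm : m.left.appTop = (fst G G₁).left.appTop := by
    calc m.left.appTop = m.left.appTop ≫ (σ.left.appTop ≫ (fst G G₁).left.appTop) := by
          rw [e3, Category.comp_id]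
      _ = (m.left.appTop ≫ σ.left.appTop) ≫ (fst G G₁).left.appTop := by rw [Category.assoc]
      _ = (fst G G₁).left.appTop := by rw [e2, Category.id_comp]
  have hinv : m ≫ φ = fst G G₁ ≫ φ := by
    apply Over.OverMorphism.ext
    rw [Over.comp_left, Over.comp_left]
    change m.left ≫ G.left.toSpecΓ = (fst G G₁).left ≫ G.left.toSpecΓ
    apply ext_to_Spec
    rw [Scheme.Hom.comp_appTop, Scheme.Hom.comp_appTop, hm]
  obtain ⟨φ', hφ'⟩ := Groth.Agent.Lib.Helper19.QuotDesc.exists_desc_of_isKernel hex φ (by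
    intro T g h
    have e1 : g * (h ≫ i) = lift g h ≫ m := by
      change _ = lift g h ≫ (fst G G₁ * (snd G G₁ ≫ i))
      rw [comp_mul, lift_fst, lift_snd_assoc]
    have e2 : g = lift g h ≫ fst G G₁ := (lift_fst _ _).symm
    rw [e1, Category.assoc, hinv, ← Category.assoc, ← e2])
  have hφiso : IsIso φ.left.appTop := by
    change IsIso G.left.toSpecΓ.appTop
    rw [Scheme.toSpecΓ_appTop]
    infer_instance
  have hcomp : φ.left.appTop = φ'.left.appTop ≫ q.left.appTop := by
    rw [← Scheme.Hom.comp_appTop, ← Over.comp_left, hφ']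
  have hqinj := appTop_injective_of_flat_of_surjective q.left
  have hqsurj : Function.Surjective q.left.appTop.hom := by
    intro b
    obtain ⟨c, hc⟩ := ((ConcreteCategory.isIso_iff_bijective _).mp hφiso).2 b
    refine ⟨φ'.left.appTop.hom c, ?_⟩
    rw [← hc, hcomp]
    rfl
  haveI : IsIso q.left.appTop := (ConcreteCategory.isIso_iff_bijective _).mpr ⟨hqinj, hqsurj⟩
  have e : G.hom.appTop = G₂.hom.appTop ≫ q.left.appTop := by
    rw [← Scheme.Hom.comp_appTop, Over.w q]
  rw [e]
  infer_instance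

end Groth.Agent.Lib.Helper19.AntiAffine
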