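import Mathlib

set_option autoImplicit false

namespace Groth.Agent.Lib.Helper19.CommWords

open scoped commutatorElement

variable {Γ : Type*} [Group Γ]

/-- if generators commute modulo a normal subgroup, so do the generated subgroups -/
theorem commutator_closure_le (N : Subgroup Γ) [N.Normal] (A B : Set Γ)
    (h : ∀ a ∈ A, ∀ b ∈ B, ⁅a, b⁆ ∈ N) :
    ⁅Subgroup.closure A, Subgroup.closure B⁆ ≤ N := by
  rw [Subgroup.commutator_le]
  have key : ∀ x y : Γ, ⁅x, y⁆ ∈ N ↔ Commute (QuotientGroup.mk' N x) (QuotientGroup.mk' N y) := by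
    intro x y
    rw [← commutatorElement_eq_one_iff_commute, ← map_commutatorElement,
      QuotientGroup.mk'_apply, QuotientGroup.eq_one_iff]
  -- step 1: a ∈ A, y ∈ closure B
  have h1 : ∀ a ∈ A, ∀ y ∈ Subgroup.closure B, ⁅a, y⁆ ∈ N := by
    intro a ha
    have : Subgroup.closure B ≤
        (Subgroup.centralizer {QuotientGroup.mk' N a}).comap (QuotientGroup.mk' N) := by
      rw [Subgroup.closure_le]
      intro b hb
      rw [SetLike.mem_coe, Subgroup.mem_comap, Subgroup.mem_centralizer_iff]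
      intro z hz
      rw [Set.mem_singleton_iff] at hz
      subst hz
      exact ((key a b).mp (h a ha b hb)).eq
    intro y hy
    have hy' := this hy
    rw [Subgroup.mem_comap, Subgroup.mem_centralizer_iff] at hy'
    rw [key]
    exact hy' _ rfl
  intro x hx y hy
  have : Subgroup.closure A ≤
      (Subgroup.centralizer {QuotientGroup.mk' N y}).comap (QuotientGroup.mk' N) := by
    rw [Subgroup.closure_le]
    intro a ha
    rw [SetLike.mem_coe, Subgroup.mem_comap, Subgroup.mem_centralizer_iff]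
    intro z hz
    rw [Set.mem_singleton_iff] at hz
    subst hz
    exact ((key a y).mp (h1 a ha y hy)).eq.symm
  have hx' := this hx
  rw [Subgroup.mem_comap, Subgroup.mem_centralizer_iff] at hx'
  rw [key]
  exact (hx' _ rfl).symm

/-- the closure of a conjugation-invariant set is normal -/
theorem normal_closure_of_conj (W : Set Γ) (hW : ∀ g : Γ, ∀ w ∈ W, g * w * g⁻¹ ∈ W) :
    (Subgroup.closure W).Normal := by
  constructor
  intro n hn g
  induction hn using Subgroup.closure_induction with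
  | mem x hx => exact Subgroup.subset_closure (hW g x hx)
  | one => simp
  | mul x y _ _ hx hy =>
    have : g * (x * y) * g⁻¹ = (g * x * g⁻¹) * (g * y * g⁻¹) := by group
    rw [this]
    exact Subgroup.mul_mem _ hx hy
  | inv x _ hx =>
    have : g * x⁻¹ * g⁻¹ = (g * x * g⁻¹)⁻¹ := by group
    rw [this]
    exact Subgroup.inv_mem _ hx

/-- iterated commutator words for the derived series -/
def dW : ℕ → Set Γ
  | 0 => Set.univ
  | n + 1 => {z | ∃ x ∈ dW n, ∃ y ∈ dW n, ⁅x, y⁆ = z}

/-- iterated commutator words for the lower central series -/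
def lW : ℕ → Set Γ
  | 0 => Set.univ
  | n + 1 => {z | ∃ x ∈ lW n, ∃ y : Γ, ⁅x, y⁆ = z}

theorem dW_conj : ∀ (n : ℕ) (g : Γ), ∀ w ∈ (dW n : Set Γ), g * w * g⁻¹ ∈ (dW n : Set Γ)
  | 0, _, _, _ => Set.mem_univ _
  | n + 1, g, w, hw => by
    obtain ⟨x, hx, y, hy, rfl⟩ := hw
    refine ⟨g * x * g⁻¹, dW_conj n g x hx, g * y * g⁻¹, dW_conj n g y hy, ?_⟩
    simp only [commutatorElement_def]
    group

theorem lW_conj : ∀ (n : ℕ) (g : Γ), ∀ w ∈ (lW n : Set Γ), g * w * g⁻¹ ∈ (lW n : Set Γ)
  | 0, _, _, _ => Set.mem_univ _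
  | n + 1, g, w, hw => by
    obtain ⟨x, hx, y, rfl⟩ := hw
    refine ⟨g * x * g⁻¹, lW_conj n g x hx, g * y * g⁻¹, ?_⟩
    simp only [commutatorElement_def]
    group

theorem derivedSeries_le_closure_dW : ∀ n : ℕ, derivedSeries Γ n ≤ Subgroup.closure (dW n : Set Γ)
  | 0 => by simp [dW]
  | n + 1 => by
    rw [derivedSeries_succ]
    have := normal_closure_of_conj (dW (n + 1) : Set Γ) (dW_conj (n + 1))
    refine (Subgroup.commutator_mono (derivedSeries_le_closure_dW n)
      (derivedSeries_le_closure_dW n)).trans ?_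
    apply commutator_closure_le
    intro a ha b hb
    exact Subgroup.subset_closure ⟨a, ha, b, hb, rfl⟩

theorem lowerCentralSeries_le_closure_lW :
    ∀ n : ℕ, Subgroup.lowerCentralSeries (⊤ : Subgroup Γ) n ≤ Subgroup.closure (lW n : Set Γ)
  | 0 => by simp [lW, Subgroup.lowerCentralSeries]
  | n + 1 => by
    change ⁅Subgroup.lowerCentralSeries (⊤ : Subgroup Γ) n, (⊤ : Subgroup Γ)⁆ ≤ _
    have := normal_closure_of_conj (lW (n + 1) : Set Γ) (lW_conj (n + 1))
    refine (Subgroup.commutator_mono (lowerCentralSeries_le_closure_lW n) le_rfl).trans ?_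
    rw [← Subgroup.closure_univ]
    apply commutator_closure_le
    intro a ha b _
    exact Subgroup.subset_closure ⟨a, ha, b, rfl⟩

theorem derivedSeries_eq_bot_of_dW (n : ℕ) (h : ∀ w ∈ (dW n : Set Γ), w = 1) :
    derivedSeries Γ n = ⊥ := by
  rw [eq_bot_iff]
  refine (derivedSeries_le_closure_dW n).trans ?_
  rw [Subgroup.closure_le]
  intro w hw
  rw [h w hw]
  exact Subgroup.one_mem _

theorem lowerCentralSeries_eq_bot_of_lW (n : ℕ) (h : ∀ w ∈ (lW n : Set Γ), w = 1) :
    Subgroup.lowerCentralSeries (⊤ : Subgroup Γ) n = ⊥ := by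
  rw [eq_bot_iff]
  refine (lowerCentralSeries_le_closure_lW n).trans ?_
  rw [Subgroup.closure_le]
  intro w hw
  rw [h w hw]
  exact Subgroup.one_mem _

theorem dW_subset_derivedSeries : ∀ n : ℕ, (dW n : Set Γ) ⊆ derivedSeries Γ n
  | 0 => by simp [dW]
  | n + 1 => by
    rintro _ ⟨x, hx, y, hy, rfl⟩
    rw [derivedSeries_succ]
    exact Subgroup.commutator_mem_commutator (dW_subset_derivedSeries n hx)
      (dW_subset_derivedSeries n hy)

theorem lW_subset_lowerCentralSeries :
    ∀ n : ℕ, (lW n : Set Γ) ⊆ Subgroup.lowerCentralSeries (⊤ : Subgroup Γ) n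
  | 0 => by simp [lW, Subgroup.lowerCentralSeries]
  | n + 1 => by
    rintro _ ⟨x, hx, y, rfl⟩
    change _ ∈ ⁅Subgroup.lowerCentralSeries (⊤ : Subgroup Γ) n, (⊤ : Subgroup Γ)⁆
    exact Subgroup.commutator_mem_commutator (lW_subset_lowerCentralSeries n hx) trivial

end Groth.Agent.Lib.Helper19.CommWords
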