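import Mathlib
import Groth.Agent.Lib.Helper19.Grp.CommWords
import Groth.Agent.Lib.Helper81.KPointsDense

set_option autoImplicit false
universe u v
open CategoryTheory CategoryTheory.Limits MonoidalCategory CartesianMonoidalCategory MonObj GrpObj
  AlgebraicGeometry
open scoped commutatorElement

namespace Groth.Agent.Lib.Helper19.CommWords

section general

variable {C : Type u} [Category.{v} C] [CartesianMonoidalCategory C] (G : C) [GrpObj G]

theorem comp_commutatorElement {T T' : C} (t : T' ⟶ T) (a b : T ⟶ G) :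
    t ≫ ⁅a, b⁆ = ⁅t ≫ a, t ≫ b⁆ := by
  simp only [commutatorElement_def, comp_mul, comp_inv]

/-- parameter object of the universal `n`-fold derived commutator word -/
noncomputable def dP : ℕ → C
  | 0 => G
  | n + 1 => dP n ⊗ dP n

/-- the universal `n`-fold derived commutator word -/
noncomputable def dC : (n : ℕ) → (dP G n ⟶ G)
  | 0 => 𝟙 G
  | n + 1 => (⁅fst (dP G n) (dP G n) ≫ dC n, snd (dP G n) (dP G n) ≫ dC n⁆ :
      dP G n ⊗ dP G n ⟶ G)

/-- parameter object of the universal `n`-fold lower-central commutator word -/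
noncomputable def lP : ℕ → C
  | 0 => G
  | n + 1 => lP n ⊗ G

/-- the universal `n`-fold lower-central commutator word -/
noncomputable def lC : (n : ℕ) → (lP G n ⟶ G)
  | 0 => 𝟙 G
  | n + 1 => (⁅fst (lP G n) G ≫ lC n, snd (lP G n) G⁆ : lP G n ⊗ G ⟶ G)

theorem exists_of_mem_dW : ∀ (n : ℕ) {T : C} (w : T ⟶ G), w ∈ (dW n : Set (T ⟶ G)) →
    ∃ t : T ⟶ dP G n, t ≫ dC G n = w
  | 0, _, w, _ => ⟨w, Category.comp_id _⟩
  | n + 1, T, w, hw => by
    obtain ⟨x, hx, y, hy, rfl⟩ := hw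
    obtain ⟨tx, rfl⟩ := exists_of_mem_dW n x hx
    obtain ⟨ty, rfl⟩ := exists_of_mem_dW n y hy
    refine ⟨lift tx ty, ?_⟩
    change lift tx ty ≫ (⁅fst (dP G n) (dP G n) ≫ dC G n, snd (dP G n) (dP G n) ≫ dC G n⁆ :
      dP G n ⊗ dP G n ⟶ G) = _
    rw [comp_commutatorElement, lift_fst_assoc, lift_snd_assoc]

theorem comp_dC_mem_dW : ∀ (n : ℕ) {T : C} (t : T ⟶ dP G n), t ≫ dC G n ∈ (dW n : Set (T ⟶ G))
  | 0, _, _ => Set.mem_univ _
  | n + 1, T, t => by
    change T ⟶ dP G n ⊗ dP G n at t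
    change t ≫ (⁅fst (dP G n) (dP G n) ≫ dC G n, snd (dP G n) (dP G n) ≫ dC G n⁆ :
      dP G n ⊗ dP G n ⟶ G) ∈ _
    rw [comp_commutatorElement]
    refine ⟨_, ?_, _, ?_, rfl⟩
    · rw [← Category.assoc]; exact comp_dC_mem_dW n _
    · rw [← Category.assoc]; exact comp_dC_mem_dW n _

theorem exists_of_mem_lW : ∀ (n : ℕ) {T : C} (w : T ⟶ G), w ∈ (lW n : Set (T ⟶ G)) →
    ∃ t : T ⟶ lP G n, t ≫ lC G n = w
  | 0, _, w, _ => ⟨w, Category.comp_id _⟩
  | n + 1, T, w, hw => by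
    obtain ⟨x, hx, y, rfl⟩ := hw
    obtain ⟨tx, rfl⟩ := exists_of_mem_lW n x hx
    refine ⟨lift tx y, ?_⟩
    change lift tx y ≫ (⁅fst (lP G n) G ≫ lC G n, snd (lP G n) G⁆ : lP G n ⊗ G ⟶ G) = _
    rw [comp_commutatorElement, lift_fst_assoc, lift_snd]

theorem comp_lC_mem_lW : ∀ (n : ℕ) {T : C} (t : T ⟶ lP G n), t ≫ lC G n ∈ (lW n : Set (T ⟶ G))
  | 0, _, _ => Set.mem_univ _
  | n + 1, T, t => by
    change T ⟶ lP G n ⊗ G at t
    change t ≫ (⁅fst (lP G n) G ≫ lC G n, snd (lP G n) G⁆ : lP G n ⊗ G ⟶ G) ∈ _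
    rw [comp_commutatorElement]
    refine ⟨_, ?_, _, rfl⟩
    rw [← Category.assoc]; exact comp_lC_mem_lW n _

theorem derivedSeries_eq_bot_of_dC (n : ℕ) (h : dC G n = 1) (T : C) :
    derivedSeries (T ⟶ G) n = ⊥ := by
  apply derivedSeries_eq_bot_of_dW
  intro w hw
  obtain ⟨t, rfl⟩ := exists_of_mem_dW G n w hw
  rw [h, comp_one]

theorem lowerCentralSeries_eq_bot_of_lC (n : ℕ) (h : lC G n = 1) (T : C) :
    Subgroup.lowerCentralSeries (⊤ : Subgroup (T ⟶ G)) n = ⊥ := by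
  apply lowerCentralSeries_eq_bot_of_lW
  intro w hw
  obtain ⟨t, rfl⟩ := exists_of_mem_lW G n w hw
  rw [h, comp_one]

theorem comp_dC_eq_one (n : ℕ) (T : C) (h : derivedSeries (T ⟶ G) n = ⊥) (t : T ⟶ dP G n) :
    t ≫ dC G n = 1 := by
  have := dW_subset_derivedSeries n (comp_dC_mem_dW G n t)
  rw [h] at this
  exact this

theorem comp_lC_eq_one (n : ℕ) (T : C)
    (h : Subgroup.lowerCentralSeries (⊤ : Subgroup (T ⟶ G)) n = ⊥) (t : T ⟶ lP G n) :
    t ≫ lC G n = 1 := by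
  have := lW_subset_lowerCentralSeries n (comp_lC_mem_lW G n t)
  rw [h] at this
  exact this

end general

section scheme

open Groth.Agent.Lib.Helper81.KPointsDense

/-- two morphisms from a smooth `k`-scheme to a separated `k`-scheme which agree on all
`K`-points (`K` separably closed) are equal -/
theorem eq_of_points (k K : Type u) [Field k] [Field K] [Algebra k K] [IsSepClosed K]
    (X Y : Over (Spec (CommRingCat.of k))) [Smooth X.hom] [IsSeparated Y.hom] (f g : X ⟶ Y)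
    (h : ∀ p : SpK k K ⟶ X, p ≫ f = p ≫ g) : f = g := by
  haveI : IsIso (equalizer.ι f g) := by
    apply isIso_over_of_kpoints k K
    intro p
    exact ⟨equalizer.lift p (h p), equalizer.lift_ι _ _⟩
  rw [← cancel_epi (equalizer.ι f g)]
  exact equalizer.condition f g

variable (k : Type u) [Field k] (G : Over (Spec (CommRingCat.of k))) [GrpObj G] [Smooth G.hom]

instance smooth_dP : ∀ n : ℕ, Smooth (dP G n).hom
  | 0 => inferInstanceAs (Smooth G.hom)
  | n + 1 => by
    haveI := smooth_dP n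
    change Smooth (dP G n ⊗ dP G n).hom
    rw [Over.tensorObj_hom]
    infer_instance

instance smooth_lP : ∀ n : ℕ, Smooth (lP G n).hom
  | 0 => inferInstanceAs (Smooth G.hom)
  | n + 1 => by
    haveI := smooth_lP n
    change Smooth (lP G n ⊗ G).hom
    rw [Over.tensorObj_hom]
    infer_instance

end scheme

end Groth.Agent.Lib.Helper19.CommWords
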