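import Mathlib
import Groth.Agent.Lib.Helper19.Grp.AntiAffineExt
import Groth.Agent.Lib.Helper19.Grp.AffProd
import Groth.Agent.Lib.Helper19.Grp.CommWordsScheme

set_option autoImplicit false
set_option linter.style.haveILetI false
universe u
open CategoryTheory CategoryTheory.Limits MonoidalCategory CartesianMonoidalCategory MonObj GrpObj
  AlgebraicGeometry
open scoped TensorProduct commutatorElement

namespace Groth.Agent.Lib.Helper19.Rigidity

open Groth.Agent.Lib.Helper19.CommWords (comp_commutatorElement)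

open Groth.Agent.Lib.Helper19.AffProd Groth.Agent.Lib.Helper19.AntiAffine

/-- two morphisms of schemes which agree on a family of open charts covering the source agree -/
theorem hom_ext_of_charts {X Y : Scheme.{u}} (f g : X ⟶ Y)
    (h : ∀ x : X, ∃ (W : Scheme.{u}) (ω : W ⟶ X), IsOpenImmersion ω ∧ x ∈ Set.range ω.base ∧
      ω ≫ f = ω ≫ g) : f = g := by
  choose W ω hω hx heq using h
  let 𝒰 : X.OpenCover := Scheme.Cover.mkOfCovers X (fun x => W x) (fun x => ω x)
    (fun x => ⟨x, hx x⟩) hω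
  exact 𝒰.hom_ext f g (fun x => heq x)

variable {k : Type u} [Field k]

/-- rigidity for morphisms to an affine open: a morphism `X ×ₖ Y ⟶ G` with `Y` anti-affine whose
image lies in an affine open of `G` does not depend on the `Y`-coordinate -/
theorem eq_fst_comp (X Y G : Over (Spec (CommRingCat.of k))) [CompactSpace X.left]
    [QuasiSeparatedSpace X.left] [CompactSpace Y.left] [QuasiSeparatedSpace Y.left]
    (hY : IsIso Y.hom.appTop) (y₀ : 𝟙_ (Over (Spec (CommRingCat.of k))) ⟶ Y) (f : X ⊗ Y ⟶ G)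
    (B : Type u) [CommRing B] [Algebra k B] (j : SpO k B ⟶ G) [IsOpenImmersion j.left]
    (hf : Set.range f.left.base ⊆ Set.range j.left.base) :
    f = fst X Y ≫ lift (𝟙 X) (toUnit X ≫ y₀) ≫ f := by
  haveI hfst := isIso_fst_appTop X Y hY
  set σ : X ⟶ X ⊗ Y := lift (𝟙 X) (toUnit X ≫ y₀) with hσ
  have hσfst : σ ≫ fst X Y = 𝟙 X := lift_fst _ _
  have e1 : (fst X Y).left.appTop ≫ σ.left.appTop = 𝟙 _ := by
    rw [← Scheme.Hom.comp_appTop, ← Over.comp_left, hσfst, Over.id_left, Scheme.Hom.id_appTop]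
  have e3 : σ.left.appTop ≫ (fst X Y).left.appTop = 𝟙 _ := by
    rw [← cancel_epi ((fst X Y).left.appTop), ← Category.assoc, e1, Category.id_comp,
      Category.comp_id]
  -- factor through the affine open
  let f' : (X ⊗ Y).left ⟶ Spec (CommRingCat.of B) := IsOpenImmersion.lift j.left f.left hf
  have hf' : f' ≫ j.left = f.left := IsOpenImmersion.lift_fac _ _ _
  have key : f' = (fst X Y).left ≫ σ.left ≫ f' := by
    apply AntiAffine.ext_to_Spec
    rw [Scheme.Hom.comp_appTop, Scheme.Hom.comp_appTop, Category.assoc, e3, Category.comp_id]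
  apply Over.OverMorphism.ext
  rw [Over.comp_left, Over.comp_left, ← hf', ← Category.assoc σ.left, ← Category.assoc, ← key]

/-- the structure morphism to `Spec k`, as a morphism to `SpO k k` -/
noncomputable def toSpOk (T : Over (Spec (CommRingCat.of k))) : T ⟶ SpO k k :=
  Over.homMk T.hom (by
    change T.hom ≫ Spec.map (CommRingCat.ofHom (algebraMap k k)) = T.hom
    rw [Algebra.algebraMap_self, CommRingCat.ofHom_id, Spec.map_id, Category.comp_id])

/-- an affine chart of a group scheme around the unit section -/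
theorem exists_chart_unit (G : Over (Spec (CommRingCat.of k))) [GrpObj G] :
    ∃ (B : Type u) (_ : CommRing B) (_ : Algebra k B) (j : SpO k B ⟶ G) (ε : B →ₐ[k] k),
      IsOpenImmersion j.left ∧ SpO.map ε ≫ j = 1 := by
  haveI : Subsingleton ↥(𝟙_ (Over (Spec (CommRingCat.of k)))).left :=
    inferInstanceAs (Subsingleton (PrimeSpectrum k))
  obtain ⟨pt⟩ : Nonempty ↥(𝟙_ (Over (Spec (CommRingCat.of k)))).left :=
    inferInstanceAs (Nonempty (PrimeSpectrum k))
  obtain ⟨B, _, _, j, hj, he⟩ := exists_chart G (η[G].left.base pt)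
  have hrange : Set.range η[G].left.base ⊆ Set.range j.left.base := by
    rintro _ ⟨q, rfl⟩
    rw [Subsingleton.elim q pt]
    exact he
  let ε₀ : Spec (CommRingCat.of k) ⟶ Spec (CommRingCat.of B) :=
    IsOpenImmersion.lift j.left η[G].left hrange
  have hε₀ : ε₀ ≫ j.left = η[G].left := IsOpenImmersion.lift_fac _ _ _
  obtain ⟨χ, hχ⟩ := Spec.map_surjective ε₀
  have halg : CommRingCat.ofHom (algebraMap k B) ≫ χ = 𝟙 _ := by
    apply Spec.map_injective
    rw [Spec.map_comp, hχ, Spec.map_id]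
    have h1 : Spec.map (CommRingCat.ofHom (algebraMap k B)) = j.left ≫ G.hom := (Over.w j).symm
    rw [h1, ← Category.assoc, hε₀]
    exact Over.w η[G]
  let ε : B →ₐ[k] k :=
    { χ.hom with
      commutes' := fun c => by
        have := congrArg (fun ψ => ψ.hom c) halg
        exact this }
  refine ⟨B, inferInstance, inferInstance, j, ε, hj, ?_⟩
  apply Over.OverMorphism.ext
  rw [Hom.one_def, Over.comp_left, Over.comp_left]
  change Spec.map χ ≫ j.left = (toUnit (SpO k k)).left ≫ η[G].left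
  rw [hχ, hε₀]
  have : (toUnit (SpO k k)).left = 𝟙 _ := by
    change Spec.map (CommRingCat.ofHom (algebraMap k k)) = 𝟙 _
    rw [Algebra.algebraMap_self, CommRingCat.ofHom_id, Spec.map_id]
  rw [this, Category.id_comp]

section infinitesimal

variable (H G : Over (Spec (CommRingCat.of k))) [GrpObj H] [GrpObj G]
  (φ : H ⟶ G) [IsMonHom φ]
  (B : Type u) [CommRing B] [Algebra k B] (j : SpO k B ⟶ G) (ε : B →ₐ[k] k)
  (hε : SpO.map ε ≫ j = 1)

include hε in
/-- a field-valued point of an infinitesimal neighbourhood of the unit is the unit -/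
theorem comp_infinitesimal_eq_one (n : ℕ) (T : Over (Spec (CommRingCat.of k)))
    (Ω : CommRingCat.{u}) [IsReduced Ω] (hT : T.left = Spec Ω)
    (a : T ⟶ SpO k (B ⧸ (RingHom.ker ε.toRingHom) ^ n)) :
    a ≫ SpO.map (Ideal.Quotient.mkₐ k ((RingHom.ker ε.toRingHom) ^ n)) ≫ j = 1 := by
  obtain ⟨T₀, T₁, Th⟩ := T
  change T₀ = Spec Ω at hT
  subst hT
  obtain ⟨ψ, hψ⟩ := Spec.map_surjective a.left
  have hker : ∀ b : B, b ∈ RingHom.ker ε.toRingHom →
      ψ.hom (Ideal.Quotient.mk ((RingHom.ker ε.toRingHom) ^ n) b) = 0 := by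
    intro b hb
    have h1 : (ψ.hom (Ideal.Quotient.mk ((RingHom.ker ε.toRingHom) ^ n) b)) ^ n = 0 := by
      rw [← map_pow, ← map_pow, Ideal.Quotient.eq_zero_iff_mem.mpr (Ideal.pow_mem_pow hb n),
        map_zero]
    exact IsReduced.eq_zero _ ⟨n, h1⟩
  have key : a ≫ SpO.map (Ideal.Quotient.mkₐ k ((RingHom.ker ε.toRingHom) ^ n)) =
      toSpOk _ ≫ SpO.map ε := by
    apply Over.OverMorphism.ext
    rw [Over.comp_left, Over.comp_left]
    change a.left ≫ Spec.map (CommRingCat.ofHom
      (Ideal.Quotient.mkₐ k ((RingHom.ker ε.toRingHom) ^ n)).toRingHom) =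
      Th ≫ Spec.map (CommRingCat.ofHom ε.toRingHom)
    have hw : Th = a.left ≫ Spec.map (CommRingCat.ofHom
        (algebraMap k (B ⧸ (RingHom.ker ε.toRingHom) ^ n))) := (Over.w a).symm
    have hw' := congrArg (fun θ => θ ≫ Spec.map (CommRingCat.ofHom ε.toRingHom)) hw
    rw [hw', ← hψ, ← Spec.map_comp, Category.assoc, ← Spec.map_comp, ← Spec.map_comp]
    congr 1
    ext b
    change ψ.hom (Ideal.Quotient.mk _ b) = ψ.hom (algebraMap k _ (ε b))
    rw [← sub_eq_zero, ← map_sub]
    have : algebraMap k (B ⧸ (RingHom.ker ε.toRingHom) ^ n) (ε b) =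
        Ideal.Quotient.mk _ (algebraMap k B (ε b)) := rfl
    rw [this, ← map_sub]
    apply hker
    rw [RingHom.mem_ker, map_sub]
    change ε b - ε (algebraMap k B (ε b)) = 0
    rw [ε.commutes, Algebra.algebraMap_self, RingHom.id_apply, sub_self]
  rw [← Category.assoc, key, Category.assoc, hε, MonObj.comp_one]

include hε in
/-- the unit point lies in the chart -/
theorem one_mem_range (T : Over (Spec (CommRingCat.of k))) (pt : T.left) :
    (1 : T ⟶ G).left.base pt ∈ Set.range j.left.base := by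
  have h3 : (1 : T ⟶ G) = toSpOk T ≫ SpO.map ε ≫ j := by rw [hε, MonObj.comp_one]
  rw [h3, Over.comp_left, Over.comp_left, Scheme.Hom.comp_base, Scheme.Hom.comp_base]
  exact ⟨_, rfl⟩

include hε in
/-- conjugation by an anti-affine group is trivial on the infinitesimal neighbourhoods of the
unit of `G` -/
theorem commutator_infinitesimal [IsOpenImmersion j.left] [CompactSpace H.left]
    [QuasiSeparatedSpace H.left] (hH : IsIso H.hom.appTop) (n : ℕ) :
    (⁅fst (SpO k (B ⧸ (RingHom.ker ε.toRingHom) ^ n)) H ≫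
        SpO.map (Ideal.Quotient.mkₐ k ((RingHom.ker ε.toRingHom) ^ n)) ≫ j,
      snd (SpO k (B ⧸ (RingHom.ker ε.toRingHom) ^ n)) H ≫ φ⁆ :
      SpO k (B ⧸ (RingHom.ker ε.toRingHom) ^ n) ⊗ H ⟶ G) = 1 := by
  set X := SpO k (B ⧸ (RingHom.ker ε.toRingHom) ^ n) with hX
  set ιn := SpO.map (Ideal.Quotient.mkₐ k ((RingHom.ker ε.toRingHom) ^ n)) ≫ j with hιn
  set f : X ⊗ H ⟶ G := ⁅fst X H ≫ ιn, snd X H ≫ φ⁆ with hf
  have hrange : Set.range f.left.base ⊆ Set.range j.left.base := by
    rintro _ ⟨z, rfl⟩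
    let T : Over (Spec (CommRingCat.of k)) :=
      Over.mk ((X ⊗ H).left.fromSpecResidueField z ≫ (X ⊗ H).hom)
    let t : T ⟶ X ⊗ H := Over.homMk ((X ⊗ H).left.fromSpecResidueField z)
    have ht : ∀ x : T.left, t.left x = z := fun x => Scheme.fromSpecResidueField_apply z x
    obtain ⟨pt⟩ : Nonempty ↥T.left :=
      inferInstanceAs (Nonempty ↥(Spec ((X ⊗ H).left.residueField z)))
    have h1 : t ≫ f = 1 := by
      rw [hf, comp_commutatorElement, ← Category.assoc t, hιn,
        comp_infinitesimal_eq_one G B j ε hε n T ((X ⊗ H).left.residueField z) rfl,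
        commutatorElement_one_left]
    have h2 : f.left z = (t ≫ f).left pt := by
      rw [Over.comp_left, Scheme.Hom.comp_apply, ht]
    change f.left z ∈ _
    rw [h2, h1]
    exact one_mem_range G B j ε hε T pt
  haveI : CompactSpace X.left :=
    inferInstanceAs (CompactSpace ↥(Spec (CommRingCat.of (B ⧸ (RingHom.ker ε.toRingHom) ^ n))))
  haveI : QuasiSeparatedSpace X.left :=
    inferInstanceAs (QuasiSeparatedSpace
      ↥(Spec (CommRingCat.of (B ⧸ (RingHom.ker ε.toRingHom) ^ n))))
  have key := eq_fst_comp X H G hH η[H] f B j hrange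
  have hσ : lift (𝟙 X) (toUnit X ≫ η[H]) ≫ f = 1 := by
    rw [hf, comp_commutatorElement, lift_fst_assoc, lift_snd_assoc, Category.assoc,
      IsMonHom.one_hom, ← Hom.one_def, commutatorElement_one_right]
  rw [key, hσ, MonObj.comp_one]

end infinitesimal

end Groth.Agent.Lib.Helper19.Rigidity
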