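import Mathlib
import Groth.Agent.Lib.Helper19.Grp.Rigidity
import Groth.Agent.Lib.Helper19.Grp.KrullTube
import Groth.Agent.Lib.Helper81.KPointsDense

set_option autoImplicit false
set_option linter.style.haveILetI false
universe u
open CategoryTheory CategoryTheory.Limits MonoidalCategory CartesianMonoidalCategory MonObj GrpObj
  AlgebraicGeometry
open scoped TensorProduct commutatorElement

namespace Groth.Agent.Lib.Helper19.Rigidity

open Groth.Agent.Lib.Helper19.AffProd Groth.Agent.Lib.Helper19.AntiAffine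
open Groth.Agent.Lib.Helper19.CommWords (comp_commutatorElement)

variable {k : Type u} [Field k]

/-- charts of `Spec B ×ₖ Y` of the form `Spec (B ⊗ A)` for charts `Spec A ⊆ Y` -/
theorem exists_chart_right (B : Type u) [CommRing B] [Algebra k B]
    (Y : Over (Spec (CommRingCat.of k))) (z : (SpO k B ⊗ Y).left) :
    ∃ (A : Type u) (_ : CommRing A) (_ : Algebra k A) (jy : SpO k A ⟶ Y),
      IsOpenImmersion (lift (SpO.map (Algebra.TensorProduct.includeLeft (R := k) (S := k)
        (A := B) (B := A))) (SpO.map (Algebra.TensorProduct.includeRight (R := k)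
        (A := B) (B := A)) ≫ jy)).left ∧
      z ∈ Set.range (lift (SpO.map (Algebra.TensorProduct.includeLeft (R := k) (S := k)
        (A := B) (B := A))) (SpO.map (Algebra.TensorProduct.includeRight (R := k)
        (A := B) (B := A)) ≫ jy)).left.base := by
  obtain ⟨A, _, _, jy, hjy, hy⟩ := exists_chart Y ((snd (SpO k B) Y).left.base z)
  refine ⟨A, inferInstance, inferInstance, jy, ?_⟩
  have e : lift (SpO.map (Algebra.TensorProduct.includeLeft (R := k) (S := k)
        (A := B) (B := A))) (SpO.map (Algebra.TensorProduct.includeRight (R := k)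
        (A := B) (B := A)) ≫ jy) = prodLift B A ≫ (𝟙 (SpO k B) ⊗ₘ jy) := by
    rw [prodLift, lift_map, Category.comp_id]
  rw [e]
  haveI h0 : IsOpenImmersion (Over.Hom.left (𝟙 (SpO k B))) := by rw [Over.id_left]; infer_instance
  haveI h1 : IsOpenImmersion (𝟙 (SpO k B) ⊗ₘ jy).left := by
    rw [Over.tensorHom_left]
    infer_instance
  haveI : IsIso (prodLift (k := k) B A).left := by rw [prodLift_left]; infer_instance
  constructor
  · rw [Over.comp_left]
    infer_instance
  · have h2 : z ∈ Set.range (𝟙 (SpO k B) ⊗ₘ jy).left.base := by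
      rw [Over.tensorHom_left]
      change z ∈ Set.range (pullback.map _ _ _ _ (Over.Hom.left (𝟙 (SpO k B))) jy.left (𝟙 _) _ _)
      rw [Scheme.Pullback.range_map]
      refine ⟨?_, hy⟩
      rw [Over.id_left]
      exact ⟨_, rfl⟩
    obtain ⟨w, hw⟩ := h2
    refine ⟨(inv (prodLift (k := k) B A)).left.base w, ?_⟩
    rw [← Scheme.Hom.comp_apply, ← Over.comp_left, IsIso.inv_hom_id_assoc]
    exact hw

/-- an element of `B ⊗ A` killed by `s ⊗ 1` dies in `B_s ⊗ A` -/
theorem map_away_eq_zero (B A : Type u) [CommRing B] [Algebra k B] [CommRing A] [Algebra k A]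
    (s : B) (x : B ⊗[k] A) (hx : (s ⊗ₜ[k] (1 : A)) * x = 0) :
    Algebra.TensorProduct.map (IsScalarTower.toAlgHom k B (Localization.Away s))
      (AlgHom.id k A) x = 0 := by
  have h1 := congrArg (Algebra.TensorProduct.map (IsScalarTower.toAlgHom k B (Localization.Away s))
      (AlgHom.id k A)) hx
  rw [map_mul, map_zero, Algebra.TensorProduct.map_tmul, map_one] at h1
  have hu : IsUnit ((IsScalarTower.toAlgHom k B (Localization.Away s)) s ⊗ₜ[k] (1 : A)) := by
    have : IsUnit (algebraMap B (Localization.Away s) s) :=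
      IsLocalization.Away.algebraMap_isUnit s
    exact this.map (Algebra.TensorProduct.includeLeft (R := k) (S := k)
      (A := Localization.Away s) (B := A))
  exact hu.mul_right_eq_zero.mp h1

section chartwise

variable (H G : Over (Spec (CommRingCat.of k))) [GrpObj H] [GrpObj G] (φ : H ⟶ G) [IsMonHom φ]
  (B : Type u) [CommRing B] [Algebra k B] (j : SpO k B ⟶ G) [IsOpenImmersion j.left]
  (ε : B →ₐ[k] k) (hε : SpO.map ε ≫ j = 1) [CompactSpace H.left] [QuasiSeparatedSpace H.left]
  (hH : IsIso H.hom.appTop) (r : B)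
  (htube : ∀ (A : Type u) [CommRing A] [Algebra k A] (x : B ⊗[k] A),
    (∀ n : ℕ, Algebra.TensorProduct.map (Ideal.Quotient.mkₐ k ((RingHom.ker ε.toRingHom) ^ n))
      (AlgHom.id k A) x = 0) → ((1 - r) ⊗ₜ[k] (1 : A)) * x = 0)

include hε hH htube in
/-- on the basic open `D(1 - r)` of the chart, conjugation by `H` is trivial, chart by chart -/
theorem commutator_chart (A : Type u) [CommRing A] [Algebra k A] (jy : SpO k A ⟶ H) :
    (⁅SpO.map (Algebra.TensorProduct.includeLeft (R := k) (S := k)
          (A := Localization.Away (1 - r)) (B := A)) ≫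
        SpO.map (IsScalarTower.toAlgHom k B (Localization.Away (1 - r))) ≫ j,
      (SpO.map (Algebra.TensorProduct.includeRight (R := k)
          (A := Localization.Away (1 - r)) (B := A)) ≫ jy) ≫ φ⁆ :
      SpO k (Localization.Away (1 - r) ⊗[k] A) ⟶ G) = 1 := by
  haveI : IsSeparated G.hom := Groth.Agent.Lib.Helper81.KPointsDense.isSeparated_grp k G
  let loc : B →ₐ[k] Localization.Away (1 - r) := IsScalarTower.toAlgHom k B _
  let inclL : B →ₐ[k] B ⊗[k] A := Algebra.TensorProduct.includeLeft
  let inclR : A →ₐ[k] B ⊗[k] A := Algebra.TensorProduct.includeRight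
  let ω₀ : SpO k (B ⊗[k] A) ⟶ SpO k B ⊗ H := lift (SpO.map inclL) (SpO.map inclR ≫ jy)
  let F₀ : SpO k B ⊗ H ⟶ G := ⁅fst _ H ≫ j, snd _ H ≫ φ⁆
  let e₀ := equalizer.ι F₀ 1
  haveI : IsClosedImmersion e₀.left := inferInstance
  let c := pullback.snd e₀.left ω₀.left
  obtain ⟨I, -, hfac⟩ := exists_ideal_of_isClosedImmersion c
  have hle : ∀ (n : ℕ) (x : B ⊗[k] A), x ∈ I →
      Algebra.TensorProduct.map (Ideal.Quotient.mkₐ k ((RingHom.ker ε.toRingHom) ^ n))
        (AlgHom.id k A) x = 0 := by
    intro n x hx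
    let πn : B ⊗[k] A →ₐ[k] (B ⧸ (RingHom.ker ε.toRingHom) ^ n) ⊗[k] A :=
      Algebra.TensorProduct.map (Ideal.Quotient.mkₐ k ((RingHom.ker ε.toRingHom) ^ n))
        (AlgHom.id k A)
    have heq : (SpO.map πn ≫ ω₀) ≫ F₀ = (SpO.map πn ≫ ω₀) ≫ 1 := by
      rw [MonObj.comp_one, comp_commutatorElement]
      have ha : (SpO.map πn ≫ ω₀) ≫ fst _ H ≫ j =
          SpO.map (Algebra.TensorProduct.includeLeft (R := k) (S := k)
            (A := B ⧸ (RingHom.ker ε.toRingHom) ^ n) (B := A)) ≫
          SpO.map (Ideal.Quotient.mkₐ k ((RingHom.ker ε.toRingHom) ^ n)) ≫ j := by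
        rw [Category.assoc, lift_fst_assoc, ← SpO.map_comp_assoc,
          Algebra.TensorProduct.map_comp_includeLeft, SpO.map_comp_assoc]
      rw [ha]
      have h1 := commutator_infinitesimal H G φ B j ε hε hH n
      have h2 := congrArg (fun θ => lift (SpO.map (Algebra.TensorProduct.includeLeft (R := k)
        (S := k) (A := B ⧸ (RingHom.ker ε.toRingHom) ^ n) (B := A)))
        ((SpO.map πn ≫ ω₀) ≫ snd _ H) ≫ θ) h1
      simp only [comp_commutatorElement, lift_fst_assoc, lift_snd_assoc, MonObj.comp_one] at h2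
      exact h2
    have hz : ∃ z, z ≫ c = Spec.map (CommRingCat.ofHom πn.toRingHom) :=
      ⟨pullback.lift (equalizer.lift (SpO.map πn ≫ ω₀) heq).left
        (Spec.map (CommRingCat.ofHom πn.toRingHom)) (by
          rw [← Over.comp_left, equalizer.lift_ι, Over.comp_left]; rfl), pullback.lift_snd _ _ _⟩
    exact (hfac _ (CommRingCat.ofHom πn.toRingHom)).mp hz hx
  let lam : B ⊗[k] A →ₐ[k] Localization.Away (1 - r) ⊗[k] A :=
    Algebra.TensorProduct.map loc (AlgHom.id k A)
  obtain ⟨z', hz'⟩ := (hfac _ (CommRingCat.ofHom lam.toRingHom)).mpr (fun x hx =>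
    map_away_eq_zero B A (1 - r) x (htube A x (fun n => hle n x hx)))
  have heq' : (SpO.map lam ≫ ω₀) ≫ F₀ = (SpO.map lam ≫ ω₀) ≫ 1 := by
    apply Over.OverMorphism.ext
    rw [Over.comp_left, Over.comp_left, Over.comp_left, Over.comp_left]
    change (Spec.map (CommRingCat.ofHom lam.toRingHom) ≫ ω₀.left) ≫ F₀.left =
      (Spec.map (CommRingCat.ofHom lam.toRingHom) ≫ ω₀.left) ≫ (1 : _ ⟶ G).left
    have hc : c ≫ ω₀.left = pullback.fst e₀.left ω₀.left ≫ e₀.left := pullback.condition.symm
    rw [← hz', Category.assoc, Category.assoc, Category.assoc, Category.assoc, reassoc_of% hc,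
      reassoc_of% hc, ← Over.comp_left, ← Over.comp_left, equalizer.condition]
  rw [MonObj.comp_one, comp_commutatorElement] at heq'
  rw [← heq']
  congr 1
  · symm
    rw [Category.assoc, lift_fst_assoc, ← SpO.map_comp_assoc,
      Algebra.TensorProduct.map_comp_includeLeft, SpO.map_comp_assoc]
  · symm
    rw [Category.assoc, lift_snd_assoc, Category.assoc, ← SpO.map_comp_assoc,
      Algebra.TensorProduct.map_comp_includeRight, AlgHom.comp_id, Category.assoc]

end chartwise

/-- **Formal rigidity.** For a homomorphism `φ : H ⟶ G` from an anti-affine group, there is an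
affine open neighbourhood `Spec B'` of the unit of `G` on which conjugation by `H` is trivial. -/
theorem exists_nbhd (H G : Over (Spec (CommRingCat.of k))) [GrpObj H] [GrpObj G] (φ : H ⟶ G)
    [IsMonHom φ] [LocallyOfFiniteType G.hom] [CompactSpace H.left] [QuasiSeparatedSpace H.left]
    (hH : IsIso H.hom.appTop) :
    ∃ (B' : Type u) (_ : CommRing B') (_ : Algebra k B') (v : SpO k B' ⟶ G),
      IsOpenImmersion v.left ∧
      (∀ (T : Over (Spec (CommRingCat.of k))) (pt : T.left),
        (1 : T ⟶ G).left.base pt ∈ Set.range v.left.base) ∧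
      (⁅fst (SpO k B') H ≫ v, snd (SpO k B') H ≫ φ⁆ : SpO k B' ⊗ H ⟶ G) = 1 := by
  obtain ⟨B, _, _, j, ε, hj, hε⟩ := exists_chart_unit G
  haveI := hj
  haveI : Algebra.FiniteType k B := finiteType_of_chart j
  haveI : IsNoetherianRing B := Algebra.FiniteType.isNoetherianRing k B
  obtain ⟨r, hr, htube⟩ := KrullTube.exists_tube k B (RingHom.ker ε.toRingHom)
  let loc : B →ₐ[k] Localization.Away (1 - r) := IsScalarTower.toAlgHom k B _
  refine ⟨Localization.Away (1 - r), inferInstance, inferInstance, SpO.map loc ≫ j, ?_, ?_, ?_⟩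
  · rw [Over.comp_left]
    haveI : IsOpenImmersion (SpO.map loc).left := by
      change IsOpenImmersion (Spec.map (CommRingCat.ofHom (algebraMap B (Localization.Away (1 - r)))))
      infer_instance
    infer_instance
  · have hr' : ε r = 0 := hr
    have hunit : IsUnit (ε (1 - r)) := by
      rw [map_sub, map_one, hr', sub_zero]; exact isUnit_one
    let ε' : Localization.Away (1 - r) →ₐ[k] k :=
      IsLocalization.liftAlgHom (M := Submonoid.powers (1 - r)) (f := ε) (by
        rintro ⟨_, n, rfl⟩
        rw [map_pow]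
        exact hunit.pow n)
    have hcomp : ε'.comp loc = ε := AlgHom.ext (fun b => IsLocalization.lift_eq _ b)
    have hε' : SpO.map ε' ≫ SpO.map loc ≫ j = 1 := by
      rw [← SpO.map_comp_assoc, hcomp, hε]
    exact fun T pt => one_mem_range G (Localization.Away (1 - r)) _ ε' hε' T pt
  · apply Over.OverMorphism.ext
    apply hom_ext_of_charts
    intro z
    obtain ⟨A, _, _, jy, hω, hz⟩ := exists_chart_right (Localization.Away (1 - r)) H z
    refine ⟨_, _, hω, hz, ?_⟩
    rw [← Over.comp_left, ← Over.comp_left, comp_commutatorElement, lift_fst_assoc,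
      lift_snd_assoc, MonObj.comp_one]
    exact congrArg (fun θ => θ.left) (commutator_chart H G φ B j ε hε hH r htube A jy)

end Groth.Agent.Lib.Helper19.Rigidity
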