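import Mathlib
import Groth.Agent.Lib.Helper19.Grp.RigidityNbhd
import Groth.Agent.Lib.Helper19.Grp.ArtinUnivOpen

set_option autoImplicit false
set_option linter.style.haveILetI false
set_option linter.unusedSectionVars false
universe u
open CategoryTheory CategoryTheory.Limits MonoidalCategory CartesianMonoidalCategory AlgebraicGeometry
open scoped TensorProduct

namespace Groth.Agent.Lib.Helper19.Rigidity

open Groth.Agent.Lib.Helper19.AffProd Groth.Agent.Lib.Helper19.AntiAffine

variable {k : Type u} [Field k]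

/-- a point of `Spec (B/mⁿ)` with values in a reduced ring factors through `Spec (B/m)` -/
theorem exists_factor_of_isReduced (B : Type u) [CommRing B] [Algebra k B] (m : Ideal B) (n : ℕ)
    (T : Over (Spec (CommRingCat.of k))) (Ω : CommRingCat.{u}) [IsReduced Ω] (hT : T.left = Spec Ω)
    (a : T ⟶ SpO k (B ⧸ m ^ n)) :
    ∃ a₁ : T ⟶ SpO k (B ⧸ m), a ≫ SpO.map (Ideal.Quotient.mkₐ k (m ^ n)) =
      a₁ ≫ SpO.map (Ideal.Quotient.mkₐ k m) := by
  obtain ⟨T₀, T₁, Th⟩ := T
  change T₀ = Spec Ω at hT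
  subst hT
  obtain ⟨ψ, hψ⟩ := Spec.map_surjective a.left
  have hker : ∀ b : B, b ∈ m → (ψ.hom.comp (Ideal.Quotient.mk (m ^ n))) b = 0 := by
    intro b hb
    have h1 : (ψ.hom (Ideal.Quotient.mk (m ^ n) b)) ^ n = 0 := by
      rw [← map_pow, ← map_pow, Ideal.Quotient.eq_zero_iff_mem.mpr (Ideal.pow_mem_pow hb n),
        map_zero]
    exact IsReduced.eq_zero _ ⟨n, h1⟩
  let ψ₁ : B ⧸ m →+* Ω := Ideal.Quotient.lift m (ψ.hom.comp (Ideal.Quotient.mk (m ^ n))) hker
  have hψ₁ : ψ₁.comp (Ideal.Quotient.mk m) = ψ.hom.comp (Ideal.Quotient.mk (m ^ n)) :=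
    RingHom.ext (fun b => Ideal.Quotient.lift_mk m _ hker)
  have hw : Th = a.left ≫ Spec.map (CommRingCat.ofHom (algebraMap k (B ⧸ m ^ n))) :=
    (Over.w a).symm
  refine ⟨Over.homMk (Spec.map (CommRingCat.ofHom ψ₁)) ?_, ?_⟩
  · change Spec.map (CommRingCat.ofHom ψ₁) ≫ Spec.map (CommRingCat.ofHom (algebraMap k (B ⧸ m))) = Th
    rw [hw, ← hψ, ← Spec.map_comp, ← Spec.map_comp]
    congr 1
  · apply Over.OverMorphism.ext
    rw [Over.comp_left, Over.comp_left]
    change a.left ≫ Spec.map (CommRingCat.ofHom (Ideal.Quotient.mkₐ k (m ^ n)).toRingHom) =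
      Spec.map (CommRingCat.ofHom ψ₁) ≫
        Spec.map (CommRingCat.ofHom (Ideal.Quotient.mkₐ k m).toRingHom)
    rw [← hψ, ← Spec.map_comp, ← Spec.map_comp]
    congr 1

section infinitesimal

variable (X Y Z : Over (Spec (CommRingCat.of k))) (f : Y ⊗ X ⟶ Z)
  (B : Type u) [CommRing B] [Algebra k B] (j : SpO k B ⟶ Y) (m : Ideal B)
  (C : Type u) [CommRing C] [Algebra k C] (jz : SpO k C ⟶ Z)

/-- if `f` maps `Spec (B/m) × X` into an affine open, it maps all `Spec (B/mⁿ) × X` into it -/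
theorem range_infinitesimal
    (h1 : Set.range (((SpO.map (Ideal.Quotient.mkₐ k m) ≫ j) ▷ X) ≫ f).left.base ⊆
      Set.range jz.left.base) (n : ℕ) :
    Set.range (((SpO.map (Ideal.Quotient.mkₐ k (m ^ n)) ≫ j) ▷ X) ≫ f).left.base ⊆
      Set.range jz.left.base := by
  set Yn := SpO k (B ⧸ m ^ n) with hYn
  rintro _ ⟨z, rfl⟩
  let T : Over (Spec (CommRingCat.of k)) :=
    Over.mk ((Yn ⊗ X).left.fromSpecResidueField z ≫ (Yn ⊗ X).hom)
  let t : T ⟶ Yn ⊗ X := Over.homMk ((Yn ⊗ X).left.fromSpecResidueField z)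
  have ht : ∀ x : T.left, t.left x = z := fun x => Scheme.fromSpecResidueField_apply z x
  obtain ⟨pt⟩ : Nonempty ↥T.left :=
    inferInstanceAs (Nonempty ↥(Spec ((Yn ⊗ X).left.residueField z)))
  obtain ⟨a₁, ha₁⟩ := exists_factor_of_isReduced B m n T ((Yn ⊗ X).left.residueField z) rfl
    (t ≫ fst Yn X)
  have h2 : t ≫ (((SpO.map (Ideal.Quotient.mkₐ k (m ^ n)) ≫ j) ▷ X) ≫ f) =
      lift a₁ (t ≫ snd Yn X) ≫ (((SpO.map (Ideal.Quotient.mkₐ k m) ≫ j) ▷ X) ≫ f) := by
    rw [← Category.assoc, ← Category.assoc]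
    congr 1
    apply CartesianMonoidalCategory.hom_ext
    · rw [Category.assoc, whiskerRight_fst, Category.assoc, whiskerRight_fst, lift_fst_assoc,
        ← Category.assoc, ← Category.assoc, ← Category.assoc, ha₁]
    · rw [Category.assoc, whiskerRight_snd, Category.assoc, whiskerRight_snd, lift_snd]
  have h3 : (((SpO.map (Ideal.Quotient.mkₐ k (m ^ n)) ≫ j) ▷ X) ≫ f).left z =
      (t ≫ (((SpO.map (Ideal.Quotient.mkₐ k (m ^ n)) ≫ j) ▷ X) ≫ f)).left pt := by
    conv_rhs => rw [Over.comp_left, Scheme.Hom.comp_apply, ht]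
  change (((SpO.map (Ideal.Quotient.mkₐ k (m ^ n)) ≫ j) ▷ X) ≫ f).left z ∈ _
  rw [h3, h2, Over.comp_left, Scheme.Hom.comp_apply]
  exact h1 ⟨_, rfl⟩

/-- Künneth step: on the infinitesimal neighbourhoods `f` does not depend on the
`X`-coordinate -/
theorem eq_infinitesimal [CompactSpace X.left] [QuasiSeparatedSpace X.left]
    (hX : IsIso X.hom.appTop) (x₀ : 𝟙_ (Over (Spec (CommRingCat.of k))) ⟶ X)
    [IsOpenImmersion jz.left]
    (h1 : Set.range (((SpO.map (Ideal.Quotient.mkₐ k m) ≫ j) ▷ X) ≫ f).left.base ⊆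
      Set.range jz.left.base) (n : ℕ) :
    ((SpO.map (Ideal.Quotient.mkₐ k (m ^ n)) ≫ j) ▷ X) ≫ f =
      ((SpO.map (Ideal.Quotient.mkₐ k (m ^ n)) ≫ j) ▷ X) ≫ fst Y X ≫
        lift (𝟙 Y) (toUnit Y ≫ x₀) ≫ f := by
  set Yn := SpO k (B ⧸ m ^ n) with hYn
  set ιn := SpO.map (Ideal.Quotient.mkₐ k (m ^ n)) ≫ j with hιn
  haveI : CompactSpace Yn.left :=
    inferInstanceAs (CompactSpace ↥(Spec (CommRingCat.of (B ⧸ m ^ n))))
  haveI : QuasiSeparatedSpace Yn.left :=
    inferInstanceAs (QuasiSeparatedSpace ↥(Spec (CommRingCat.of (B ⧸ m ^ n))))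
  have key := eq_fst_comp Yn X Z hX x₀ ((ιn ▷ X) ≫ f) C jz
    (range_infinitesimal X Y Z f B j m C jz h1 n)
  have e1 : lift (𝟙 Yn) (toUnit Yn ≫ x₀) ≫ (ιn ▷ X) = lift ιn (toUnit Yn ≫ x₀) := by
    apply CartesianMonoidalCategory.hom_ext
    · rw [Category.assoc, whiskerRight_fst, lift_fst_assoc, Category.id_comp, lift_fst]
    · rw [Category.assoc, whiskerRight_snd, lift_snd, lift_snd]
  have e2 : (ιn ▷ X) ≫ fst Y X ≫ lift (𝟙 Y) (toUnit Y ≫ x₀) =
      fst Yn X ≫ lift ιn (toUnit Yn ≫ x₀) := by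
    apply CartesianMonoidalCategory.hom_ext
    · simp only [Category.assoc, lift_fst, Category.comp_id, whiskerRight_fst]
      rfl
    · simp only [Category.assoc, lift_snd]
      rw [← Category.assoc, ← Category.assoc, ← Category.assoc]
      congr 1
      exact toUnit_unique _ _
  calc (ιn ▷ X) ≫ f = fst Yn X ≫ lift (𝟙 Yn) (toUnit Yn ≫ x₀) ≫ (ιn ▷ X) ≫ f := key
    _ = fst Yn X ≫ lift ιn (toUnit Yn ≫ x₀) ≫ f := by
      rw [← Category.assoc (lift (𝟙 Yn) (toUnit Yn ≫ x₀)), e1]
    _ = ((ιn ▷ X) ≫ fst Y X ≫ lift (𝟙 Y) (toUnit Y ≫ x₀)) ≫ f := by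
      rw [e2, Category.assoc]
    _ = _ := by simp only [Category.assoc]

end infinitesimal

section chartwise

variable (X Y Z : Over (Spec (CommRingCat.of k))) (f : Y ⊗ X ⟶ Z) [IsSeparated Z.hom]
  (x₀ : 𝟙_ (Over (Spec (CommRingCat.of k))) ⟶ X)
  (B : Type u) [CommRing B] [Algebra k B] (j : SpO k B ⟶ Y) (m : Ideal B) (r : B)
  (htube : ∀ (A : Type u) [CommRing A] [Algebra k A] (x : B ⊗[k] A),
    (∀ n : ℕ, Algebra.TensorProduct.map (Ideal.Quotient.mkₐ k (m ^ n)) (AlgHom.id k A) x = 0) →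
      ((1 - r) ⊗ₜ[k] (1 : A)) * x = 0)
  (hinf : ∀ n : ℕ, ((SpO.map (Ideal.Quotient.mkₐ k (m ^ n)) ≫ j) ▷ X) ≫ f =
      ((SpO.map (Ideal.Quotient.mkₐ k (m ^ n)) ≫ j) ▷ X) ≫ fst Y X ≫
        lift (𝟙 Y) (toUnit Y ≫ x₀) ≫ f)

include htube hinf in
theorem agree_chart (A : Type u) [CommRing A] [Algebra k A] (jx : SpO k A ⟶ X) :
    lift (SpO.map (Algebra.TensorProduct.includeLeft (R := k) (S := k)
          (A := Localization.Away (1 - r)) (B := A)) ≫
        SpO.map (IsScalarTower.toAlgHom k B (Localization.Away (1 - r))) ≫ j)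
      (SpO.map (Algebra.TensorProduct.includeRight (R := k)
          (A := Localization.Away (1 - r)) (B := A)) ≫ jx) ≫ f =
    lift (SpO.map (Algebra.TensorProduct.includeLeft (R := k) (S := k)
          (A := Localization.Away (1 - r)) (B := A)) ≫
        SpO.map (IsScalarTower.toAlgHom k B (Localization.Away (1 - r))) ≫ j)
      (SpO.map (Algebra.TensorProduct.includeRight (R := k)
          (A := Localization.Away (1 - r)) (B := A)) ≫ jx) ≫
      fst Y X ≫ lift (𝟙 Y) (toUnit Y ≫ x₀) ≫ f := by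
  set fx : Y ⊗ X ⟶ Z := fst Y X ≫ lift (𝟙 Y) (toUnit Y ≫ x₀) ≫ f with hfx
  let loc : B →ₐ[k] Localization.Away (1 - r) := IsScalarTower.toAlgHom k B _
  let inclL : B →ₐ[k] B ⊗[k] A := Algebra.TensorProduct.includeLeft
  let inclR : A →ₐ[k] B ⊗[k] A := Algebra.TensorProduct.includeRight
  let ω₀ : SpO k (B ⊗[k] A) ⟶ Y ⊗ X := lift (SpO.map inclL ≫ j) (SpO.map inclR ≫ jx)
  let e₀ := equalizer.ι f fx
  haveI : IsClosedImmersion e₀.left := inferInstance
  let c := pullback.snd e₀.left ω₀.left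
  obtain ⟨I, -, hfac⟩ := exists_ideal_of_isClosedImmersion c
  have hle : ∀ (n : ℕ) (x : B ⊗[k] A), x ∈ I →
      Algebra.TensorProduct.map (Ideal.Quotient.mkₐ k (m ^ n)) (AlgHom.id k A) x = 0 := by
    intro n x hx
    let πn : B ⊗[k] A →ₐ[k] (B ⧸ m ^ n) ⊗[k] A :=
      Algebra.TensorProduct.map (Ideal.Quotient.mkₐ k (m ^ n)) (AlgHom.id k A)
    have hω : SpO.map πn ≫ ω₀ =
        lift (SpO.map (Algebra.TensorProduct.includeLeft (R := k) (S := k)
          (A := B ⧸ m ^ n) (B := A))) (SpO.map πn ≫ SpO.map inclR ≫ jx) ≫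
        ((SpO.map (Ideal.Quotient.mkₐ k (m ^ n)) ≫ j) ▷ X) := by
      apply CartesianMonoidalCategory.hom_ext
      · rw [Category.assoc, lift_fst, Category.assoc, whiskerRight_fst, lift_fst_assoc,
          ← SpO.map_comp_assoc, Algebra.TensorProduct.map_comp_includeLeft, SpO.map_comp_assoc]
      · rw [Category.assoc, lift_snd, Category.assoc, whiskerRight_snd, lift_snd]
    have heq : (SpO.map πn ≫ ω₀) ≫ f = (SpO.map πn ≫ ω₀) ≫ fx := by
      rw [hω, Category.assoc, Category.assoc, hinf n]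
    have hz : ∃ z, z ≫ c = Spec.map (CommRingCat.ofHom πn.toRingHom) :=
      ⟨pullback.lift (equalizer.lift (SpO.map πn ≫ ω₀) heq).left
        (Spec.map (CommRingCat.ofHom πn.toRingHom)) (by
          rw [← Over.comp_left, equalizer.lift_ι, Over.comp_left]; rfl), pullback.lift_snd _ _ _⟩
    exact (hfac _ (CommRingCat.ofHom πn.toRingHom)).mp hz hx
  let lam : B ⊗[k] A →ₐ[k] Localization.Away (1 - r) ⊗[k] A :=
    Algebra.TensorProduct.map loc (AlgHom.id k A)
  obtain ⟨z', hz'⟩ := (hfac _ (CommRingCat.ofHom lam.toRingHom)).mpr (fun x hx =>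
    map_away_eq_zero B A (1 - r) x (htube A x (fun n => hle n x hx)))
  have heq' : (SpO.map lam ≫ ω₀) ≫ f = (SpO.map lam ≫ ω₀) ≫ fx := by
    apply Over.OverMorphism.ext
    rw [Over.comp_left, Over.comp_left, Over.comp_left, Over.comp_left]
    change (Spec.map (CommRingCat.ofHom lam.toRingHom) ≫ ω₀.left) ≫ f.left =
      (Spec.map (CommRingCat.ofHom lam.toRingHom) ≫ ω₀.left) ≫ fx.left
    have hc : c ≫ ω₀.left = pullback.fst e₀.left ω₀.left ≫ e₀.left := pullback.condition.symm
    rw [← hz', Category.assoc, Category.assoc, Category.assoc, Category.assoc, reassoc_of% hc,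
      reassoc_of% hc, ← Over.comp_left, ← Over.comp_left, equalizer.condition]
  have hω' : SpO.map lam ≫ ω₀ =
      lift (SpO.map (Algebra.TensorProduct.includeLeft (R := k) (S := k)
          (A := Localization.Away (1 - r)) (B := A)) ≫ SpO.map loc ≫ j)
        (SpO.map (Algebra.TensorProduct.includeRight (R := k)
          (A := Localization.Away (1 - r)) (B := A)) ≫ jx) := by
    apply CartesianMonoidalCategory.hom_ext
    · rw [Category.assoc, lift_fst, lift_fst, ← SpO.map_comp_assoc,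
        Algebra.TensorProduct.map_comp_includeLeft, SpO.map_comp_assoc]
    · rw [Category.assoc, lift_snd, lift_snd, ← SpO.map_comp_assoc,
        Algebra.TensorProduct.map_comp_includeRight, AlgHom.comp_id]
  rw [← hω']
  exact heq'

include htube hinf in
/-- `f` does not depend on the `X`-coordinate over the basic open `D(1 - r)` of the chart -/
theorem agree_nbhd :
    ((SpO.map (IsScalarTower.toAlgHom k B (Localization.Away (1 - r))) ≫ j) ▷ X) ≫ f =
      ((SpO.map (IsScalarTower.toAlgHom k B (Localization.Away (1 - r))) ≫ j) ▷ X) ≫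
        fst Y X ≫ lift (𝟙 Y) (toUnit Y ≫ x₀) ≫ f := by
  apply Over.OverMorphism.ext
  apply hom_ext_of_charts
  intro z
  obtain ⟨A, _, _, jx, hω, hz⟩ := exists_chart_right (Localization.Away (1 - r)) X z
  refine ⟨_, _, hω, hz, ?_⟩
  have e : lift (SpO.map (Algebra.TensorProduct.includeLeft (R := k) (S := k)
        (A := Localization.Away (1 - r)) (B := A)))
      (SpO.map (Algebra.TensorProduct.includeRight (R := k)
        (A := Localization.Away (1 - r)) (B := A)) ≫ jx) ≫
      ((SpO.map (IsScalarTower.toAlgHom k B (Localization.Away (1 - r))) ≫ j) ▷ X) =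
      lift (SpO.map (Algebra.TensorProduct.includeLeft (R := k) (S := k)
          (A := Localization.Away (1 - r)) (B := A)) ≫
        SpO.map (IsScalarTower.toAlgHom k B (Localization.Away (1 - r))) ≫ j)
      (SpO.map (Algebra.TensorProduct.includeRight (R := k)
          (A := Localization.Away (1 - r)) (B := A)) ≫ jx) := by
    apply CartesianMonoidalCategory.hom_ext
    · rw [Category.assoc, whiskerRight_fst, lift_fst_assoc, lift_fst]
    · rw [Category.assoc, whiskerRight_snd, lift_snd, lift_snd]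
  rw [← Over.comp_left, ← Over.comp_left, ← Category.assoc, ← Category.assoc, e]
  exact congrArg (fun θ => θ.left) (agree_chart X Y Z f x₀ B j m r htube hinf A jx)

end chartwise

section global

variable (X Y Z : Over (Spec (CommRingCat.of k))) (f : Y ⊗ X ⟶ Z)
  (x₀ : 𝟙_ (Over (Spec (CommRingCat.of k))) ⟶ X)

/-- the morphism `(y, x) ↦ f (y, x₀)` -/
noncomputable def constX : Y ⊗ X ⟶ Z := fst Y X ≫ lift (𝟙 Y) (toUnit Y ≫ x₀) ≫ f

/-- a set of points of `Y` over which `f` does not depend on the `X`-coordinate -/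
def GoodSet (N : Set Y.left) : Prop :=
  ∀ (T : Over (Spec (CommRingCat.of k))) (y : T ⟶ Y) (x : T ⟶ X),
    Set.range y.left.base ⊆ N → lift y x ≫ f = lift y x ≫ constX X Y Z f x₀

/-- local step: around a closed point over which `f` is pointwise independent of `X`, there is an
open neighbourhood over which `f` is independent of `X` -/
theorem exists_good_nbhd [CompactSpace X.left] [QuasiSeparatedSpace X.left]
    (hX : IsIso X.hom.appTop) [LocallyOfFiniteType Y.hom] [IsSeparated Z.hom] (y₁ : Y.left)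
    (hy₁ : IsClosed ({y₁} : Set Y.left))
    (hfib : ∀ t : (Y ⊗ X).left, (fst Y X).left.base t = y₁ →
      f.left.base t = (constX X Y Z f x₀).left.base t) :
    ∃ N : Set Y.left, IsOpen N ∧ y₁ ∈ N ∧ GoodSet X Y Z f x₀ N := by
  obtain ⟨B, _, _, j, hj, ⟨𝔭, h𝔭⟩⟩ := exists_chart Y y₁
  haveI := hj
  haveI : Algebra.FiniteType k B := finiteType_of_chart j
  haveI : IsNoetherianRing B := Algebra.FiniteType.isNoetherianRing k B
  change PrimeSpectrum B at 𝔭
  have hcl : IsClosed ({𝔭} : Set (PrimeSpectrum B)) := by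
    have : ({𝔭} : Set (PrimeSpectrum B)) = j.left.base ⁻¹' {y₁} := by
      ext q
      constructor
      · rintro rfl
        exact h𝔭
      · intro hq
        exact j.left.isOpenEmbedding.injective (hq.trans h𝔭.symm)
    rw [this]
    exact hy₁.preimage j.left.continuous
  have hmax : 𝔭.asIdeal.IsMaximal := (PrimeSpectrum.isClosed_singleton_iff_isMaximal 𝔭).mp hcl
  set m := 𝔭.asIdeal with hm
  set g : Y ⟶ Z := lift (𝟙 Y) (toUnit Y ≫ x₀) ≫ f with hg
  obtain ⟨C, _, _, jz, hjz, hz⟩ := exists_chart Z (g.left.base y₁)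
  haveI := hjz
  have h1 : Set.range (((SpO.map (Ideal.Quotient.mkₐ k m) ≫ j) ▷ X) ≫ f).left.base ⊆
      Set.range jz.left.base := by
    rintro _ ⟨t, rfl⟩
    have hfst : (fst Y X).left.base
        (((SpO.map (Ideal.Quotient.mkₐ k m) ≫ j) ▷ X).left.base t) = y₁ := by
      have e := congrArg (fun φ => φ.left.base t)
        (whiskerRight_fst (SpO.map (Ideal.Quotient.mkₐ k m) ≫ j) X)
      simp only [Over.comp_left, Scheme.Hom.comp_base, TopCat.hom_comp,
        ContinuousMap.comp_apply] at e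
      refine e.trans ?_
      have hq : ∀ q : PrimeSpectrum (B ⧸ m),
          (SpO.map (Ideal.Quotient.mkₐ k m)).left.base q = 𝔭 := by
        intro q
        apply PrimeSpectrum.ext
        change (PrimeSpectrum.comap _ q).asIdeal = m
        symm
        apply hmax.eq_of_le (PrimeSpectrum.comap _ q).isPrime.ne_top
        intro b hb
        change (Ideal.Quotient.mk m b) ∈ q.asIdeal
        rw [Ideal.Quotient.eq_zero_iff_mem.mpr hb]
        exact zero_mem _
      rw [hq]
      exact h𝔭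
    rw [Over.comp_left, Scheme.Hom.comp_apply, hfib _ hfst]
    change g.left.base ((fst Y X).left.base _) ∈ _
    rw [hfst]
    exact hz
  obtain ⟨r, hr, htube⟩ := KrullTube.exists_tube k B m
  have hinf := fun n => eq_infinitesimal X Y Z f B j m C jz hX x₀ h1 n
  have hagree := agree_nbhd X Y Z f x₀ B j m r htube hinf
  haveI hu : IsOpenImmersion
      (SpO.map (IsScalarTower.toAlgHom k B (Localization.Away (1 - r))) ≫ j).left := by
    rw [Over.comp_left]
    haveI : IsOpenImmersion
        (SpO.map (IsScalarTower.toAlgHom k B (Localization.Away (1 - r)))).left := by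
      change IsOpenImmersion (Spec.map (CommRingCat.ofHom
        (algebraMap B (Localization.Away (1 - r)))))
      infer_instance
    infer_instance
  refine ⟨Set.range (SpO.map (IsScalarTower.toAlgHom k B (Localization.Away (1 - r))) ≫
    j).left.base, Scheme.Hom.isOpenEmbedding _ |>.isOpen_range, ?_, ?_⟩
  · have h1r : (1 - r) ∉ m := by
      intro h
      apply hmax.ne_top
      rw [Ideal.eq_top_iff_one]
      have := m.add_mem h hr
      rwa [sub_add_cancel] at this
    have hmem : 𝔭 ∈ Set.range (PrimeSpectrum.comap (algebraMap B (Localization.Away (1 - r)))) := by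
      rw [PrimeSpectrum.localization_away_comap_range (Localization.Away (1 - r)) (1 - r)]
      exact h1r
    obtain ⟨𝔮, h𝔮⟩ := hmem
    refine ⟨𝔮, ?_⟩
    rw [Over.comp_left, Scheme.Hom.comp_apply]
    refine Eq.trans ?_ h𝔭
    congr 1
  · intro T y x hy
    let y'l : T.left ⟶ Spec (CommRingCat.of (Localization.Away (1 - r))) :=
      IsOpenImmersion.lift _ y.left hy
    have hy'l : y'l ≫ (SpO.map (IsScalarTower.toAlgHom k B (Localization.Away (1 - r))) ≫
        j).left = y.left := IsOpenImmersion.lift_fac _ _ _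
    let y' : T ⟶ SpO k (Localization.Away (1 - r)) := Over.homMk y'l (by
      rw [← Over.w (SpO.map (IsScalarTower.toAlgHom k B (Localization.Away (1 - r))) ≫ j),
        ← Category.assoc, hy'l]
      exact Over.w y)
    have hy' : y' ≫ (SpO.map (IsScalarTower.toAlgHom k B (Localization.Away (1 - r))) ≫ j) =
        y := by
      apply Over.OverMorphism.ext
      rw [Over.comp_left]
      exact hy'l
    have e : lift y x = lift y' x ≫
        ((SpO.map (IsScalarTower.toAlgHom k B (Localization.Away (1 - r))) ≫ j) ▷ X) := by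
      apply CartesianMonoidalCategory.hom_ext
      · rw [lift_fst, Category.assoc, whiskerRight_fst, lift_fst_assoc, hy']
      · rw [lift_snd, Category.assoc, whiskerRight_snd, lift_snd]
    rw [e, Category.assoc, Category.assoc, hagree]
    rfl

/-- **Rigidity lemma** (anti-affine version). Let `X` be an anti-affine `k`-scheme with a rational
point `x₀`, `Y` a connected `k`-scheme locally of finite type, `Z` separated, and
`f : Y × X ⟶ Z`.  If `f` is pointwise independent of `X` over one closed point of `Y`, then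
`f (y, x) = f (y, x₀)`. -/
theorem eq_constX [CompactSpace X.left] [QuasiSeparatedSpace X.left]
    (hX : IsIso X.hom.appTop) [LocallyOfFiniteType Y.hom] [ConnectedSpace Y.left]
    [IsSeparated Z.hom] (y₀ : Y.left) (hy₀ : IsClosed ({y₀} : Set Y.left))
    (hbase : ∀ t : (Y ⊗ X).left, (fst Y X).left.base t = y₀ →
      f.left.base t = (constX X Y Z f x₀).left.base t) :
    f = constX X Y Z f x₀ := by
  let S : Set Y.left := ⋃₀ {N | IsOpen N ∧ GoodSet X Y Z f x₀ N}
  have hSopen : IsOpen S := isOpen_sUnion (fun N hN => hN.1)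
  have hSgood : GoodSet X Y Z f x₀ S := by
    intro T y x hy
    apply Over.OverMorphism.ext
    apply hom_ext_of_charts
    intro p
    obtain ⟨N, ⟨hNo, hNg⟩, hpN⟩ := hy ⟨p, rfl⟩
    let U : T.left.Opens := y.left ⁻¹ᵁ ⟨N, hNo⟩
    refine ⟨U.toScheme, U.ι, inferInstance, ?_, ?_⟩
    · rw [Scheme.Opens.range_ι]
      exact hpN
    · let TU : Over (Spec (CommRingCat.of k)) := Over.mk (U.ι ≫ T.hom)
      let ωO : TU ⟶ T := Over.homMk U.ι rfl
      have h1 := hNg TU (ωO ≫ y) (ωO ≫ x) (by
        rintro _ ⟨q, rfl⟩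
        rw [Over.comp_left, Scheme.Hom.comp_base]
        have : U.ι.base q ∈ Set.range U.ι.base := ⟨_, rfl⟩
        rw [Scheme.Opens.range_ι] at this
        exact this)
      rw [← comp_lift, Category.assoc, Category.assoc] at h1
      exact congrArg (fun θ => θ.left) h1
  haveI hUO : UniversallyOpen X.hom :=
    Groth.Agent.Lib.Helper19.universallyOpen_of_isArtinianRing_of_isLocalRing k X.hom
  have hfstl : (fst Y X).left = pullback.fst Y.hom X.hom := rfl
  have hopen : IsOpenMap (fst Y X).left.base := by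
    rw [hfstl]
    exact Scheme.Hom.isOpenMap _
  have hclosedpt : ∀ y₁ : Y.left, IsClosed ({y₁} : Set Y.left) → y₁ ∈ closure S → y₁ ∈ S := by
    intro y₁ hy₁ hcl
    have hfib : ∀ t : (Y ⊗ X).left, (fst Y X).left.base t = y₁ →
        f.left.base t = (constX X Y Z f x₀).left.base t := by
      intro t ht
      let e := equalizer.ι f (constX X Y Z f x₀)
      haveI : IsClosedImmersion e.left := inferInstance
      have hrc : IsClosed (Set.range e.left.base) := e.left.isClosedEmbedding.isClosed_range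
      let P : (Y ⊗ X).left.Opens := (fst Y X).left ⁻¹ᵁ ⟨S, hSopen⟩
      let PO : Over (Spec (CommRingCat.of k)) := Over.mk (P.ι ≫ (Y ⊗ X).hom)
      let ω : PO ⟶ Y ⊗ X := Over.homMk P.ι rfl
      have hω : ω ≫ f = ω ≫ constX X Y Z f x₀ := by
        have h1 := hSgood PO (ω ≫ fst Y X) (ω ≫ snd Y X) (by
          rintro _ ⟨q, rfl⟩
          rw [Over.comp_left, Scheme.Hom.comp_base]
          have : P.ι.base q ∈ Set.range P.ι.base := ⟨_, rfl⟩
          rw [Scheme.Opens.range_ι] at this
          exact this)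
        rw [← comp_lift, lift_fst_snd, Category.comp_id] at h1
        exact h1
      have hPsub : (fst Y X).left.base ⁻¹' S ⊆ Set.range e.left.base := by
        intro p hp
        have hpP : p ∈ Set.range P.ι.base := by
          rw [Scheme.Opens.range_ι]
          exact hp
        obtain ⟨p', rfl⟩ := hpP
        refine ⟨(equalizer.lift ω hω).left.base p', ?_⟩
        rw [← Scheme.Hom.comp_apply, ← Over.comp_left, equalizer.lift_ι]
        rfl
      have hsub : (fst Y X).left.base ⁻¹' closure S ⊆ Set.range e.left.base :=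
        (hopen.preimage_closure_subset_closure_preimage).trans
          (hrc.closure_subset_iff.mpr hPsub)
      obtain ⟨s, hs⟩ := hsub (by
        change (fst Y X).left.base t ∈ closure S
        rw [ht]
        exact hcl)
      rw [← hs, ← Scheme.Hom.comp_apply, ← Scheme.Hom.comp_apply, ← Over.comp_left,
        ← Over.comp_left, equalizer.condition]
    obtain ⟨N, hNo, hyN, hNg⟩ := exists_good_nbhd X Y Z f x₀ hX y₁ hy₁ hfib
    exact ⟨N, ⟨hNo, hNg⟩, hyN⟩
  have hy₀S : y₀ ∈ S := by
    obtain ⟨N, hNo, hyN, hNg⟩ := exists_good_nbhd X Y Z f x₀ hX y₀ hy₀ hbase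
    exact ⟨N, ⟨hNo, hNg⟩, hyN⟩
  haveI : JacobsonSpace Y.left := LocallyOfFiniteType.jacobsonSpace (Y := Spec _) Y.hom
  have hSclosed : IsClosed S := by
    rw [← closure_subset_iff_isClosed]
    by_contra hne
    have hne' : (closure S \ S).Nonempty := by
      rw [Set.not_subset] at hne
      obtain ⟨a, ha1, ha2⟩ := hne
      exact ⟨a, ha1, ha2⟩
    have hlc : IsLocallyClosed (closure S \ S) := by
      rw [Set.sdiff_eq]
      exact (isClosed_closure.inter hSopen.isClosed_compl).isLocallyClosed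
    obtain ⟨y₁, ⟨hy1, hy2⟩, hy3⟩ := nonempty_inter_closedPoints hne' hlc
    exact hy2 (hclosedpt y₁ hy3 hy1)
  have huniv : S = Set.univ := IsClopen.eq_univ ⟨hSclosed, hSopen⟩ ⟨y₀, hy₀S⟩
  have h1 := hSgood (Y ⊗ X) (fst Y X) (snd Y X) (by rw [huniv]; exact Set.subset_univ _)
  rw [lift_fst_snd, Category.id_comp, Category.id_comp] at h1
  exact h1

end global

end Groth.Agent.Lib.Helper19.Rigidity
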