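import Mathlib
import Groth.Agent.Lib.Helper19.Grp.ArtinUnivOpen

/-!
# `U · V = G` for dense opens of a group scheme over a local artinian ring
-/

set_option autoImplicit false
universe u

open CategoryTheory CategoryTheory.Limits AlgebraicGeometry MonoidalCategory
  CartesianMonoidalCategory MonObj GrpObj

namespace Groth.Agent.Lib.Helper19

section

variable {S : Scheme.{u}} {T G : Over S} [GrpObj G] (t : T ⟶ G)

/-- `(t, b) ↦ t b⁻¹` -/
noncomputable def divMap : T ⊗ G ⟶ G := (fst T G ≫ t) * (snd T G)⁻¹

/-- `(t, b) ↦ (t, t b⁻¹)` -/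
noncomputable def divShear : T ⊗ G ≅ T ⊗ G where
  hom := lift (fst T G) (divMap t)
  inv := lift (fst T G) ((snd T G)⁻¹ * (fst T G ≫ t))
  hom_inv_id := by
    apply CartesianMonoidalCategory.hom_ext
    · simp
    · simp [divMap, comp_mul, GrpObj.comp_inv]
  inv_hom_id := by
    apply CartesianMonoidalCategory.hom_ext
    · simp
    · simp [divMap, comp_mul, GrpObj.comp_inv]

lemma divShear_hom_snd : (divShear t).hom ≫ snd T G = divMap t := by simp [divShear]

lemma lift_divMap_snd_mul : lift (divMap t) (snd T G) ≫ μ[G] = fst T G ≫ t := by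
  rw [← Hom.mul_def, divMap, _root_.mul_assoc, inv_mul_cancel, _root_.mul_one]

end

/-- Let `A` be a local artinian ring, `G` a group scheme over `A` and `U`, `V` dense opens of `G`.
Then every point of `G` is a product of a point of `U` and a point of `V`. -/
theorem exists_mul_eq_of_dense (A : Type u) [CommRing A] [IsArtinianRing A] [IsLocalRing A]
    (G : Over (Spec (CommRingCat.of A))) [GrpObj G] (U V : G.left.Opens)
    (hU : Dense (U : Set G.left)) (hV : Dense (V : Set G.left)) (g : G.left) :
    ∃ z : ↥(G ⊗ G).left, (fst G G).left.base z ∈ U ∧ (snd G G).left.base z ∈ V ∧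
      μ[G].left.base z = g := by
  haveI : Subsingleton ↥(Spec (CommRingCat.of A)) := by
    refine ⟨fun p q => ?_⟩
    apply PrimeSpectrum.ext
    have hp : p.asIdeal.IsMaximal := IsArtinianRing.isMaximal_of_isPrime p.asIdeal
    have hq : q.asIdeal.IsMaximal := IsArtinianRing.isMaximal_of_isPrime q.asIdeal
    rw [IsLocalRing.eq_maximalIdeal hp, IsLocalRing.eq_maximalIdeal hq]
  let T : Over (Spec (CommRingCat.of A)) := Over.mk (G.left.fromSpecResidueField g ≫ G.hom)
  let t : T ⟶ G := Over.homMk (G.left.fromSpecResidueField g)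
  have hTopen : UniversallyOpen T.hom := universallyOpen_of_isArtinianRing_of_isLocalRing A T.hom
  have hsnd : (snd T G).left = pullback.snd T.hom G.hom := rfl
  have hfst : (fst T G).left = pullback.fst T.hom G.hom := rfl
  have hopen1 : IsOpenMap (snd T G).left := by
    rw [hsnd]; exact Scheme.Hom.isOpenMap _
  haveI : IsIso (divShear t).hom.left :=
    inferInstanceAs (IsIso ((Over.forget _).map (divShear t).hom))
  have hopen2 : IsOpenMap (divMap t).left := by
    rw [← divShear_hom_snd t, Over.comp_left]
    exact hopen1.comp (asIso (divShear t).hom.left).hom.homeomorph.isOpenMap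
  -- a point of `T ⊗ G`
  obtain ⟨pt⟩ : Nonempty ↥T.left := inferInstanceAs (Nonempty ↥(Spec (G.left.residueField g)))
  obtain ⟨w₀, -, -⟩ := Scheme.Pullback.exists_preimage_pullback (f := T.hom) (g := G.hom) pt g
    (Subsingleton.elim _ _)
  haveI : Nonempty ↥(T ⊗ G).left := ⟨w₀⟩
  have hd1 : Dense ((divMap t).left ⁻¹' (U : Set G.left)) := hU.preimage hopen2
  have hd2 : Dense ((snd T G).left ⁻¹' (V : Set G.left)) := hV.preimage hopen1
  have ho1 : IsOpen ((divMap t).left ⁻¹' (U : Set G.left)) :=
    U.isOpen.preimage (divMap t).left.continuous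
  obtain ⟨w, hw1, hw2⟩ := (hd1.inter_of_isOpen_left hd2 ho1).nonempty
  refine ⟨(lift (divMap t) (snd T G)).left w, ?_, ?_, ?_⟩
  · have e := congrArg (fun φ => φ.left w) (lift_fst (divMap t) (snd T G))
    simp only [Over.comp_left, Scheme.Hom.comp_apply] at e
    change (fst G G).left ((lift (divMap t) (snd T G)).left w) ∈ U
    rw [e]
    exact hw1
  · have e := congrArg (fun φ => φ.left w) (lift_snd (divMap t) (snd T G))
    simp only [Over.comp_left, Scheme.Hom.comp_apply] at e
    change (snd G G).left ((lift (divMap t) (snd T G)).left w) ∈ V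
    rw [e]
    exact hw2
  · have e := congrArg (fun φ => φ.left w) (lift_divMap_snd_mul t)
    simp only [Over.comp_left, Scheme.Hom.comp_apply] at e
    change μ[G].left ((lift (divMap t) (snd T G)).left w) = g
    rw [e]
    exact Scheme.fromSpecResidueField_apply g _

end Groth.Agent.Lib.Helper19
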