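import Mathlib
import Groth.Agent.Lib.Helper19.FlatStalkDescent
import Groth.Agent.Lib.Helper19.EtalePointwise

/-!
# Pointwise flatness and flat base change, without finiteness hypotheses

For a pullback square with `g` flat, the base change `f'` is flat at `x'` iff `f` is flat at the
image of `x'`.
-/

set_option autoImplicit false
universe u

open CategoryTheory CategoryTheory.Limits AlgebraicGeometry

namespace Groth.Agent.Lib.Helper19

/-- A flat preimmersion induces isomorphisms on stalks. -/
theorem bijective_stalkMap_of_flat_of_isPreimmersion {W Y : Scheme.{u}} (j : W ⟶ Y) [Flat j]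
    [IsPreimmersion j] (w : W) : Function.Bijective (j.stalkMap w).hom := by
  refine ⟨?_, j.stalkMap_surjective w⟩
  have hflat : (j.stalkMap w).hom.Flat := Flat.stalkMap j w
  algebraize [(j.stalkMap w).hom]
  haveI : IsLocalHom (algebraMap (Y.presheaf.stalk (j w)) (W.presheaf.stalk w)) :=
    inferInstanceAs (IsLocalHom (j.stalkMap w).hom)
  haveI : Module.FaithfullyFlat (Y.presheaf.stalk (j w)) (W.presheaf.stalk w) :=
    Module.FaithfullyFlat.of_flat_of_isLocalHom
  exact FaithfulSMul.algebraMap_injective _ _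

/-- The stalk map of a flat morphism is faithfully flat. -/
theorem faithfullyFlat_stalkMap {X Y : Scheme.{u}} (f : X ⟶ Y) [Flat f] (x : X) :
    (f.stalkMap x).hom.FaithfullyFlat := by
  have hflat : (f.stalkMap x).hom.Flat := Flat.stalkMap f x
  algebraize [(f.stalkMap x).hom]
  haveI : IsLocalHom (algebraMap (Y.presheaf.stalk (f x)) (X.presheaf.stalk x)) :=
    inferInstanceAs (IsLocalHom (f.stalkMap x).hom)
  haveI : Module.FaithfullyFlat (Y.presheaf.stalk (f x)) (X.presheaf.stalk x) :=
    Module.FaithfullyFlat.of_flat_of_isLocalHom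
  exact (RingHom.faithfullyFlat_algebraMap_iff).mpr inferInstance

lemma CommRingCat.flat_comp {A B C : CommRingCat.{u}} (a : A ⟶ B) (b : B ⟶ C)
    (ha : a.hom.Flat) (hb : b.hom.Flat) : (a ≫ b).hom.Flat := by
  rw [CommRingCat.hom_comp]
  exact RingHom.Flat.comp ha hb

lemma CommRingCat.flat_of_comp_of_faithfullyFlat {A B C : CommRingCat.{u}} (a : A ⟶ B) (b : B ⟶ C)
    (hb : b.hom.FaithfullyFlat) (h : (a ≫ b).hom.Flat) : a.hom.Flat := by
  rw [CommRingCat.hom_comp] at h
  exact RingHom.Flat.of_comp_of_faithfullyFlat _ _ hb h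

lemma CommRingCat.flat_of_comp_of_bijective {A B C : CommRingCat.{u}} (a : A ⟶ B) (b : B ⟶ C)
    (hb : Function.Bijective b.hom) (h : (a ≫ b).hom.Flat) : a.hom.Flat :=
  CommRingCat.flat_of_comp_of_faithfullyFlat a b (RingHom.FaithfullyFlat.of_bijective hb) h

/-- If `f` is flat at `x` then `Spec 𝒪_{X,x} ⟶ X ⟶ Y` is flat. -/
theorem flat_fromSpecStalk_comp {X Y : Scheme.{u}} (f : X ⟶ Y) (x : X)
    (h : (f.stalkMap x).hom.Flat) : Flat (X.fromSpecStalk x ≫ f) := by
  rw [← Scheme.SpecMap_stalkMap_fromSpecStalk]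
  have : Flat (Spec.map (f.stalkMap x)) := Flat.SpecMap_iff.2 h
  infer_instance

/-- Pointwise flatness is compatible with flat base change (no finiteness hypotheses). -/
theorem flat_stalkMap_iff_of_isPullback' {X' X Y' Y : Scheme.{u}} {k : X' ⟶ X} {f' : X' ⟶ Y'}
    {f : X ⟶ Y} {g : Y' ⟶ Y} (sq : IsPullback k f' f g) [Flat g] (x' : X') :
    (f'.stalkMap x').hom.Flat ↔ (f.stalkMap (k x')).hom.Flat := by
  have hk : Flat k := MorphismProperty.of_isPullback (P := @Flat) sq.flip ‹_›
  constructor
  · intro hx'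
    -- descent
    have h1 : ((f' ≫ g).stalkMap x').hom.Flat := by
      rw [Scheme.Hom.stalkMap_comp]
      exact CommRingCat.flat_comp _ _ (Flat.stalkMap g _) hx'
    have key : ∀ (φ : X' ⟶ Y) (hφ : φ = k ≫ f), (φ.stalkMap x').hom.Flat →
        (f.stalkMap (k x')).hom.Flat := by
      rintro φ rfl h
      rw [Scheme.Hom.stalkMap_comp] at h
      exact CommRingCat.flat_of_comp_of_faithfullyFlat _ _ (faithfullyFlat_stalkMap k x') h
    exact key _ sq.w.symm h1
  · intro hx
    -- ascent
    set x := k x' with hxdef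
    let j := X.fromSpecStalk x
    have hjf : Flat (j ≫ f) := flat_fromSpecStalk_comp f x hx
    have hj : Flat j := inferInstance
    -- the base change of `j` along `k`
    let p₁ := pullback.fst j k
    let j' := pullback.snd j k
    have hj' : Flat j' := inferInstance
    have hj'pre : IsPreimmersion j' := inferInstance
    -- `p₁ ≫ j ≫ f = j' ≫ f' ≫ g`, and `(j' ≫ f')` is the base change of `j ≫ f` along `g`
    have big : IsPullback p₁ (j' ≫ f') (j ≫ f) g :=
      (IsPullback.of_hasPullback j k).paste_vert sq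
    have hflat : Flat (j' ≫ f') := MorphismProperty.of_isPullback (P := @Flat) big hjf
    obtain ⟨w, hw1, hw2⟩ := Scheme.Pullback.exists_preimage_pullback
      (f := j) (g := k) (IsLocalRing.closedPoint (X.presheaf.stalk x)) x'
      (Scheme.fromSpecStalk_closedPoint)
    have h2 := Flat.stalkMap (j' ≫ f') w
    rw [Scheme.Hom.stalkMap_comp] at h2
    have hbij := bijective_stalkMap_of_flat_of_isPreimmersion j' w
    have key : ∀ (z : X') (hz : z = x'), (f'.stalkMap z).hom.Flat → (f'.stalkMap x').hom.Flat := by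
      rintro _ rfl h; exact h
    exact key (j' w) hw2 (CommRingCat.flat_of_comp_of_bijective _ _ hbij h2)

end Groth.Agent.Lib.Helper19
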