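import Mathlib
import Groth.Agent.Lib.Helper19.Grp.Homogeneity
import Groth.Agent.Lib.Helper19.Sm.SmoothFiberPointwise

/-!
# Homogeneity of locally algebraic groups over a field at arbitrary points

A flat-base-change-invariant pointwise property of a homomorphism of locally algebraic groups over a
field which holds at one point (not necessarily rational) holds at all points.
-/

set_option autoImplicit false
universe u

open CategoryTheory CategoryTheory.Limits AlgebraicGeometry MonoidalCategory
  CartesianMonoidalCategory MonObj

namespace Groth.Agent.Lib.Helper19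

variable (k : Type u) [Field k]

section Shear

variable {C : Type*} [Category C] [CartesianMonoidalCategory C] (G : C) [GrpObj G]

/-- the shear isomorphism `(a, b) ↦ (a, a * b)` -/
def shear : G ⊗ G ≅ G ⊗ G where
  hom := lift (fst G G) (fst G G * snd G G)
  inv := lift (fst G G) ((fst G G)⁻¹ * snd G G)
  hom_inv_id := by
    apply CartesianMonoidalCategory.hom_ext
    · simp
    · simp [comp_mul, GrpObj.comp_inv]
  inv_hom_id := by
    apply CartesianMonoidalCategory.hom_ext
    · simp
    · simp [comp_mul, GrpObj.comp_inv]

lemma shear_inv_fst : (shear G).inv ≫ fst G G = fst G G := by simp [shear]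

lemma shear_hom_snd : (shear G).hom ≫ snd G G = μ[G] := by
  simp [shear, Hom.mul_def]

lemma shear_inv_mul : (shear G).inv ≫ μ[G] = snd G G := by
  rw [← shear_hom_snd, Iso.inv_hom_id_assoc]

end Shear

/-- Homogeneity at arbitrary points. -/
theorem forall_of_exists_of_isFlatBaseChangeInvariant
    {Q : ∀ {X Y : Scheme.{u}} (_ : X ⟶ Y), X → Prop} (hQ : IsFlatBaseChangeInvariant Q)
    (H G : Over (Spec (CommRingCat.of k))) [GrpObj H] [GrpObj G]
    [LocallyOfFiniteType H.hom] [LocallyOfFiniteType G.hom] (f : H ⟶ G) [IsMonHom f]
    (x : H.left) (hx : Q f.left x) (y : H.left) : Q f.left y := by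
  have hxy : H.hom x = H.hom y := Subsingleton.elim (α := PrimeSpectrum k) _ _
  obtain ⟨w, hw1, hw2⟩ := Scheme.Pullback.exists_preimage_pullback x y hxy
  have hfst : (fst H H).left = pullback.fst H.hom H.hom := rfl
  have hsnd : (snd H H).left = pullback.snd H.hom H.hom := rfl
  let z : ↥(H ⊗ H).left := (shear H).inv.left w
  have h1 : (fst H H).left z = x := by
    have e := congrArg (fun φ => φ.left w) (shear_inv_fst H)
    simp only [Over.comp_left, Scheme.Hom.comp_apply] at e
    rw [← hw1, ← hfst]
    exact e
  have h2 : μ[H].left z = y := by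
    have e := congrArg (fun φ => φ.left w) (shear_inv_mul H)
    simp only [Over.comp_left, Scheme.Hom.comp_apply] at e
    rw [← hw2, ← hsnd]
    exact e
  have key := (fst_iff_mul_of_isFlatBaseChangeInvariant k hQ H G f z).mp (h1 ▸ hx)
  exact h2 ▸ key

/-- Formal smoothness of the stalk map is invariant under flat base change. -/
theorem isFlatBaseChangeInvariant_formallySmooth :
    IsFlatBaseChangeInvariant
      (fun {X Y : Scheme.{u}} (f : X ⟶ Y) x => (f.stalkMap x).hom.FormallySmooth) := by
  intro X' X Y' Y k f' f g sq hg hf hY x'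
  haveI := hg
  haveI := hf
  haveI := hY
  haveI : LocallyOfFinitePresentation f' :=
    MorphismProperty.of_isPullback (P := @LocallyOfFinitePresentation) sq inferInstance
  have := smoothLocus_eq_preimage_of_isPullback f g f' k sq (Or.inr hg)
  have h2 : x' ∈ f'.smoothLocus ↔ x' ∈ k ⁻¹ᵁ f.smoothLocus := by rw [this]
  exact h2

/-- A locally algebraic group over a field with a smooth point is smooth. -/
theorem smooth_of_exists_mem_smoothLocus (G : Over (Spec (CommRingCat.of k))) [GrpObj G]
    [LocallyOfFiniteType G.hom] (h : ∃ x : G.left, x ∈ G.hom.smoothLocus) : Smooth G.hom := by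
  obtain ⟨x, hx⟩ := h
  rw [← Scheme.Hom.smoothLocus_eq_top_iff]
  ext y
  simp only [TopologicalSpace.Opens.coe_top, Set.mem_univ, iff_true, SetLike.mem_coe]
  have hlft : LocallyOfFiniteType (𝟙_ (Over (Spec (CommRingCat.of k)))).hom := by
    change LocallyOfFiniteType (𝟙 _)
    infer_instance
  have key := forall_of_exists_of_isFlatBaseChangeInvariant k
    isFlatBaseChangeInvariant_formallySmooth G (𝟙_ _) (toUnit G) x
  rw [toUnit_left_eq] at key
  exact key hx y

end Groth.Agent.Lib.Helper19
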