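import Mathlib
import Groth.Prelude.Def_ChGrp
import Groth.Agent.Lib.Helper19.Grp.FlatPt
import Groth.Agent.Lib.Helper19.Grp.GeneralHomogeneity

/-!
# Homogeneity of orbit maps of flat group schemes over a one-point base

Let `S` be a scheme whose underlying space has at most one point (e.g. the spectrum of a local
artinian ring), `G` a flat `S`-group scheme acting on an `S`-scheme `X`, `o` a section of `X` and
`φ : G ⟶ X`, `g ↦ g • o` the orbit map.  A pointwise property of morphisms which is invariant under
flat base change holds at all points of `G` for `φ` as soon as it holds at one point.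
-/

set_option autoImplicit false
universe u

open CategoryTheory CategoryTheory.Limits AlgebraicGeometry MonoidalCategory
  CartesianMonoidalCategory MonObj GrpObj

namespace Groth.Agent.Lib.Helper19

/-- A pointwise property of morphisms of schemes invariant under arbitrary flat base change. -/
def IsFlatBaseChangeInvariant' (Q : ∀ {X Y : Scheme.{u}} (_ : X ⟶ Y), X → Prop) : Prop :=
  ∀ {X' X Y' Y : Scheme.{u}} {k : X' ⟶ X} {f' : X' ⟶ Y'} {f : X ⟶ Y} {g : Y' ⟶ Y},
    IsPullback k f' f g → Flat g → ∀ x' : X', Q f' x' ↔ Q f (k x')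

theorem isFlatBaseChangeInvariant'_flat :
    IsFlatBaseChangeInvariant'
      (fun {X Y : Scheme.{u}} (f : X ⟶ Y) x => (f.stalkMap x).hom.Flat) := by
  intro X' X Y' Y k f' f g sq hg x'
  exact flat_stalkMap_iff_of_isPullback' sq x'

section Cartesian

variable {C : Type*} [Category C] [CartesianMonoidalCategory C]

/-- `(G ◁ φ, snd, snd, φ)` is a pullback square. -/
theorem isPullback_whiskerLeft_snd (G : C) {Y X : C} (φ : Y ⟶ X) :
    IsPullback (G ◁ φ) (snd G Y) (snd G X) φ := by
  refine ⟨⟨by simp⟩, ⟨PullbackCone.IsLimit.mk _ (fun s => lift (s.fst ≫ fst G X) s.snd) ?_ ?_ ?_⟩⟩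
  · intro s
    apply CartesianMonoidalCategory.hom_ext
    · simp
    · simp [s.condition]
  · intro s
    simp
  · intro s m h1 h2
    apply CartesianMonoidalCategory.hom_ext
    · simp [← h1]
    · simp [← h2]

end Cartesian

section Orbit

variable {S : Scheme.{u}} {G X : Over S} [GrpObj G] (a : AlgGrp.Action G X)

/-- `(g, x) ↦ (g, g • x)` -/
noncomputable def actShear : G ⊗ X ≅ G ⊗ X where
  hom := lift (fst G X) a.act
  inv := lift (fst G X) (lift ((fst G X)⁻¹) (snd G X) ≫ a.act)
  hom_inv_id := by
    apply CartesianMonoidalCategory.hom_ext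
    · simp
    · rw [Category.assoc, lift_snd, comp_lift_assoc, GrpObj.comp_inv, lift_fst, lift_snd,
        Category.id_comp]
      have h := a.lift_mul_act ((fst G X)⁻¹) (fst G X) (snd G X)
      rw [lift_fst_snd, Category.id_comp] at h
      rw [← h, inv_mul_cancel, a.lift_one_act]
  inv_hom_id := by
    apply CartesianMonoidalCategory.hom_ext
    · simp
    · rw [Category.assoc, lift_snd, Category.id_comp]
      have h1 : lift (fst G X) (lift ((fst G X)⁻¹) (snd G X) ≫ a.act) ≫ a.act =
          lift (fst G X * (fst G X)⁻¹) (snd G X) ≫ a.act := (a.lift_mul_act _ _ _).symm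
      have h2 : lift (fst G X) (lift (fst G X)⁻¹ (snd G X) ≫ a.act) =
          lift (fst G X) (lift (fst G X)⁻¹ (snd G X) ≫ a.act) ≫ lift (fst G X) (snd G X) := by
        rw [lift_fst_snd, Category.comp_id]
      rw [h1, mul_inv_cancel, a.lift_one_act]

lemma actShear_hom_snd : (actShear a).hom ≫ snd G X = a.act := by simp [actShear]

lemma actShear_hom_fst : (actShear a).hom ≫ fst G X = fst G X := by simp [actShear]

variable (o : 𝟙_ (Over S) ⟶ X)

/-- equivariance of the orbit map: `φ (g h) = g • φ h` -/
lemma shear_whiskerLeft_orbitMap :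
    (shear G).hom ≫ (G ◁ a.orbitMap o) = (G ◁ a.orbitMap o) ≫ (actShear a).hom := by
  apply CartesianMonoidalCategory.hom_ext
  · simp [shear, actShear]
  · simp only [shear, actShear, Category.assoc, whiskerLeft_snd, lift_snd_assoc, lift_snd]
    rw [a.comp_orbitMap, a.lift_mul_act]
    congr 1
    apply CartesianMonoidalCategory.hom_ext
    · simp
    · rw [lift_snd, whiskerLeft_snd, a.comp_orbitMap]

/-- `(G ◁ φ, μ, act, φ)` is a pullback square. -/
theorem isPullback_whiskerLeft_orbitMap_mul :
    IsPullback (G ◁ a.orbitMap o) μ[G] a.act (a.orbitMap o) := by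
  have top : IsPullback (G ◁ a.orbitMap o) (shear G).hom (actShear a).hom (G ◁ a.orbitMap o) :=
    IsPullback.of_vert_isIso ⟨(shear_whiskerLeft_orbitMap a o).symm⟩
  have := top.paste_vert (isPullback_whiskerLeft_snd G (a.orbitMap o))
  rwa [shear_hom_snd, actShear_hom_snd] at this

/-- Translation invariance along the orbit map. -/
theorem snd_iff_mul_of_isFlatBaseChangeInvariant'
    {Q : ∀ {X Y : Scheme.{u}} (_ : X ⟶ Y), X → Prop} (hQ : IsFlatBaseChangeInvariant' Q)
    [Flat G.hom] (z : ↥(G ⊗ G).left) :
    Q (a.orbitMap o).left ((snd G G).left z) ↔ Q (a.orbitMap o).left (μ[G].left z) := by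
  have sq1 := (isPullback_whiskerLeft_snd G (a.orbitMap o)).map (Over.forget _)
  have sq2 := (isPullback_whiskerLeft_orbitMap_mul a o).map (Over.forget _)
  simp only [Over.forget_obj, Over.forget_map] at sq1 sq2
  have hsnd : (snd G X).left = pullback.snd G.hom X.hom := rfl
  have h1 : Flat (snd G X).left := by rw [hsnd]; infer_instance
  haveI : IsIso (actShear a).hom.left :=
    inferInstanceAs (IsIso ((Over.forget _).map (actShear a).hom))
  have h2 : Flat a.act.left := by
    rw [← actShear_hom_snd a, Over.comp_left]; infer_instance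
  exact (hQ sq1.flip h1 z).symm.trans (hQ sq2.flip h2 z)

/-- Homogeneity of orbit maps over a one-point base. -/
theorem forall_of_exists_orbitMap_of_isFlatBaseChangeInvariant'
    {Q : ∀ {X Y : Scheme.{u}} (_ : X ⟶ Y), X → Prop} (hQ : IsFlatBaseChangeInvariant' Q)
    [Subsingleton S] [Flat G.hom] (x : G.left) (hx : Q (a.orbitMap o).left x) (y : G.left) :
    Q (a.orbitMap o).left y := by
  have hxy : G.hom y = G.hom x := Subsingleton.elim _ _
  obtain ⟨w, hw1, hw2⟩ := Scheme.Pullback.exists_preimage_pullback y x hxy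
  have hfst : (fst G G).left = pullback.fst G.hom G.hom := rfl
  have hsnd : (snd G G).left = pullback.snd G.hom G.hom := rfl
  let σ := Groth.Agent.Lib.Helper10.GrpShear.sigma (G := G)
  let z : ↥(G ⊗ G).left := σ.inv.left w
  have h1 : (snd G G).left z = x := by
    have e0 : σ.inv ≫ snd G G = snd G G := by
      simp [σ, Groth.Agent.Lib.Helper10.GrpShear.sigma]
    have e := congrArg (fun φ => φ.left w) e0
    simp only [Over.comp_left, Scheme.Hom.comp_apply] at e
    rw [← hw2, ← hsnd]
    exact e
  have h2 : μ[G].left z = y := by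
    have e0 : σ.inv ≫ μ[G] = fst G G := by
      rw [← Groth.Agent.Lib.Helper10.GrpShear.sigma_hom_fst, Iso.inv_hom_id_assoc]
    have e := congrArg (fun φ => φ.left w) e0
    simp only [Over.comp_left, Scheme.Hom.comp_apply] at e
    rw [← hw1, ← hfst]
    exact e
  have key := (snd_iff_mul_of_isFlatBaseChangeInvariant' a o hQ z).mp (h1 ▸ hx)
  exact h2 ▸ key

/-- An orbit map of a flat group scheme over a one-point base which is flat at one point is
flat. -/
theorem flat_orbitMap_of_exists_flat_stalkMap [Subsingleton S] [Flat G.hom]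
    (h : ∃ g : G.left, ((a.orbitMap o).left.stalkMap g).hom.Flat) : Flat (a.orbitMap o).left := by
  obtain ⟨x, hx⟩ := h
  rw [Flat.iff_flat_stalkMap]
  exact forall_of_exists_orbitMap_of_isFlatBaseChangeInvariant' a o
    isFlatBaseChangeInvariant'_flat x hx

end Orbit

/-- The spectrum of a local artinian ring has exactly one point. -/
instance subsingleton_Spec_of_isArtinianRing_of_isLocalRing (A : Type u) [CommRing A]
    [IsArtinianRing A] [IsLocalRing A] : Subsingleton ↥(Spec (CommRingCat.of A)) := by
  refine ⟨fun p q => ?_⟩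
  apply PrimeSpectrum.ext
  have hp : p.asIdeal.IsMaximal := IsArtinianRing.isMaximal_of_isPrime p.asIdeal
  have hq : q.asIdeal.IsMaximal := IsArtinianRing.isMaximal_of_isPrime q.asIdeal
  rw [IsLocalRing.eq_maximalIdeal hp, IsLocalRing.eq_maximalIdeal hq]

section Hom

variable {S : Scheme.{u}} {G H : Over S} [GrpObj G] [GrpObj H]

lemma orbitMap_restrict_trivialAction_one (u : G ⟶ H) [IsMonHom u] :
    ((NonAbH1.trivialAction H).restrict u).orbitMap η[H] = u := by
  rw [AlgGrp.Action.orbitMap, AlgGrp.Action.restrict_act, lift_whiskerRight_assoc]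
  change lift (𝟙 G ≫ u) (toUnit G ≫ η[H]) ≫ μ[H] = u
  rw [Category.id_comp, ← Hom.mul_def, ← Hom.one_def, _root_.mul_one]

/-- A homomorphism from a flat group scheme over a one-point base which is flat at one point is
flat. -/
theorem flat_hom_of_exists_flat_stalkMap [Subsingleton S] [Flat G.hom] (u : G ⟶ H) [IsMonHom u]
    (h : ∃ x : G.left, (u.left.stalkMap x).hom.Flat) : Flat u.left := by
  have key := flat_orbitMap_of_exists_flat_stalkMap ((NonAbH1.trivialAction H).restrict u) η[H]
  rw [orbitMap_restrict_trivialAction_one u] at key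
  exact key h

end Hom

end Groth.Agent.Lib.Helper19
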