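import Mathlib
import Groth.Agent.Lib.Helper19.Grp.DenseProduct
import Groth.Agent.Lib.Helper19.Grp.OrbitHomogeneity

/-!
# Locally closed subgroups of group schemes over a local artinian ring are closed

A subset `Y` of the underlying space of a group scheme `G` is a *subgroup set* if it contains the
unit points, is stable under inversion and if `μ z ∈ Y` for every point `z` of `G × G` both of whose
projections lie in `Y`.  Over a local artinian ring, a locally closed subgroup set is closed.
-/

set_option autoImplicit false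
universe u

open CategoryTheory CategoryTheory.Limits AlgebraicGeometry MonoidalCategory
  CartesianMonoidalCategory MonObj GrpObj

namespace Groth.Agent.Lib.Helper19

/-- points of a pullback square -/
theorem exists_preimage_of_isPullback {P X Y Z : Scheme.{u}} {fst' : P ⟶ X} {snd' : P ⟶ Y}
    {f : X ⟶ Z} {g : Y ⟶ Z} (sq : IsPullback fst' snd' f g) (x : X) (y : Y) (h : f x = g y) :
    ∃ w : P, fst' w = x ∧ snd' w = y := by
  obtain ⟨w, hw1, hw2⟩ := Scheme.Pullback.exists_preimage_pullback x y h
  refine ⟨sq.isoPullback.inv w, ?_, ?_⟩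
  · have := congrArg (fun φ => φ w) sq.isoPullback_inv_fst
    simp only [Scheme.Hom.comp_apply] at this
    rw [this, hw1]
  · have := congrArg (fun φ => φ w) sq.isoPullback_inv_snd
    simp only [Scheme.Hom.comp_apply] at this
    rw [this, hw2]

section Cartesian

variable {C : Type*} [Category C] [CartesianMonoidalCategory C]

/-- `(φ ▷ K, fst, fst, φ)` is a pullback square. -/
theorem isPullback_whiskerRight_fst (K : C) {Y X : C} (φ : Y ⟶ X) :
    IsPullback (φ ▷ K) (fst Y K) (fst X K) φ := by
  refine ⟨⟨by simp⟩, ⟨PullbackCone.IsLimit.mk _ (fun s => lift s.snd (s.fst ≫ snd X K)) ?_ ?_ ?_⟩⟩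
  · intro s
    apply CartesianMonoidalCategory.hom_ext
    · simp [s.condition]
    · simp
  · intro s
    simp
  · intro s m h1 h2
    apply CartesianMonoidalCategory.hom_ext
    · simp [← h2]
    · simp [← h1]

end Cartesian

/-- A subset of the underlying space of a group scheme which is "a subgroup". -/
structure IsSubgroupSet {S : Scheme.{u}} (G : Over S) [GrpObj G] (Y : Set G.left) : Prop where
  one_mem : ∀ pt : ↥(𝟙_ (Over S)).left, η[G].left pt ∈ Y
  inv_mem : ∀ y ∈ Y, ι[G].left y ∈ Y
  mul_mem : ∀ z : ↥(G ⊗ G).left, (fst G G).left z ∈ Y → (snd G G).left z ∈ Y → μ[G].left z ∈ Y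

/-- The range of a homomorphism is a subgroup set. -/
theorem isSubgroupSet_range {S : Scheme.{u}} {H G : Over S} [GrpObj H] [GrpObj G] (u : H ⟶ G)
    [IsMonHom u] : IsSubgroupSet G (Set.range u.left) where
  one_mem pt := by
    refine ⟨η[H].left pt, ?_⟩
    have e := congrArg (fun φ => φ.left pt) (IsMonHom.one_hom (f := u))
    simp only [Over.comp_left, Scheme.Hom.comp_apply] at e
    exact e
  inv_mem := by
    rintro _ ⟨h, rfl⟩
    refine ⟨ι[H].left h, ?_⟩
    have e := congrArg (fun φ => φ.left h) (GrpObj.inv_hom u)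
    simp only [Over.comp_left, Scheme.Hom.comp_apply] at e
    exact e
  mul_mem := by
    rintro z ⟨h₁, hh₁⟩ ⟨h₂, hh₂⟩
    -- lift `z` to `G ⊗ H`
    have sq1 := (isPullback_whiskerLeft_snd G u).map (Over.forget _)
    simp only [Over.forget_obj, Over.forget_map] at sq1
    obtain ⟨z', hz'1, hz'2⟩ := exists_preimage_of_isPullback sq1 z h₂ hh₂.symm
    -- lift `z'` to `H ⊗ H`
    have sq2 := (isPullback_whiskerRight_fst H u).map (Over.forget _)
    simp only [Over.forget_obj, Over.forget_map] at sq2
    have hfz' : (fst G H).left z' = u.left h₁ := by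
      have e := congrArg (fun φ => φ.left z') (whiskerLeft_fst G u)
      simp only [Over.comp_left, Scheme.Hom.comp_apply] at e
      rw [← e, hz'1, hh₁]
    obtain ⟨z'', hz''1, hz''2⟩ := exists_preimage_of_isPullback sq2 z' h₁ hfz'
    refine ⟨μ[H].left z'', ?_⟩
    have e0 : μ[H] ≫ u = (u ▷ H) ≫ (G ◁ u) ≫ μ[G] := by
      rw [IsMonHom.mul_hom, MonoidalCategory.tensorHom_def, Category.assoc]
    have e := congrArg (fun φ => φ.left z'') e0
    simp only [Over.comp_left, Scheme.Hom.comp_apply] at e
    rw [e, hz''1, hz'1]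

variable (A : Type u) [CommRing A] [IsArtinianRing A] [IsLocalRing A]
  (G : Over (Spec (CommRingCat.of A))) [GrpObj G]

/-- `closure Y · Y ⊆ closure Y` -/
theorem IsSubgroupSet.mul_mem_closure {Y : Set G.left} (hY : IsSubgroupSet G Y)
    (z : ↥(G ⊗ G).left) (hz1 : (fst G G).left z ∈ closure Y) (hz2 : (snd G G).left z ∈ Y) :
    μ[G].left z ∈ closure Y := by
  set b := (snd G G).left z with hb
  let T : Over (Spec (CommRingCat.of A)) := Over.mk (G.left.fromSpecResidueField b ≫ G.hom)
  let t : T ⟶ G := Over.homMk (G.left.fromSpecResidueField b)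
  have ht : ∀ x : T.left, t.left x = b := fun x => Scheme.fromSpecResidueField_apply b x
  have hTopen : UniversallyOpen T.hom := universallyOpen_of_isArtinianRing_of_isLocalRing A T.hom
  have hfst : (fst G T).left = pullback.fst G.hom T.hom := rfl
  have hopen : IsOpenMap (fst G T).left := by
    rw [hfst]; exact Scheme.Hom.isOpenMap _
  have sq := (isPullback_whiskerLeft_snd G t).map (Over.forget _)
  simp only [Over.forget_obj, Over.forget_map] at sq
  obtain ⟨pt⟩ : Nonempty ↥T.left := inferInstanceAs (Nonempty ↥(Spec (G.left.residueField b)))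
  obtain ⟨w, hw1, -⟩ := exists_preimage_of_isPullback sq z pt (ht pt).symm
  let C : Set ↥(G ⊗ T).left := {w | μ[G].left ((G ◁ t).left w) ∈ closure Y}
  have hC : IsClosed C :=
    isClosed_closure.preimage (μ[G].left.continuous.comp (G ◁ t).left.continuous)
  have hfstw : ∀ w' : ↥(G ⊗ T).left, (fst G G).left ((G ◁ t).left w') = (fst G T).left w' := by
    intro w'
    have e := congrArg (fun φ => φ.left w') (whiskerLeft_fst G t)
    simp only [Over.comp_left, Scheme.Hom.comp_apply] at e
    exact e
  have hsndw : ∀ w' : ↥(G ⊗ T).left, (snd G G).left ((G ◁ t).left w') = b := by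
    intro w'
    have e := congrArg (fun φ => φ.left w') (whiskerLeft_snd G t)
    simp only [Over.comp_left, Scheme.Hom.comp_apply] at e
    rw [e, ht]
  have hsub : (fst G T).left ⁻¹' Y ⊆ C := by
    intro w' hw'
    apply subset_closure
    exact hY.mul_mem _ (by rw [hfstw]; exact hw') (by rw [hsndw]; exact hz2)
  have h1 : (fst G T).left ⁻¹' closure Y ⊆ C :=
    hopen.preimage_closure_subset_closure_preimage.trans (hC.closure_subset_iff.mpr hsub)
  have hw : w ∈ C := h1 (by
    change (fst G T).left w ∈ closure Y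
    rw [← hfstw, hw1]; exact hz1)
  change μ[G].left ((G ◁ t).left w) ∈ closure Y at hw
  rwa [hw1] at hw

/-- Over a local artinian ring, a locally closed subgroup set of a group scheme is closed. -/
theorem IsSubgroupSet.isClosed_of_isLocallyClosed {Y : Set G.left} (hY : IsSubgroupSet G Y)
    (hlc : IsLocallyClosed Y) : IsClosed Y := by
  obtain ⟨O, Z', hO, hZ', rfl⟩ := hlc
  rw [← closure_subset_iff_isClosed]
  intro g hg
  have hZO : closure (O ∩ Z') ∩ O ⊆ O ∩ Z' := fun x hx =>
    ⟨hx.2, (closure_minimal Set.inter_subset_right hZ') hx.1⟩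
  let T : Over (Spec (CommRingCat.of A)) := Over.mk (G.left.fromSpecResidueField g ≫ G.hom)
  let t : T ⟶ G := Over.homMk (G.left.fromSpecResidueField g)
  have ht : ∀ x : T.left, t.left x = g := fun x => Scheme.fromSpecResidueField_apply g x
  have hTopen : UniversallyOpen T.hom := universallyOpen_of_isArtinianRing_of_isLocalRing A T.hom
  have hsnd : (snd T G).left = pullback.snd T.hom G.hom := rfl
  have hopen : IsOpenMap (snd T G).left := by
    rw [hsnd]; exact Scheme.Hom.isOpenMap _
  obtain ⟨pt⟩ : Nonempty ↥T.left := inferInstanceAs (Nonempty ↥(Spec (G.left.residueField g)))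
  -- the diagonal point
  let w₁ : ↥(T ⊗ G).left := (lift (𝟙 T) t).left pt
  have hw₁snd : (snd T G).left w₁ = g := by
    have e := congrArg (fun φ => φ.left pt) (lift_snd (𝟙 T) t)
    simp only [Over.comp_left, Scheme.Hom.comp_apply] at e
    change (snd T G).left ((lift (𝟙 T) t).left pt) = g
    rw [e, ht]
  have hw₁div : (divMap t).left w₁ ∈ O ∩ Z' := by
    have e0 : lift (𝟙 T) t ≫ divMap t = toUnit T ≫ η[G] := by
      rw [divMap, comp_mul, GrpObj.comp_inv, lift_fst_assoc, lift_snd, Category.id_comp,
        mul_inv_cancel, Hom.one_def]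
    have e := congrArg (fun φ => φ.left pt) e0
    simp only [Over.comp_left, Scheme.Hom.comp_apply] at e
    change (divMap t).left ((lift (𝟙 T) t).left pt) ∈ O ∩ Z'
    rw [e]
    exact hY.one_mem _
  -- a point `w` with `snd w ∈ Y` and `divMap w ∈ O`
  have hw₁mem : w₁ ∈ closure ((snd T G).left ⁻¹' (O ∩ Z')) :=
    hopen.preimage_closure_subset_closure_preimage (by
      change (snd T G).left w₁ ∈ closure (O ∩ Z')
      rw [hw₁snd]; exact hg)
  obtain ⟨w, hwO, hwY⟩ := mem_closure_iff.mp hw₁mem ((divMap t).left ⁻¹' O)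
    (hO.preimage (divMap t).left.continuous) hw₁div.1
  -- `divMap w ∈ closure Y`
  have hdivcl : (divMap t).left w ∈ closure (O ∩ Z') := by
    have e0 : divMap t = lift (fst T G ≫ t) (snd T G ≫ ι[G]) ≫ μ[G] := by
      rw [divMap, Hom.mul_def, Hom.inv_def]
    rw [e0, Over.comp_left, Scheme.Hom.comp_apply]
    apply hY.mul_mem_closure A G
    · have e := congrArg (fun φ => φ.left w) (lift_fst (fst T G ≫ t) (snd T G ≫ ι[G]))
      simp only [Over.comp_left, Scheme.Hom.comp_apply] at e
      rw [e, ht]; exact hg
    · have e := congrArg (fun φ => φ.left w) (lift_snd (fst T G ≫ t) (snd T G ≫ ι[G]))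
      simp only [Over.comp_left, Scheme.Hom.comp_apply] at e
      rw [e]; exact hY.inv_mem _ hwY
  have hdivY : (divMap t).left w ∈ O ∩ Z' := hZO ⟨hdivcl, hwO⟩
  -- conclude
  have key := hY.mul_mem ((lift (divMap t) (snd T G)).left w) (by
      have e := congrArg (fun φ => φ.left w) (lift_fst (divMap t) (snd T G))
      simp only [Over.comp_left, Scheme.Hom.comp_apply] at e
      rw [e]; exact hdivY) (by
      have e := congrArg (fun φ => φ.left w) (lift_snd (divMap t) (snd T G))
      simp only [Over.comp_left, Scheme.Hom.comp_apply] at e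
      rw [e]; exact hwY)
  have e := congrArg (fun φ => φ.left w) (lift_divMap_snd_mul t)
  simp only [Over.comp_left, Scheme.Hom.comp_apply] at e
  rw [e, ht] at key
  exact key

/-- Over a local artinian ring, a homomorphism of group schemes which is an immersion is a closed
immersion. -/
theorem isClosedImmersion_of_isImmersion (H : Over (Spec (CommRingCat.of A))) [GrpObj H]
    (u : H ⟶ G) [IsMonHom u] [IsImmersion u.left] : IsClosedImmersion u.left :=
  IsClosedImmersion.of_isPreimmersion u.left
    ((isSubgroupSet_range u).isClosed_of_isLocallyClosed A G u.left.isLocallyClosed_range)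

end Groth.Agent.Lib.Helper19
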