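import Mathlib
import Groth.Agent.Lib.Helper19.Grp.RigidityGen
import Groth.Agent.Lib.Helper19.Grp.SubgroupSet

set_option autoImplicit false
set_option linter.style.haveILetI false
set_option linter.unusedSectionVars false
universe u
open CategoryTheory CategoryTheory.Limits MonoidalCategory CartesianMonoidalCategory AlgebraicGeometry
open scoped TensorProduct

namespace Groth.Agent.Lib.Helper19.Rigidity

variable {k : Type u} [Field k]

/-- **Rigidity lemma**, with a rational base point `y₀` of `Y`: if `f (y₀, x) = f (y₀, x₀)`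
then `f (y, x) = f (y, x₀)`. -/
theorem eq_constX_of_point (X Y Z : Over (Spec (CommRingCat.of k))) (f : Y ⊗ X ⟶ Z)
    (x₀ : 𝟙_ (Over (Spec (CommRingCat.of k))) ⟶ X)
    [CompactSpace X.left] [QuasiSeparatedSpace X.left]
    (hX : IsIso X.hom.appTop) [LocallyOfFiniteType Y.hom] [ConnectedSpace Y.left]
    [IsSeparated Z.hom] (y₀ : 𝟙_ (Over (Spec (CommRingCat.of k))) ⟶ Y)
    (h : (y₀ ▷ X) ≫ f = (y₀ ▷ X) ≫ constX X Y Z f x₀) : f = constX X Y Z f x₀ := by
  haveI : Subsingleton ↥(𝟙_ (Over (Spec (CommRingCat.of k)))).left :=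
    inferInstanceAs (Subsingleton (PrimeSpectrum k))
  obtain ⟨pt⟩ : Nonempty ↥(𝟙_ (Over (Spec (CommRingCat.of k)))).left :=
    inferInstanceAs (Nonempty (PrimeSpectrum k))
  haveI : Subsingleton ↥(Spec (CommRingCat.of k)) :=
    inferInstanceAs (Subsingleton (PrimeSpectrum k))
  haveI : IsClosedImmersion y₀.left :=
    isClosedImmersion_of_comp_eq_id (Y := Spec (CommRingCat.of k)) Y.hom y₀.left (Over.w y₀)
  have hcl : IsClosed ({y₀.left.base pt} : Set Y.left) := by
    have h1 := y₀.left.isClosedEmbedding.isClosed_range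
    have h2 : Set.range y₀.left.base = {y₀.left.base pt} := by
      ext q
      constructor
      · rintro ⟨p, rfl⟩
        rw [Subsingleton.elim p pt]
        rfl
      · rintro rfl
        exact ⟨pt, rfl⟩
    rwa [h2] at h1
  apply eq_constX X Y Z f x₀ hX (y₀.left.base pt) hcl
  intro t ht
  have sq := (isPullback_whiskerRight_fst X y₀).map (Over.forget _)
  simp only [Over.forget_obj, Over.forget_map] at sq
  obtain ⟨t', ht'1, -⟩ := exists_preimage_of_isPullback sq t pt ht
  rw [← ht'1, ← Scheme.Hom.comp_apply, ← Scheme.Hom.comp_apply, ← Over.comp_left, ← Over.comp_left,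
    h]

end Groth.Agent.Lib.Helper19.Rigidity
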