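import Mathlib
import Groth.Prelude.Def_AGF
import Groth.Agent.Lib.Helper19.Grp.RigidityPoint

/-!
# Actions in terms of generalised points; rigidity in terms of generalised points

* `ActionPts.one_act'`, `ActionPts.mul_act'`: the axioms of an `AlgGrp.Action` on `T`-points.
* `ActionPts.mkOfPts`: an action from its axioms on `T`-points.
* `ActionPts.ext'`: two actions with the same action morphism are equal.
* `Rigidity.lift_comp_eq`: points form of the rigidity lemma `eq_constX_of_point`.
-/

set_option autoImplicit false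
set_option linter.style.haveILetI false
set_option linter.unusedSectionVars false
universe u
open CategoryTheory CategoryTheory.Limits MonoidalCategory CartesianMonoidalCategory MonObj
  AlgebraicGeometry

namespace Groth.Agent.Lib.Helper19.ActionPts

variable {S : Scheme.{u}} {G X : Over S} [GrpObj G]

theorem one_act' (a : AlgGrp.Action G X) {T : Over S} (x : T ⟶ X) :
    lift (toUnit T ≫ η[G]) x ≫ a.act = x := by
  have e1 : lift (toUnit T ≫ η[G]) x = lift (toUnit T) x ≫ (η[G] ▷ X) := by
    rw [lift_whiskerRight]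
  rw [e1, Category.assoc, a.one_act, leftUnitor_hom, lift_snd]

theorem mul_act' (a : AlgGrp.Action G X) {T : Over S} (g h : T ⟶ G) (x : T ⟶ X) :
    lift (g * h) x ≫ a.act = lift g (lift h x ≫ a.act) ≫ a.act := by
  have e1 : lift (g * h) x = lift (lift g h) x ≫ (μ[G] ▷ X) := by
    rw [lift_whiskerRight, Hom.mul_def]
  have e2 : lift g (lift h x ≫ a.act) = lift g (lift h x) ≫ (G ◁ a.act) := by
    rw [lift_whiskerLeft]
  rw [e1, e2, Category.assoc, a.mul_act, ← Category.assoc, lift_lift_associator_hom,
    Category.assoc]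

/-- An action from its axioms on generalised points. -/
noncomputable def mkOfPts (act : G ⊗ X ⟶ X)
    (h1 : ∀ (T : Over S) (x : T ⟶ X), lift (toUnit T ≫ η[G]) x ≫ act = x)
    (h2 : ∀ (T : Over S) (g h : T ⟶ G) (x : T ⟶ X),
      lift (g * h) x ≫ act = lift g (lift h x ≫ act) ≫ act) : AlgGrp.Action G X where
  act := act
  one_act := by
    have e1 : (η[G] ▷ X) = lift (toUnit _ ≫ η[G]) (snd (𝟙_ (Over S)) X) := by
      apply CartesianMonoidalCategory.hom_ext
      · rw [whiskerRight_fst, lift_fst, toUnit_unique (fst (𝟙_ (Over S)) X) (toUnit _)]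
      · rw [whiskerRight_snd, lift_snd]
    rw [e1, h1, leftUnitor_hom]
  mul_act := by
    have e1 : (μ[G] ▷ X) = lift ((fst (G ⊗ G) X ≫ fst G G) * (fst (G ⊗ G) X ≫ snd G G))
        (snd (G ⊗ G) X) := by
      apply CartesianMonoidalCategory.hom_ext
      · rw [whiskerRight_fst, lift_fst, Hom.mul_def, ← comp_lift, lift_fst_snd, Category.comp_id]
      · rw [whiskerRight_snd, lift_snd]
    have e2 : (α_ G G X).hom ≫ (G ◁ act) =
        lift (fst (G ⊗ G) X ≫ fst G G)
          (lift (fst (G ⊗ G) X ≫ snd G G) (snd (G ⊗ G) X) ≫ act) := by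
      apply CartesianMonoidalCategory.hom_ext
      · rw [Category.assoc, whiskerLeft_fst, associator_hom_fst, lift_fst]
      · rw [Category.assoc, whiskerLeft_snd, lift_snd, ← Category.assoc]
        congr 1
        apply CartesianMonoidalCategory.hom_ext
        · rw [Category.assoc, associator_hom_snd_fst, lift_fst]
        · rw [Category.assoc, associator_hom_snd_snd, lift_snd]
    rw [e1, h2, ← Category.assoc, e2]

@[simp] theorem mkOfPts_act (act : G ⊗ X ⟶ X) (h1 h2) : (mkOfPts act h1 h2).act = act := rfl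

theorem ext' {a b : AlgGrp.Action G X} (h : a.act = b.act) : a = b := by
  cases a
  cases b
  cases h
  rfl

/-- `G ◁ f` on points. -/
theorem whiskerLeft_eq_lift {Y : Over S} (f : X ⟶ Y) :
    G ◁ f = lift (fst G X) (snd G X ≫ f) := by
  apply CartesianMonoidalCategory.hom_ext
  · rw [whiskerLeft_fst, lift_fst]
  · rw [whiskerLeft_snd, lift_snd]

end Groth.Agent.Lib.Helper19.ActionPts

namespace Groth.Agent.Lib.Helper19.Rigidity

variable {k : Type u} [Field k]

/-- **Rigidity lemma** on generalised points: if `f (y₀, x) = f (y₀, x₀)` then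
`f (y, x) = f (y, x₀)` for all `T`-points. -/
theorem lift_comp_eq (X Y Z : Over (Spec (CommRingCat.of k))) (f : Y ⊗ X ⟶ Z)
    (x₀ : 𝟙_ (Over (Spec (CommRingCat.of k))) ⟶ X)
    [CompactSpace X.left] [QuasiSeparatedSpace X.left]
    (hX : IsIso X.hom.appTop) [LocallyOfFiniteType Y.hom] [ConnectedSpace Y.left]
    [IsSeparated Z.hom] (y₀ : 𝟙_ (Over (Spec (CommRingCat.of k))) ⟶ Y)
    (h : lift (toUnit X ≫ y₀) (𝟙 X) ≫ f = toUnit X ≫ lift y₀ x₀ ≫ f)
    {T : Over (Spec (CommRingCat.of k))} (y : T ⟶ Y) (x : T ⟶ X) :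
    lift y x ≫ f = lift y (toUnit T ≫ x₀) ≫ f := by
  have e0 : (y₀ ▷ X) = snd (𝟙_ (Over (Spec (CommRingCat.of k)))) X ≫
      lift (toUnit X ≫ y₀) (𝟙 X) := by
    apply CartesianMonoidalCategory.hom_ext
    · rw [whiskerRight_fst, Category.assoc, lift_fst, ← Category.assoc]
      congr 1
      exact toUnit_unique _ _
    · rw [whiskerRight_snd, Category.assoc, lift_snd, Category.comp_id]
  have h' : (y₀ ▷ X) ≫ f = (y₀ ▷ X) ≫ constX X Y Z f x₀ := by
    unfold constX
    rw [whiskerRight_fst_assoc, e0, Category.assoc, h, ← Category.assoc, ← Category.assoc,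
      ← Category.assoc, ← Category.assoc]
    congr 1
    apply CartesianMonoidalCategory.hom_ext
    · rw [Category.assoc, lift_fst, Category.assoc, Category.assoc, lift_fst, Category.comp_id,
        ← Category.assoc]
      congr 1
      exact toUnit_unique _ _
    · rw [Category.assoc, lift_snd, Category.assoc, Category.assoc, lift_snd, ← Category.assoc,
        ← Category.assoc]
      congr 1
      exact toUnit_unique _ _
  have h2 := eq_constX_of_point X Y Z f x₀ hX y₀ h'
  conv_lhs => rw [h2]
  unfold constX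
  rw [lift_fst_assoc, ← Category.assoc]
  congr 1
  apply CartesianMonoidalCategory.hom_ext
  · rw [Category.assoc, lift_fst, lift_fst, Category.comp_id]
  · rw [Category.assoc, lift_snd, lift_snd, ← Category.assoc]
    congr 1
    exact toUnit_unique _ _

end Groth.Agent.Lib.Helper19.Rigidity
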