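import Mathlib
import Groth.Agent.Lib.Helper19.Grp.FlatBaseChangePt
import Groth.Agent.Lib.Helper10.GrpShear
import Groth.Agent.Lib.Helper19.Compl.QuotPow

/-!
# Homomorphisms of locally algebraic groups over a field: flatness at the unit point

A homomorphism of group schemes locally of finite type over a field which is flat at the unit
point is flat.
-/

set_option autoImplicit false
universe u

open CategoryTheory CategoryTheory.Limits AlgebraicGeometry MonoidalCategory
  CartesianMonoidalCategory MonObj GrpObj

namespace Groth.Agent.Lib.Helper19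

variable (k : Type u) [Field k]

/-- Translation invariance of the flat locus of a homomorphism. -/
theorem flat_stalkMap_fst_iff_mul (H G : Over (Spec (CommRingCat.of k))) [GrpObj H] [GrpObj G]
    [LocallyOfFiniteType H.hom] [LocallyOfFiniteType G.hom] (f : H ⟶ G) [IsMonHom f]
    (z : ↥(H ⊗ H).left) :
    (f.left.stalkMap ((fst H H).left.base z)).hom.Flat ↔
      (f.left.stalkMap (μ[H].left.base z)).hom.Flat := by
  have : IsLocallyNoetherian G.left := LocallyOfFiniteType.isLocallyNoetherian G.hom
  have hlft : LocallyOfFiniteType f.left := by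
    have : LocallyOfFiniteType (f.left ≫ G.hom) := by rw [Over.w f]; infer_instance
    exact locallyOfFiniteType_of_comp f.left G.hom
  have sq1 := (Groth.Agent.Lib.Helper10.GrpShear.sq_fst f).map (Over.forget _)
  have sq2 := (Groth.Agent.Lib.Helper10.GrpShear.sq_mul f).map (Over.forget _)
  simp only [Over.forget_obj, Over.forget_map] at sq1 sq2
  have hfst : (fst G H).left = pullback.fst G.hom H.hom := rfl
  haveI : Flat (fst G H).left := by rw [hfst]; infer_instance
  haveI : IsIso (Groth.Agent.Lib.Helper10.GrpShear.tau f).hom.left :=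
    inferInstanceAs (IsIso ((Over.forget _).map (Groth.Agent.Lib.Helper10.GrpShear.tau f).hom))
  haveI : Flat ((Groth.Agent.Lib.Helper10.GrpShear.tau f).hom ≫ fst G H).left := by
    rw [Over.comp_left]; infer_instance
  rw [← flat_stalkMap_iff_of_isPullback sq1.flip z, ← flat_stalkMap_iff_of_isPullback sq2.flip z]

/-- A homomorphism of locally algebraic groups over a field which is flat at the unit point is
flat. -/
theorem flat_of_flat_stalkMap_unit (H G : Over (Spec (CommRingCat.of k))) [GrpObj H] [GrpObj G]
    [LocallyOfFiniteType H.hom] [LocallyOfFiniteType G.hom] (f : H ⟶ G) [IsMonHom f]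
    (pt : ↥(𝟙_ (Over (Spec (CommRingCat.of k)))).left)
    (hflat : (f.left.stalkMap (η[H].left.base pt)).hom.Flat) : Flat f.left := by
  rw [Flat.iff_flat_stalkMap]
  intro h
  let s : H ⟶ H ⊗ H := lift (toUnit H ≫ η[H]) (𝟙 H)
  let z : ↥(H ⊗ H).left := s.left.base h
  have h1 : (fst H H).left.base z = η[H].left.base pt := by
    have e1 : s ≫ fst H H = toUnit H ≫ η[H] := lift_fst _ _
    have e2 := congrArg (fun φ => φ.left.base h) e1
    simp only [Over.comp_left, Scheme.Hom.comp_base, TopCat.comp_app] at e2
    change (fst H H).left.base (s.left.base h) = _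
    rw [e2]
    congr 1
    have : Subsingleton ↥(𝟙_ (Over (Spec (CommRingCat.of k)))).left :=
      inferInstanceAs (Subsingleton (PrimeSpectrum k))
    exact Subsingleton.elim _ _
  have h2 : μ[H].left.base z = h := by
    have e1 : s ≫ μ[H] = 𝟙 H := lift_comp_one_left _ _
    have e2 := congrArg (fun φ => φ.left.base h) e1
    simp only [Over.comp_left, Scheme.Hom.comp_base, TopCat.comp_app] at e2
    change μ[H].left.base (s.left.base h) = _
    rw [e2]
    rfl
  have key := (flat_stalkMap_fst_iff_mul k H G f z).mp (h1 ▸ hflat)
  exact h2 ▸ key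

end Groth.Agent.Lib.Helper19

namespace Groth.Agent.Lib.Helper19

open IsLocalRing

/-- A monomorphism of locally algebraic groups over a field inducing an isomorphism on completed
local rings at the unit point (in truncated form) is an open immersion. -/
theorem isOpenImmersion_of_mono_of_truncations (k : Type u) [Field k]
    (H G : Over (Spec (CommRingCat.of k))) [GrpObj H] [GrpObj G]
    [LocallyOfFiniteType H.hom] [LocallyOfFiniteType G.hom] (f : H ⟶ G) [IsMonHom f] [Mono f.left]
    (pt : ↥(𝟙_ (Over (Spec (CommRingCat.of k)))).left)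
    (h : ∀ n : ℕ,
      Function.Surjective ((Ideal.Quotient.mk (maximalIdeal
          ↑(H.left.presheaf.stalk (η[H].left.base pt)) ^ (n + 1))).comp
        (f.left.stalkMap (η[H].left.base pt)).hom) ∧
      ∀ a : ↑(G.left.presheaf.stalk (f.left.base (η[H].left.base pt))),
        (f.left.stalkMap (η[H].left.base pt)).hom a ∈
            maximalIdeal ↑(H.left.presheaf.stalk (η[H].left.base pt)) ^ (n + 1) ↔
          a ∈ maximalIdeal ↑(G.left.presheaf.stalk (f.left.base (η[H].left.base pt))) ^ (n + 1)) :
    IsOpenImmersion f.left := by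
  have : IsLocallyNoetherian G.left := LocallyOfFiniteType.isLocallyNoetherian G.hom
  have : IsLocallyNoetherian H.left := LocallyOfFiniteType.isLocallyNoetherian H.hom
  have hlft : LocallyOfFiniteType f.left := by
    have : LocallyOfFiniteType (f.left ≫ G.hom) := by rw [Over.w f]; infer_instance
    exact locallyOfFiniteType_of_comp f.left G.hom
  set e := η[H].left.base pt with he
  set φ := (f.left.stalkMap e).hom with hφ
  have hsurj : ∀ n : ℕ, Function.Surjective
      ((Ideal.Quotient.mk (maximalIdeal ↑(H.left.presheaf.stalk e) ^ n)).comp φ) := by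
    intro n
    cases n with
    | zero =>
      intro y
      refine ⟨0, ?_⟩
      have : Subsingleton (↑(H.left.presheaf.stalk e) ⧸
          maximalIdeal ↑(H.left.presheaf.stalk e) ^ 0) := by
        rw [pow_zero, Ideal.one_eq_top]
        exact Ideal.Quotient.subsingleton_iff.mpr rfl
      exact Subsingleton.elim _ _
    | succ n => exact (h n).1
  have hker : ∀ n : ℕ, RingHom.ker
      ((Ideal.Quotient.mk (maximalIdeal ↑(H.left.presheaf.stalk e) ^ n)).comp φ) =
        maximalIdeal ↑(G.left.presheaf.stalk (f.left.base e)) ^ n := by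
    intro n
    cases n with
    | zero =>
      rw [pow_zero, pow_zero, Ideal.one_eq_top, Ideal.one_eq_top, ← RingHom.comap_ker,
        Ideal.mk_ker, Ideal.comap_top]
    | succ n =>
      ext a
      rw [RingHom.mem_ker, RingHom.comp_apply, Ideal.Quotient.eq_zero_iff_mem]
      exact (h n).2 a
  obtain ⟨hm, -⟩ := map_maximalIdeal_eq_of_surjective_sq φ (hsurj 2)
  have hflat : φ.Flat := flat_of_forall_ker_eq φ hm hsurj hker
  have : Flat f.left := flat_of_flat_stalkMap_unit k H G f pt hflat
  exact IsOpenImmersion.of_flat_of_mono f.left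

end Groth.Agent.Lib.Helper19
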