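import Mathlib
import Groth.Agent.Lib.Helper19.Grp.Homogeneity
import Groth.Agent.Lib.Helper19.Grp.HomFlat
import Groth.Agent.Lib.Helper19.Grp.FlatBaseChangePt

/-!
# A homomorphism of locally algebraic groups over a field which is étale near the unit is étale
-/

set_option autoImplicit false
universe u

open CategoryTheory CategoryTheory.Limits AlgebraicGeometry MonoidalCategory
  CartesianMonoidalCategory MonObj

namespace Groth.Agent.Lib.Helper19

theorem etale_of_etale_nhd_unit (k : Type u) [Field k]
    (H G : Over (Spec (CommRingCat.of k))) [GrpObj H] [GrpObj G]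
    [LocallyOfFiniteType H.hom] [LocallyOfFiniteType G.hom] (f : H ⟶ G) [IsMonHom f]
    (pt : ↥(𝟙_ (Over (Spec (CommRingCat.of k)))).left)
    (he : ∃ U : H.left.Opens, η[H].left.base pt ∈ U ∧ Etale (U.ι ≫ f.left)) :
    Etale f.left := by
  obtain ⟨U, hU, hE⟩ := he
  have hG : IsLocallyNoetherian G.left := LocallyOfFiniteType.isLocallyNoetherian G.hom
  have hlft : LocallyOfFiniteType f.left := by
    have : LocallyOfFiniteType (f.left ≫ G.hom) := by rw [Over.w f]; infer_instance
    exact locallyOfFiniteType_of_comp f.left G.hom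
  have h1 : FormallyUnramified f.left :=
    formallyUnramified_of_unit k H G f pt ⟨U, hU, inferInstance⟩
  have h2 : Flat f.left :=
    flat_of_flat_stalkMap_unit k H G f pt (flat_stalkMap_of_ι_comp f.left U _ hU)
  exact Etale.of_formallyUnramified_of_flat f.left

section Pow

variable {C : Type*} [Category C] [CartesianMonoidalCategory C] [BraidedCategory C]
  {M N : C} [MonObj M] [MonObj N] [IsCommMonObj N]

lemma isMonHom_one' : IsMonHom (1 : M ⟶ N) := by
  rw [Hom.one_def]
  infer_instance

lemma isMonHom_mul' (f g : M ⟶ N) [IsMonHom f] [IsMonHom g] : IsMonHom (f * g) := by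
  rw [Hom.mul_def]
  infer_instance

lemma isMonHom_pow' (f : M ⟶ N) [IsMonHom f] (n : ℕ) : IsMonHom (f ^ n) := by
  induction n with
  | zero => rw [pow_zero]; exact isMonHom_one'
  | succ n ih =>
    rw [pow_succ]
    exact isMonHom_mul' _ _

end Pow

end Groth.Agent.Lib.Helper19
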