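import Mathlib
import Groth.Agent.Lib.Helper19.Grp.CommWords

set_option autoImplicit false
universe v₁ v₂ u₁ u₂
open CategoryTheory MonoidalCategory CartesianMonoidalCategory MonObj GrpObj
open scoped commutatorElement

namespace Groth.Agent.Lib.Helper19.CommWords

section grp
variable {Γ Γ' : Type*} [Group Γ] [Group Γ']

theorem map_mem_dW (f : Γ →* Γ') : ∀ (n : ℕ) (w : Γ), w ∈ (dW n : Set Γ) → f w ∈ (dW n : Set Γ')
  | 0, _, _ => Set.mem_univ _
  | n + 1, _, hw => by
    obtain ⟨x, hx, y, hy, rfl⟩ := hw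
    exact ⟨f x, map_mem_dW f n x hx, f y, map_mem_dW f n y hy, (map_commutatorElement f x y).symm⟩

theorem map_mem_lW (f : Γ →* Γ') : ∀ (n : ℕ) (w : Γ), w ∈ (lW n : Set Γ) → f w ∈ (lW n : Set Γ')
  | 0, _, _ => Set.mem_univ _
  | n + 1, _, hw => by
    obtain ⟨x, hx, y, rfl⟩ := hw
    exact ⟨f x, map_mem_lW f n x hx, f y, (map_commutatorElement f x y).symm⟩

theorem derivedSeries_eq_bot_of_injective (f : Γ →* Γ') (hf : Function.Injective f) (n : ℕ)
    (h : derivedSeries Γ' n = ⊥) : derivedSeries Γ n = ⊥ := by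
  apply derivedSeries_eq_bot_of_dW
  intro w hw
  have := dW_subset_derivedSeries n (map_mem_dW f n w hw)
  rw [h] at this
  have this : f w = 1 := this
  exact hf (this.trans (map_one f).symm)

theorem lowerCentralSeries_eq_bot_of_injective (f : Γ →* Γ') (hf : Function.Injective f) (n : ℕ)
    (h : Subgroup.lowerCentralSeries (⊤ : Subgroup Γ') n = ⊥) :
    Subgroup.lowerCentralSeries (⊤ : Subgroup Γ) n = ⊥ := by
  apply lowerCentralSeries_eq_bot_of_lW
  intro w hw
  have := lW_subset_lowerCentralSeries n (map_mem_lW f n w hw)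
  rw [h] at this
  have this : f w = 1 := this
  exact hf (this.trans (map_one f).symm)

end grp

section adj
open scoped Obj

variable {C : Type u₁} [Category.{v₁} C] [CartesianMonoidalCategory C]
  {D : Type u₂} [Category.{v₁} D] [CartesianMonoidalCategory D]
  {L : D ⥤ C} {F : C ⥤ D} [F.Monoidal] (adj : L ⊣ F) (G : C) [GrpObj G]

/-- the adjunction bijection `Hom(L T', G) ≃ Hom(T', F G)` is an isomorphism of groups -/
noncomputable def homMulEquiv (T' : D) : (L.obj T' ⟶ G) ≃* (T' ⟶ F.obj G) :=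
  { adj.homEquiv T' G with
    map_mul' := fun φ ψ => by
      change adj.homEquiv T' G (φ * ψ) = adj.homEquiv T' G φ * adj.homEquiv T' G ψ
      rw [adj.homEquiv_unit, adj.homEquiv_unit, adj.homEquiv_unit, F.map_mul, comp_mul] }

theorem homMulEquiv_apply (T' : D) (φ : L.obj T' ⟶ G) :
    homMulEquiv adj G T' φ = adj.homEquiv T' G φ := rfl

end adj

end Groth.Agent.Lib.Helper19.CommWords
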