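import Mathlib
import Groth.Agent.Lib.Helper19.Grp.DenseProduct

/-!
# Every point of a group scheme over a field is a product of two maximal points
-/

set_option autoImplicit false
universe u

open CategoryTheory CategoryTheory.Limits AlgebraicGeometry MonoidalCategory
  CartesianMonoidalCategory MonObj GrpObj

namespace Groth.Agent.Lib.Helper19

/-- A continuous generalizing map to a quasi-sober space maps maximal points to maximal points. -/
theorem closure_singleton_mem_irreducibleComponents_of_generalizingMap {X Y : Type*}
    [TopologicalSpace X] [TopologicalSpace Y] [QuasiSober Y] (f : X → Y) (hf : Continuous f)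
    (hgen : GeneralizingMap f) (w : X) (hw : closure {w} ∈ irreducibleComponents X) :
    closure {f w} ∈ irreducibleComponents Y := by
  obtain ⟨Z', hZ', hsub⟩ := exists_mem_irreducibleComponents_subset_of_isIrreducible
    (closure {f w}) isIrreducible_singleton.closure
  have hZcl : IsClosed Z' := isClosed_of_mem_irreducibleComponents Z' hZ'
  let ζ := hZ'.1.genericPoint
  have hζ : closure {ζ} = Z' := hZ'.1.closure_genericPoint hZcl
  have h1 : ζ ⤳ f w := by
    rw [specializes_iff_mem_closure, hζ]
    exact hsub (subset_closure rfl)
  obtain ⟨w', hw'w, hfw'⟩ := hgen h1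
  -- `closure {w'} = closure {w}` by maximality
  have h2 : closure {w'} ⊆ closure {w} :=
    hw.2 isIrreducible_singleton.closure
      (closure_minimal (Set.singleton_subset_iff.mpr (specializes_iff_mem_closure.mp hw'w))
        isClosed_closure)
  have h3 : w ⤳ w' := specializes_iff_mem_closure.mpr (h2 (subset_closure rfl))
  have h4 : f w ⤳ ζ := hfw' ▸ h3.map hf
  have h5 : Z' ⊆ closure {f w} := by
    rw [← hζ]
    exact closure_minimal (Set.singleton_subset_iff.mpr (specializes_iff_mem_closure.mp h4))
      isClosed_closure
  rwa [h5.antisymm hsub] at hZ'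

/-- A nonempty quasi-sober space has a maximal point. -/
theorem exists_closure_singleton_mem_irreducibleComponents (X : Type*) [TopologicalSpace X]
    [QuasiSober X] [Nonempty X] : ∃ w : X, closure {w} ∈ irreducibleComponents X := by
  obtain ⟨x⟩ := ‹Nonempty X›
  obtain ⟨Z, hZ, -⟩ := exists_mem_irreducibleComponents_subset_of_isIrreducible
    ({x} : Set X) isIrreducible_singleton
  refine ⟨hZ.1.genericPoint, ?_⟩
  rw [hZ.1.closure_genericPoint (isClosed_of_mem_irreducibleComponents Z hZ)]
  exact hZ

/-- Every point of a group scheme over a field is the product of two maximal points. -/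
theorem exists_mul_eq_of_maximal (k : Type u) [Field k] (G : Over (Spec (CommRingCat.of k)))
    [GrpObj G] (x : G.left) :
    ∃ z : ↥(G ⊗ G).left, μ[G].left.base z = x ∧
      closure {(fst G G).left.base z} ∈ irreducibleComponents ↥G.left ∧
      closure {(snd G G).left.base z} ∈ irreducibleComponents ↥G.left := by
  let T : Over (Spec (CommRingCat.of k)) := Over.mk (G.left.fromSpecResidueField x ≫ G.hom)
  let t : T ⟶ G := Over.homMk (G.left.fromSpecResidueField x)
  haveI : Subsingleton ↥(Spec (CommRingCat.of k)) := inferInstanceAs (Subsingleton (PrimeSpectrum k))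
  have hTflat : Flat T.hom := inferInstance
  have hsnd : (snd T G).left = pullback.snd T.hom G.hom := rfl
  have hflat1 : Flat (snd T G).left := by rw [hsnd]; infer_instance
  haveI : IsIso (divShear t).hom.left :=
    inferInstanceAs (IsIso ((Over.forget _).map (divShear t).hom))
  have hflat2 : Flat (divMap t).left := by
    rw [← divShear_hom_snd t, Over.comp_left]; infer_instance
  obtain ⟨pt⟩ : Nonempty ↥T.left := inferInstanceAs (Nonempty ↥(Spec (G.left.residueField x)))
  obtain ⟨w₀, -, -⟩ := Scheme.Pullback.exists_preimage_pullback (f := T.hom) (g := G.hom) pt x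
    (Subsingleton.elim _ _)
  haveI : Nonempty ↥(T ⊗ G).left := ⟨w₀⟩
  obtain ⟨w, hw⟩ := exists_closure_singleton_mem_irreducibleComponents ↥(T ⊗ G).left
  refine ⟨(lift (divMap t) (snd T G)).left w, ?_, ?_, ?_⟩
  · have e := congrArg (fun φ => φ.left w) (lift_divMap_snd_mul t)
    simp only [Over.comp_left, Scheme.Hom.comp_apply] at e
    change μ[G].left ((lift (divMap t) (snd T G)).left w) = x
    rw [e]
    exact Scheme.fromSpecResidueField_apply x _
  · have e := congrArg (fun φ => φ.left w) (lift_fst (divMap t) (snd T G))
    simp only [Over.comp_left, Scheme.Hom.comp_apply] at e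
    change closure {(fst G G).left ((lift (divMap t) (snd T G)).left w)} ∈ _
    rw [e]
    exact closure_singleton_mem_irreducibleComponents_of_generalizingMap _
      (divMap t).left.continuous (Flat.generalizingMap (divMap t).left) w hw
  · have e := congrArg (fun φ => φ.left w) (lift_snd (divMap t) (snd T G))
    simp only [Over.comp_left, Scheme.Hom.comp_apply] at e
    change closure {(snd G G).left ((lift (divMap t) (snd T G)).left w)} ∈ _
    rw [e]
    exact closure_singleton_mem_irreducibleComponents_of_generalizingMap _
      (snd T G).left.continuous (Flat.generalizingMap (snd T G).left) w hw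

end Groth.Agent.Lib.Helper19
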