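import Mathlib

/-!
# Local finiteness of coalgebras over a field (matrix form)

For a coalgebra `R` over a field `k` and `f : R` there are a finite linearly independent family
`a : ι → R` whose span contains `f` and a "matrix" `c : ι → ι → R` with
`Δ (a j) = ∑ i, a i ⊗ c i j`, `Δ (c i j) = ∑ l, c i l ⊗ c l j`, `ε (c i j) = δ i j`
(`exists_matrix`).
-/

set_option autoImplicit false
set_option linter.style.haveILetI false
set_option linter.unusedSectionVars false
universe u
open scoped TensorProduct
open Coalgebra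

namespace Groth.Agent.Lib.Helper19.CoalgLF

variable {k : Type u} [Field k] {R : Type u} [AddCommGroup R] [Module k R]

section indep

variable {ι : Type u} [Fintype ι] [DecidableEq ι] {N : Type*} [AddCommGroup N] [Module k N]

/-- dual functionals of a finite linearly independent family -/
theorem exists_dual (a : ι → R) (ha : LinearIndependent k a) (l : ι) :
    ∃ φ : R →ₗ[k] k, ∀ i, φ (a i) = if i = l then 1 else 0 := by
  let V := Submodule.span k (Set.range a)
  let φ₀ : V →ₗ[k] k := (Finsupp.lapply l) ∘ₗ ha.repr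
  obtain ⟨φ, hφ⟩ := LinearMap.exists_extend φ₀
  refine ⟨φ, fun i => ?_⟩
  have h1 : φ (a i) = φ₀ ⟨a i, Submodule.subset_span ⟨i, rfl⟩⟩ := by
    rw [← hφ]
    rfl
  rw [h1]
  change (ha.repr ⟨a i, _⟩) l = _
  rw [ha.repr_eq_single i ⟨a i, Submodule.subset_span ⟨i, rfl⟩⟩ rfl, Finsupp.single_apply]

theorem sum_tmul_injective (a : ι → R) (ha : LinearIndependent k a) (x y : ι → N)
    (h : ∑ i, a i ⊗ₜ[k] x i = ∑ i, a i ⊗ₜ[k] y i) : x = y := by
  funext l
  obtain ⟨φ, hφ⟩ := exists_dual a ha l
  have h2 := congrArg (fun t => TensorProduct.lid k N (φ.rTensor N t)) h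
  simp only [map_sum, LinearMap.rTensor_tmul, TensorProduct.lid_tmul, hφ, ite_smul, one_smul,
    zero_smul, Finset.sum_ite_eq', Finset.mem_univ, if_true] at h2
  exact h2

end indep

variable [Coalgebra k R]

/-- right translation by a functional: `(id ⊗ l) ∘ Δ` -/
noncomputable def S (l : R →ₗ[k] k) : R →ₗ[k] R :=
  (TensorProduct.rid k R).toLinearMap ∘ₗ l.lTensor R ∘ₗ comul

theorem S_apply (l : R →ₗ[k] k) (r : R) :
    S l r = TensorProduct.rid k R (l.lTensor R (comul r)) := rfl

theorem comul_rid_lTensor (l : R →ₗ[k] k) (t : R ⊗[k] R) :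
    comul (TensorProduct.rid k R (l.lTensor R t)) =
      TensorProduct.rid k (R ⊗[k] R) (l.lTensor (R ⊗[k] R) (comul.rTensor R t)) := by
  induction t with
  | zero => simp
  | tmul x y => simp
  | add x y hx hy => simp only [map_add, hx, hy]

theorem rid_lTensor_assoc_symm (l : R →ₗ[k] k) (t : R ⊗[k] (R ⊗[k] R)) :
    TensorProduct.rid k (R ⊗[k] R)
        (l.lTensor (R ⊗[k] R) ((TensorProduct.assoc k R R R).symm t)) =
      ((TensorProduct.rid k R).toLinearMap ∘ₗ l.lTensor R).lTensor R t := by
  induction t with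
  | zero => simp
  | tmul x s =>
    induction s with
    | zero => simp
    | tmul y z => simp [TensorProduct.tmul_smul]
    | add s₁ s₂ h₁ h₂ => simp only [TensorProduct.tmul_add, map_add, h₁, h₂]
  | add x y hx hy => simp only [map_add, hx, hy]

theorem comul_S (l : R →ₗ[k] k) (r : R) : comul (S l r) = (S l).lTensor R (comul r) := by
  rw [S_apply, comul_rid_lTensor, ← coassoc_symm_apply, rid_lTensor_assoc_symm]
  rw [← LinearMap.comp_apply, ← LinearMap.lTensor_comp]
  rfl

/-- **Local finiteness**, matrix form. -/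
theorem exists_matrix (f : R) :
    ∃ (ι : Type u) (_ : Fintype ι) (_ : DecidableEq ι) (a : ι → R) (c : ι → ι → R),
      LinearIndependent k a ∧ f ∈ Submodule.span k (Set.range a) ∧
      (∀ j, comul (a j) = ∑ i, a i ⊗ₜ[k] c i j) ∧
      (∀ i j, comul (c i j) = ∑ l, c i l ⊗ₜ[k] c l j) ∧
      (∀ i j, counit (R := k) (c i j) = if i = j then 1 else 0) := by
  classical
  let 𝒞 := Module.Basis.ofVectorSpace k R
  let b := TensorProduct.equivFinsuppOfBasisRight 𝒞 (comul f)
  have hb : ∀ j, b j = S (𝒞.coord j) f := fun j =>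
    TensorProduct.equivFinsuppOfBasisRight_apply 𝒞 (comul f) j
  have hΔf : comul f = b.sum fun j m => m ⊗ₜ[k] 𝒞 j := by
    rw [← TensorProduct.equivFinsuppOfBasisRight_symm_apply, LinearEquiv.symm_apply_apply]
  let s : Set R := ↑(b.support.image b)
  obtain ⟨t, hts, hspan, hli⟩ := exists_linearIndependent k s
  have htfin : t.Finite := (Finset.finite_toSet _).subset hts
  haveI : Fintype t := htfin.fintype
  let a : t → R := Subtype.val
  have hrange : Set.range a = t := Subtype.range_val
  -- each `a i` is a translate of `f`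
  have hai : ∀ i : t, ∃ l : R →ₗ[k] k, a i = S l f := by
    intro i
    have h1 : (i : R) ∈ s := hts i.2
    simp only [s, Finset.coe_image, Set.mem_image, Finset.mem_coe] at h1
    obtain ⟨j, -, hj⟩ := h1
    exact ⟨𝒞.coord j, by rw [← hb, hj]⟩
  choose lam hlam using hai
  -- `Δ f ∈ span a ⊗ R`
  have hbspan : ∀ j, b j ∈ Submodule.span k (Set.range a) := by
    intro j
    rw [hrange, hspan]
    by_cases hj : j ∈ b.support
    · exact Submodule.subset_span (by simp only [s, Finset.coe_image]; exact ⟨j, hj, rfl⟩)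
    · rw [Finsupp.notMem_support_iff.mp hj]
      exact Submodule.zero_mem _
  have hb' : ∀ j, ∃ ν : t → k, b j = ∑ i, ν i • a i := by
    intro j
    obtain ⟨ν, hν⟩ := (Submodule.mem_span_range_iff_exists_fun k).mp (hbspan j)
    exact ⟨ν, hν.symm⟩
  choose ν hν using hb'
  let b' : t → R := fun i => b.sum fun j _ => ν j i • 𝒞 j
  have hΔf' : comul f = ∑ i, a i ⊗ₜ[k] b' i := by
    rw [hΔf]
    simp only [b', Finsupp.sum, TensorProduct.tmul_sum]
    rw [Finset.sum_comm]
    refine Finset.sum_congr rfl fun j _ => ?_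
    conv_lhs => rw [hν j]
    rw [TensorProduct.sum_tmul]
    refine Finset.sum_congr rfl fun i _ => ?_
    rw [TensorProduct.smul_tmul]
  let c : t → t → R := fun i j => S (lam j) (b' i)
  have h2 : ∀ j, comul (a j) = ∑ i, a i ⊗ₜ[k] c i j := by
    intro j
    rw [hlam j, comul_S, hΔf', map_sum]
    refine Finset.sum_congr rfl fun i _ => ?_
    rw [LinearMap.lTensor_tmul]
  have h3 : ∀ i j, comul (c i j) = ∑ l, c i l ⊗ₜ[k] c l j := by
    intro i j
    have h4 := coassoc_apply (R := k) (a j)
    rw [h2 j] at h4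
    simp only [map_sum, LinearMap.rTensor_tmul, LinearMap.lTensor_tmul, h2] at h4
    simp only [TensorProduct.sum_tmul, map_sum, TensorProduct.assoc_tmul] at h4
    rw [Finset.sum_comm] at h4
    simp only [← TensorProduct.tmul_sum] at h4
    have h5 := sum_tmul_injective a hli _ _ h4
    exact (congrFun h5 i).symm
  have h4 : ∀ i j, counit (R := k) (c i j) = if i = j then 1 else 0 := by
    intro i j
    have h5 := lTensor_counit_comul (R := k) (a j)
    rw [h2 j] at h5
    simp only [map_sum, LinearMap.lTensor_tmul] at h5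
    have h6 : a j ⊗ₜ[k] (1 : k) = ∑ i, a i ⊗ₜ[k] (if i = j then (1 : k) else 0) := by
      simp only [TensorProduct.tmul_ite, TensorProduct.tmul_zero, Finset.sum_ite_eq',
        Finset.mem_univ, if_true]
    rw [h6] at h5
    exact congrFun (sum_tmul_injective a hli _ _ h5) i
  refine ⟨t, inferInstance, inferInstance, a, c, hli, ?_, h2, h3, h4⟩
  have h5 := lTensor_counit_comul (R := k) f
  rw [hΔf'] at h5
  simp only [map_sum, LinearMap.lTensor_tmul] at h5
  have h6 := congrArg (TensorProduct.rid k R) h5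
  simp only [map_sum, TensorProduct.rid_tmul, one_smul] at h6
  rw [← h6]
  exact Submodule.sum_mem _ fun i _ => Submodule.smul_mem _ _ (Submodule.subset_span ⟨i, rfl⟩)

end Groth.Agent.Lib.Helper19.CoalgLF
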