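import Mathlib
import Groth.Agent.Lib.Helper19.Grp.FlatPt

/-!
# Anti-affine schemes over a field: global sections of products (Künneth) and of quotients

* `appTop_injective_of_flat_of_surjective`: global sections inject along flat surjective morphisms.
* `bijective_iff_isIso`: the anti-affineness condition `k ≃ Γ(X, ⊤)` as `IsIso X.hom.appTop`.
* `isIso_appTop_of_injective`: anti-affineness passes along morphisms injective on global sections.
* `isIso_fst_appTop`: if `O(Y) = k` then `Γ(X) ≃ Γ(X ×ₖ Y)` (qcqs `X`, `Y`).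
* `appTop_injective_of_retraction`.
-/

set_option autoImplicit false
set_option linter.style.haveILetI false
universe u
open CategoryTheory CategoryTheory.Limits MonoidalCategory CartesianMonoidalCategory AlgebraicGeometry

namespace Groth.Agent.Lib.Helper19.AntiAffine

/-- global sections inject along flat surjective morphisms -/
theorem appTop_injective_of_flat_of_surjective {X Y : Scheme.{u}} (f : X ⟶ Y) [Flat f]
    [Surjective f] : Function.Injective f.appTop.hom := by
  rw [injective_iff_map_eq_zero]
  intro a ha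
  refine TopCat.Presheaf.section_ext Y.sheaf ⊤ a 0 ?_
  intro y hy
  obtain ⟨x, rfl⟩ := f.surjective y
  have hinj : Function.Injective (f.stalkMap x).hom :=
    (Groth.Agent.Lib.Helper19.faithfullyFlat_stalkMap f x).injective
  have h0 : Y.presheaf.germ ⊤ (f x) hy a = 0 := by
    apply hinj
    rw [map_zero]
    have := Scheme.Hom.germ_stalkMap_apply f ⊤ x hy a
    refine this.trans ?_
    have ha' : f.app ⊤ a = 0 := ha
    rw [ha', map_zero]
  refine h0.trans ?_
  exact (map_zero _).symm

variable {k : Type u} [Field k]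

/-- the anti-affineness condition of the statements -/
theorem bijective_iff_isIso (X : Over (Spec (CommRingCat.of k))) :
    Function.Bijective ((Scheme.ΓSpecIso (CommRingCat.of k)).inv ≫ X.hom.appTop).hom ↔
      IsIso X.hom.appTop := by
  rw [← ConcreteCategory.isIso_iff_bijective, isIso_comp_left_iff]

/-- anti-affineness passes to `Y` along `f : X ⟶ Y` injective on global sections -/
theorem isIso_appTop_of_injective {X Y : Over (Spec (CommRingCat.of k))} (f : X ⟶ Y)
    (hf : Function.Injective f.left.appTop.hom) (hX : IsIso X.hom.appTop) :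
    IsIso Y.hom.appTop := by
  have e : X.hom.appTop = Y.hom.appTop ≫ f.left.appTop := by
    rw [← Scheme.Hom.comp_appTop, Over.w f]
  rw [ConcreteCategory.isIso_iff_bijective] at hX ⊢
  rw [e] at hX
  have hX' : Function.Bijective (f.left.appTop.hom ∘ Y.hom.appTop.hom) := by
    convert hX using 1
    ext c
    rfl
  refine ⟨Function.Injective.of_comp hX'.1, ?_⟩
  intro b
  obtain ⟨c, hc⟩ := hX'.2 (f.left.appTop.hom b)
  exact ⟨c, hf hc⟩

theorem isPullback_fst_snd (X Y : Over (Spec (CommRingCat.of k))) :
    IsPullback (fst X Y).left (snd X Y).left X.hom Y.hom := by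
  rw [Over.fst_left, Over.snd_left]
  exact IsPullback.of_hasPullback _ _

/-- Künneth: if `O(Y) = k` then every function on `X ×ₖ Y` comes from `X`. -/
theorem isIso_fst_appTop (X Y : Over (Spec (CommRingCat.of k))) [CompactSpace X.left]
    [QuasiSeparatedSpace X.left] [CompactSpace Y.left] [QuasiSeparatedSpace Y.left]
    (hY : IsIso Y.hom.appTop) : IsIso (fst X Y).left.appTop := by
  have H := isPullback_fst_snd X Y
  haveI : Flat Y.hom := inferInstance
  have hUST : (⊤ : Y.left.Opens) ≤ Y.hom ⁻¹ᵁ ⊤ := le_of_eq (by simp)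
  have hUSX : (⊤ : X.left.Opens) ≤ X.hom ⁻¹ᵁ ⊤ := le_of_eq (by simp)
  have hUY : (⊤ : (X ⊗ Y).left.Opens) = (fst X Y).left ⁻¹ᵁ ⊤ ⊓ (snd X Y).left ⁻¹ᵁ ⊤ := by simp
  have hflat : (X.hom.appLE ⊤ ⊤ hUSX).hom.Flat := by
    rw [← RingHom.Flat.respectsIso.cancel_left_isIso (Scheme.ΓSpecIso (CommRingCat.of k)).inv]
    algebraize [((Scheme.ΓSpecIso (CommRingCat.of k)).inv ≫ X.hom.appLE ⊤ ⊤ hUSX).hom]
    change Module.Flat k _
    infer_instance
  have hiso := AlgebraicGeometry.isIso_pushoutSection_of_isCompact_of_flat_right_of_ringHomFlat H hUST hUSX hUY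
    (isAffineOpen_top _) isCompact_univ (isQuasiSeparated_univ) isCompact_univ
    (isQuasiSeparated_univ) hflat
  rw [AlgebraicGeometry.isIso_pushoutSection_iff] at hiso
  have happ : ∀ {A B : Scheme.{u}} (g : A ⟶ B) (e : (⊤ : A.Opens) ≤ g ⁻¹ᵁ ⊤),
      g.appLE ⊤ ⊤ e = g.appTop := by
    intro A B g e
    simp [Scheme.Hom.appLE, Scheme.Hom.appTop]
  haveI : IsIso (Y.hom.appLE ⊤ ⊤ hUST) := by rw [happ]; exact hY
  have := hiso.isIso_inl_of_isIso
  rwa [happ] at this

/-- a morphism with a retraction is injective on global sections -/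
theorem appTop_injective_of_retraction {X Y : Scheme.{u}} (f : X ⟶ Y) (s : Y ⟶ X)
    (h : s ≫ f = 𝟙 Y) : Function.Injective f.appTop.hom := by
  have e : f.appTop ≫ s.appTop = 𝟙 _ := by
    rw [← Scheme.Hom.comp_appTop, h, Scheme.Hom.id_appTop]
  intro a b hab
  have := congrArg s.appTop.hom hab
  have h1 : ∀ c, s.appTop.hom (f.appTop.hom c) = c := fun c => by
    have := congrArg (fun φ => φ.hom c) e
    exact this
  rwa [h1, h1] at this

end Groth.Agent.Lib.Helper19.AntiAffine
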