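import Mathlib
import Groth.Agent.Lib.Helper19.Grp.AntiAffine

/-!
# Künneth formula for global functions over a field

For `X : Over (Spec k)` the ring `Γ(X.left, ⊤)` is a `k`-algebra (scoped instance `algΓ`), pullback
of functions along `f : X ⟶ Y` is an algebra hom `pb f`, and for quasi-compact quasi-separated
`X`, `Y` the canonical map `kun X Y : Γ(X) ⊗[k] Γ(Y) →ₐ[k] Γ(X ⊗ Y)` is bijective
(`kun_bijective`).
-/

set_option autoImplicit false
set_option linter.style.haveILetI false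
set_option linter.unusedSectionVars false
universe u
open CategoryTheory CategoryTheory.Limits MonoidalCategory CartesianMonoidalCategory
  AlgebraicGeometry
open scoped TensorProduct

namespace Groth.Agent.Lib.Helper19.Kunneth

variable {k : Type u} [Field k]

theorem flat_appLE (X : Over (Spec (CommRingCat.of k)))
    (hUSX : (⊤ : X.left.Opens) ≤ X.hom ⁻¹ᵁ ⊤) : (X.hom.appLE ⊤ ⊤ hUSX).hom.Flat := by
  rw [← RingHom.Flat.respectsIso.cancel_left_isIso (Scheme.ΓSpecIso (CommRingCat.of k)).inv]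
  algebraize [((Scheme.ΓSpecIso (CommRingCat.of k)).inv ≫ X.hom.appLE ⊤ ⊤ hUSX).hom]
  change Module.Flat k _
  infer_instance

/-- the structure map `k → Γ(X)` -/
noncomputable def str (X : Over (Spec (CommRingCat.of k))) : k →+* Γ(X.left, ⊤) :=
  ((Scheme.ΓSpecIso (CommRingCat.of k)).inv ≫ X.hom.appTop).hom

/-- `Γ(X)` as a `k`-algebra. -/
noncomputable scoped instance algΓ (X : Over (Spec (CommRingCat.of k))) :
    Algebra k Γ(X.left, ⊤) := (str X).toAlgebra

theorem algebraMap_eq (X : Over (Spec (CommRingCat.of k))) :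
    algebraMap k Γ(X.left, ⊤) = str X := rfl

/-- pullback of functions, as an algebra hom -/
noncomputable def pb {X Y : Over (Spec (CommRingCat.of k))} (f : X ⟶ Y) :
    Γ(Y.left, ⊤) →ₐ[k] Γ(X.left, ⊤) :=
  { f.left.appTop.hom with
    commutes' := by
      intro r
      change f.left.appTop.hom ((str Y) r) = (str X) r
      unfold str
      rw [← Over.w f, Scheme.Hom.comp_appTop]
      rfl }

@[simp] theorem pb_apply {X Y : Over (Spec (CommRingCat.of k))} (f : X ⟶ Y) (r : Γ(Y.left, ⊤)) :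
    pb f r = f.left.appTop.hom r := rfl

theorem pb_comp {X Y Z : Over (Spec (CommRingCat.of k))} (f : X ⟶ Y) (g : Y ⟶ Z)
    (r : Γ(Z.left, ⊤)) : pb (f ≫ g) r = pb f (pb g r) := by
  simp only [pb_apply, Over.comp_left, Scheme.Hom.comp_appTop]
  rfl

theorem pb_id {X : Over (Spec (CommRingCat.of k))} (r : Γ(X.left, ⊤)) : pb (𝟙 X) r = r := by
  simp only [pb_apply, Over.id_left, Scheme.Hom.id_appTop]
  rfl

/-- the Künneth map -/
noncomputable def kun (X Y : Over (Spec (CommRingCat.of k))) :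
    Γ(X.left, ⊤) ⊗[k] Γ(Y.left, ⊤) →ₐ[k] Γ((X ⊗ Y).left, ⊤) :=
  Algebra.TensorProduct.productMap (pb (fst X Y)) (pb (snd X Y))

@[simp] theorem kun_tmul (X Y : Over (Spec (CommRingCat.of k))) (a : Γ(X.left, ⊤))
    (b : Γ(Y.left, ⊤)) : kun X Y (a ⊗ₜ b) = pb (fst X Y) a * pb (snd X Y) b := by
  unfold kun
  rw [Algebra.TensorProduct.productMap_apply_tmul]

/-- evaluating a Künneth tensor on a pair of points -/
theorem pb_lift_kun {T X Y : Over (Spec (CommRingCat.of k))} (g : T ⟶ X) (h : T ⟶ Y)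
    (a : Γ(X.left, ⊤)) (b : Γ(Y.left, ⊤)) :
    pb (lift g h) (kun X Y (a ⊗ₜ b)) = pb g a * pb h b := by
  rw [kun_tmul, map_mul, ← pb_comp, ← pb_comp, lift_fst, lift_snd]

theorem kun_bijective (X Y : Over (Spec (CommRingCat.of k))) [CompactSpace X.left]
    [QuasiSeparatedSpace X.left] [CompactSpace Y.left] [QuasiSeparatedSpace Y.left] :
    Function.Bijective (kun X Y) := by
  have H := Groth.Agent.Lib.Helper19.AntiAffine.isPullback_fst_snd X Y
  haveI : Flat Y.hom := inferInstance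
  have hUST : (⊤ : Y.left.Opens) ≤ Y.hom ⁻¹ᵁ ⊤ := le_of_eq (by simp)
  have hUSX : (⊤ : X.left.Opens) ≤ X.hom ⁻¹ᵁ ⊤ := le_of_eq (by simp)
  have hUY : (⊤ : (X ⊗ Y).left.Opens) = (fst X Y).left ⁻¹ᵁ ⊤ ⊓ (snd X Y).left ⁻¹ᵁ ⊤ := by simp
  have hflat : (X.hom.appLE ⊤ ⊤ hUSX).hom.Flat := flat_appLE X hUSX
  have hiso := AlgebraicGeometry.isIso_pushoutSection_of_isCompact_of_flat_right_of_ringHomFlat H
    hUST hUSX hUY (isAffineOpen_top _) isCompact_univ (isQuasiSeparated_univ) isCompact_univ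
    (isQuasiSeparated_univ) hflat
  rw [AlgebraicGeometry.isIso_pushoutSection_iff] at hiso
  have happ : ∀ {A B : Scheme.{u}} (g : A ⟶ B) (e : (⊤ : A.Opens) ≤ g ⁻¹ᵁ ⊤),
      g.appLE ⊤ ⊤ e = g.appTop := by
    intro A B g e
    simp [Scheme.Hom.appLE, Scheme.Hom.appTop]
  rw [happ, happ, happ, happ] at hiso
  -- transport to `k`
  have hiso' : IsPushout (CommRingCat.ofHom (algebraMap k Γ(X.left, ⊤)))
      (CommRingCat.ofHom (algebraMap k Γ(Y.left, ⊤))) (fst X Y).left.appTop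
      (snd X Y).left.appTop := by
    refine hiso.of_iso (Scheme.ΓSpecIso (CommRingCat.of k)) (Iso.refl _) (Iso.refl _) (Iso.refl _)
      ?_ ?_ ?_ ?_
    · rw [Iso.refl_hom, Category.comp_id]
      change _ = (Scheme.ΓSpecIso (CommRingCat.of k)).hom ≫
        ((Scheme.ΓSpecIso (CommRingCat.of k)).inv ≫ X.hom.appTop)
      rw [Iso.hom_inv_id_assoc]
    · rw [Iso.refl_hom, Category.comp_id]
      change _ = (Scheme.ΓSpecIso (CommRingCat.of k)).hom ≫
        ((Scheme.ΓSpecIso (CommRingCat.of k)).inv ≫ Y.hom.appTop)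
      rw [Iso.hom_inv_id_assoc]
    · simp
    · simp
  have hT := CommRingCat.isPushout_tensorProduct k Γ(X.left, ⊤) Γ(Y.left, ⊤)
  let e := hT.isoIsPushout _ _ hiso'
  have he : e.hom = CommRingCat.ofHom (kun X Y).toRingHom := by
    apply hT.hom_ext
    · rw [IsPushout.inl_isoIsPushout_hom]
      ext a
      change _ = kun X Y (a ⊗ₜ 1)
      rw [kun_tmul, map_one, mul_one]
      rfl
    · rw [IsPushout.inr_isoIsPushout_hom]
      ext b
      change _ = kun X Y (1 ⊗ₜ b)
      rw [kun_tmul, map_one, one_mul]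
      rfl
  have hb : Function.Bijective e.hom.hom := ConcreteCategory.bijective_of_isIso e.hom
  rw [he] at hb
  exact hb

/-- the Künneth isomorphism -/
noncomputable def kunEquiv (X Y : Over (Spec (CommRingCat.of k))) [CompactSpace X.left]
    [QuasiSeparatedSpace X.left] [CompactSpace Y.left] [QuasiSeparatedSpace Y.left] :
    Γ(X.left, ⊤) ⊗[k] Γ(Y.left, ⊤) ≃ₐ[k] Γ((X ⊗ Y).left, ⊤) :=
  AlgEquiv.ofBijective (kun X Y) (kun_bijective X Y)

@[simp] theorem kunEquiv_apply (X Y : Over (Spec (CommRingCat.of k))) [CompactSpace X.left]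
    [QuasiSeparatedSpace X.left] [CompactSpace Y.left] [QuasiSeparatedSpace Y.left]
    (t : Γ(X.left, ⊤) ⊗[k] Γ(Y.left, ⊤)) : kunEquiv X Y t = kun X Y t := rfl

theorem kun_kunEquiv_symm (X Y : Over (Spec (CommRingCat.of k))) [CompactSpace X.left]
    [QuasiSeparatedSpace X.left] [CompactSpace Y.left] [QuasiSeparatedSpace Y.left]
    (s : Γ((X ⊗ Y).left, ⊤)) : kun X Y ((kunEquiv X Y).symm s) = s :=
  (kunEquiv X Y).apply_symm_apply s

end Groth.Agent.Lib.Helper19.Kunneth
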