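import Mathlib
import Groth.Agent.Lib.Helper19.Grp.Kunneth
import Groth.Agent.Lib.Helper19.Grp.CoalgLF

/-!
# The coalgebra of global functions of a group scheme over a field

For a quasi-compact quasi-separated group scheme `G` over a field `k`, the ring `Γ(G)` is a
`k`-coalgebra (`coalg G`), with comultiplication `μ^*` (through Künneth) and counit `η^*`.
`pb_mul_of_comul` evaluates a function at a product of points, `pb_one` at the unit.
-/

set_option autoImplicit false
set_option linter.style.haveILetI false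
set_option linter.unusedSectionVars false
universe u
open CategoryTheory CategoryTheory.Limits MonoidalCategory CartesianMonoidalCategory MonObj
  AlgebraicGeometry
open scoped TensorProduct
open Groth.Agent.Lib.Helper19.Kunneth

namespace Groth.Agent.Lib.Helper19.FunCoalg

variable {k : Type u} [Field k] (G : Over (Spec (CommRingCat.of k))) [GrpObj G]

/-- the counit: evaluation at the unit section -/
noncomputable def counitAlg : Γ(G.left, ⊤) →ₐ[k] k :=
  { (Scheme.ΓSpecIso (CommRingCat.of k)).hom.hom.comp (η[G].left.appTop).hom with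
    commutes' := by
      intro r
      change (Scheme.ΓSpecIso (CommRingCat.of k)).hom.hom
        ((η[G].left.appTop).hom ((str G) r)) = r
      unfold str
      have h1 : G.hom.appTop ≫ η[G].left.appTop = 𝟙 _ := by
        rw [← Scheme.Hom.comp_appTop, Over.w η[G]]
        exact Scheme.Hom.id_appTop
      have h2 : (η[G].left.appTop).hom ((G.hom.appTop).hom
          ((Scheme.ΓSpecIso (CommRingCat.of k)).inv.hom r)) =
          (Scheme.ΓSpecIso (CommRingCat.of k)).inv.hom r := by
        have := congrArg (fun φ => φ.hom ((Scheme.ΓSpecIso (CommRingCat.of k)).inv.hom r)) h1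
        exact this
      rw [CommRingCat.hom_comp, RingHom.comp_apply, h2]
      exact congrArg (fun φ => φ.hom r) (Scheme.ΓSpecIso (CommRingCat.of k)).inv_hom_id }

theorem pb_one (T : Over (Spec (CommRingCat.of k))) (r : Γ(G.left, ⊤)) :
    pb (toUnit T ≫ η[G]) r = algebraMap k Γ(T.left, ⊤) (counitAlg G r) := by
  rw [pb_comp]
  have h1 : pb η[G] r = algebraMap k Γ((𝟙_ (Over (Spec (CommRingCat.of k)))).left, ⊤)
      (counitAlg G r) := by
    change pb η[G] r = (str (𝟙_ (Over (Spec (CommRingCat.of k)))))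
      ((Scheme.ΓSpecIso (CommRingCat.of k)).hom.hom ((η[G].left.appTop).hom r))
    unfold str
    have h2 : (𝟙_ (Over (Spec (CommRingCat.of k)))).hom.appTop = 𝟙 _ :=
      Scheme.Hom.id_appTop
    rw [h2, Category.comp_id]
    exact (congrArg (fun φ => φ.hom ((η[G].left.appTop).hom r))
      (Scheme.ΓSpecIso (CommRingCat.of k)).hom_inv_id).symm
  rw [h1, AlgHom.commutes]

variable [CompactSpace G.left] [QuasiSeparatedSpace G.left]

/-- the comultiplication -/
noncomputable def comulLin : Γ(G.left, ⊤) →ₗ[k] Γ(G.left, ⊤) ⊗[k] Γ(G.left, ⊤) :=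
  (kunEquiv G G).symm.toLinearMap ∘ₗ (pb μ[G]).toLinearMap

theorem kun_comul (r : Γ(G.left, ⊤)) : kun G G (comulLin G r) = pb μ[G] r :=
  kun_kunEquiv_symm G G _

theorem pb_lift_kun_comul {T : Over (Spec (CommRingCat.of k))} (g h : T ⟶ G)
    (r : Γ(G.left, ⊤)) : pb (lift g h) (kun G G (comulLin G r)) = pb (g * h) r := by
  rw [kun_comul, ← pb_comp, Hom.mul_def]

/-- evaluating a function at a product of points -/
theorem pb_mul_of_comul {T : Over (Spec (CommRingCat.of k))} (g h : T ⟶ G)
    (r : Γ(G.left, ⊤)) {J : Type*} [Fintype J] (x y : J → Γ(G.left, ⊤))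
    (hr : comulLin G r = ∑ i, x i ⊗ₜ[k] y i) :
    pb (g * h) r = ∑ i, pb g (x i) * pb h (y i) := by
  rw [← pb_lift_kun_comul, hr, map_sum, map_sum]
  refine Finset.sum_congr rfl fun i _ => ?_
  rw [pb_lift_kun]

/-- the triple Künneth map -/
noncomputable def K3 :
    Γ(G.left, ⊤) ⊗[k] (Γ(G.left, ⊤) ⊗[k] Γ(G.left, ⊤)) →ₗ[k] Γ((G ⊗ (G ⊗ G)).left, ⊤) :=
  (kun G (G ⊗ G)).toLinearMap ∘ₗ (kun G G).toLinearMap.lTensor Γ(G.left, ⊤)

theorem K3_tmul (a b c : Γ(G.left, ⊤)) :
    K3 G (a ⊗ₜ (b ⊗ₜ c)) = pb (fst G (G ⊗ G)) a *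
      (pb (snd G (G ⊗ G) ≫ fst G G) b * pb (snd G (G ⊗ G) ≫ snd G G) c) := by
  change kun G (G ⊗ G) ((kun G G).toLinearMap.lTensor _ (a ⊗ₜ (b ⊗ₜ c))) = _
  rw [LinearMap.lTensor_tmul, AlgHom.toLinearMap_apply, kun_tmul, kun_tmul, map_mul, ← pb_comp,
    ← pb_comp]

theorem K3_injective : Function.Injective (K3 G) := by
  haveI : CompactSpace (G ⊗ G).left := by
    haveI : QuasiCompact (G ⊗ G).hom := by
      rw [Over.tensorObj_hom]
      haveI : QuasiCompact G.hom := (quasiCompact_iff_compactSpace G.hom).mpr inferInstance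
      infer_instance
    exact QuasiCompact.compactSpace_of_compactSpace (G ⊗ G).hom
  haveI : QuasiSeparatedSpace (G ⊗ G).left := by
    haveI : QuasiSeparated (G ⊗ G).hom := by
      rw [Over.tensorObj_hom]
      haveI : QuasiSeparated G.hom := (quasiSeparated_iff_quasiSeparatedSpace G.hom).mpr inferInstance
      infer_instance
    exact quasiSeparatedSpace_of_quasiSeparated (G ⊗ G).hom
  unfold K3
  rw [LinearMap.coe_comp]
  refine Function.Injective.comp (kun_bijective G (G ⊗ G)).1 ?_
  exact Module.Flat.lTensor_preserves_injective_linearMap _ (kun_bijective G G).1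

theorem K3_lTensor_comul (t : Γ(G.left, ⊤) ⊗[k] Γ(G.left, ⊤)) :
    K3 G ((comulLin G).lTensor _ t) =
      pb (lift (fst G (G ⊗ G))
        ((snd G (G ⊗ G) ≫ fst G G) * (snd G (G ⊗ G) ≫ snd G G))) (kun G G t) := by
  induction t with
  | zero => simp
  | tmul a b =>
    rw [LinearMap.lTensor_tmul, pb_lift_kun]
    change kun G (G ⊗ G) ((kun G G).toLinearMap.lTensor _ (a ⊗ₜ comulLin G b)) = _
    rw [LinearMap.lTensor_tmul, AlgHom.toLinearMap_apply, kun_tmul, kun_comul, ← pb_comp]
    congr 2
    rw [Hom.mul_def, ← comp_lift, lift_fst_snd, Category.comp_id]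
  | add x y hx hy => simp only [map_add, hx, hy]

theorem K3_assoc_tmul (s : Γ(G.left, ⊤) ⊗[k] Γ(G.left, ⊤)) (b : Γ(G.left, ⊤)) :
    K3 G (TensorProduct.assoc k _ _ _ (s ⊗ₜ b)) =
      pb (lift (fst G (G ⊗ G)) (snd G (G ⊗ G) ≫ fst G G)) (kun G G s) *
        pb (snd G (G ⊗ G) ≫ snd G G) b := by
  induction s with
  | zero => simp
  | tmul x y =>
    rw [TensorProduct.assoc_tmul, K3_tmul, pb_lift_kun, _root_.mul_assoc]
  | add s₁ s₂ h₁ h₂ => simp only [TensorProduct.add_tmul, map_add, h₁, h₂, add_mul]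

theorem K3_assoc_rTensor_comul (t : Γ(G.left, ⊤) ⊗[k] Γ(G.left, ⊤)) :
    K3 G (TensorProduct.assoc k _ _ _ ((comulLin G).rTensor _ t)) =
      pb (lift ((fst G (G ⊗ G)) * (snd G (G ⊗ G) ≫ fst G G)) (snd G (G ⊗ G) ≫ snd G G))
        (kun G G t) := by
  induction t with
  | zero => simp
  | tmul a b =>
    rw [LinearMap.rTensor_tmul, K3_assoc_tmul, pb_lift_kun, pb_lift_kun_comul]
  | add x y hx hy => simp only [map_add, hx, hy]

/-- `Γ(G)` is a coalgebra. -/
noncomputable def coalg : Coalgebra k Γ(G.left, ⊤) where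
  comul := comulLin G
  counit := (counitAlg G).toLinearMap
  coassoc := by
    apply LinearMap.ext
    intro r
    apply K3_injective G
    simp only [LinearMap.comp_apply, LinearEquiv.coe_coe]
    rw [K3_assoc_rTensor_comul, K3_lTensor_comul, pb_lift_kun_comul, pb_lift_kun_comul,
      _root_.mul_assoc]
  rTensor_counit_comp_comul := by
    apply LinearMap.ext
    intro r
    apply (TensorProduct.lid k Γ(G.left, ⊤)).injective
    simp only [LinearMap.comp_apply, TensorProduct.mk_apply, TensorProduct.lid_tmul, one_smul]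
    have key : ∀ t : Γ(G.left, ⊤) ⊗[k] Γ(G.left, ⊤),
        TensorProduct.lid k Γ(G.left, ⊤) ((counitAlg G).toLinearMap.rTensor _ t) =
          pb (lift (toUnit G ≫ η[G]) (𝟙 G)) (kun G G t) := by
      intro t
      induction t with
      | zero => simp
      | tmul a b =>
        rw [LinearMap.rTensor_tmul, TensorProduct.lid_tmul, pb_lift_kun, pb_one, pb_id,
          AlgHom.toLinearMap_apply, Algebra.smul_def]
      | add x y hx hy => simp only [map_add, hx, hy]
    rw [key, kun_comul, ← pb_comp, lift_comp_one_left, pb_id]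
  lTensor_counit_comp_comul := by
    apply LinearMap.ext
    intro r
    apply (TensorProduct.rid k Γ(G.left, ⊤)).injective
    simp only [LinearMap.comp_apply, LinearMap.flip_apply, TensorProduct.mk_apply,
      TensorProduct.rid_tmul, one_smul]
    have key : ∀ t : Γ(G.left, ⊤) ⊗[k] Γ(G.left, ⊤),
        TensorProduct.rid k Γ(G.left, ⊤) ((counitAlg G).toLinearMap.lTensor _ t) =
          pb (lift (𝟙 G) (toUnit G ≫ η[G])) (kun G G t) := by
      intro t
      induction t with
      | zero => simp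
      | tmul a b =>
        rw [LinearMap.lTensor_tmul, TensorProduct.rid_tmul, pb_lift_kun, pb_one, pb_id,
          AlgHom.toLinearMap_apply, Algebra.smul_def, mul_comm]
      | add x y hx hy => simp only [map_add, hx, hy]
    rw [key, kun_comul, ← pb_comp, lift_comp_one_right, pb_id]

end Groth.Agent.Lib.Helper19.FunCoalg
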