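import Mathlib
import Groth.Agent.Lib.Helper19.Grp.FunCoalg

set_option autoImplicit false
set_option linter.style.haveILetI false
set_option linter.unusedSectionVars false
universe u
open CategoryTheory CategoryTheory.Limits MonoidalCategory CartesianMonoidalCategory MonObj GrpObj
  AlgebraicGeometry
open scoped TensorProduct
open Groth.Agent.Lib.Helper19.Kunneth Groth.Agent.Lib.Helper19.FunCoalg

namespace Groth.Agent.Lib.Helper19.FunHopf

variable {k : Type u} [Field k] (G : Over (Spec (CommRingCat.of k))) [GrpObj G]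
  [CompactSpace G.left] [QuasiSeparatedSpace G.left]

theorem comulLin_apply (r : Γ(G.left, ⊤)) :
    comulLin G r = (kunEquiv G G).symm (pb μ[G] r) := rfl

/-- The bialgebra structure on the global functions of a qcqs group scheme over a field. -/
@[reducible] noncomputable def bialg : Bialgebra k Γ(G.left, ⊤) :=
  letI := coalg G
  Bialgebra.mk' k Γ(G.left, ⊤) (map_one (counitAlg G)) (map_mul (counitAlg G) _ _)
    (by
      change comulLin G 1 = 1
      rw [comulLin_apply, map_one, map_one])
    (by
      intro a b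
      change comulLin G (a * b) = comulLin G a * comulLin G b
      rw [comulLin_apply, comulLin_apply, comulLin_apply, map_mul, map_mul])

theorem mul_pb_rTensor (t : Γ(G.left, ⊤) ⊗[k] Γ(G.left, ⊤)) :
    LinearMap.mul' k Γ(G.left, ⊤) ((pb ((𝟙 G)⁻¹)).toLinearMap.rTensor _ t) =
      pb (lift ((𝟙 G)⁻¹) (𝟙 G)) (kun G G t) := by
  induction t with
  | zero => simp
  | tmul a b =>
    rw [LinearMap.rTensor_tmul, LinearMap.mul'_apply, pb_lift_kun, pb_id, AlgHom.toLinearMap_apply]
  | add x y hx hy => simp only [map_add, hx, hy]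

theorem mul_pb_lTensor (t : Γ(G.left, ⊤) ⊗[k] Γ(G.left, ⊤)) :
    LinearMap.mul' k Γ(G.left, ⊤) ((pb ((𝟙 G)⁻¹)).toLinearMap.lTensor _ t) =
      pb (lift (𝟙 G) ((𝟙 G)⁻¹)) (kun G G t) := by
  induction t with
  | zero => simp
  | tmul a b =>
    rw [LinearMap.lTensor_tmul, LinearMap.mul'_apply, pb_lift_kun, pb_id, AlgHom.toLinearMap_apply]
  | add x y hx hy => simp only [map_add, hx, hy]

/-- The Hopf algebra structure on the global functions of a qcqs group scheme over a field. -/
@[reducible] noncomputable def hopf : HopfAlgebra k Γ(G.left, ⊤) :=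
  { bialg G with
    antipode := (pb ((𝟙 G)⁻¹)).toLinearMap
    mul_antipode_rTensor_comul := by
      apply LinearMap.ext
      intro r
      change LinearMap.mul' k Γ(G.left, ⊤) ((pb ((𝟙 G)⁻¹)).toLinearMap.rTensor _ (comulLin G r)) =
        algebraMap k Γ(G.left, ⊤) (counitAlg G r)
      rw [mul_pb_rTensor, pb_lift_kun_comul, inv_mul_cancel, Hom.one_def, pb_one]
    mul_antipode_lTensor_comul := by
      apply LinearMap.ext
      intro r
      change LinearMap.mul' k Γ(G.left, ⊤) ((pb ((𝟙 G)⁻¹)).toLinearMap.lTensor _ (comulLin G r)) =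
        algebraMap k Γ(G.left, ⊤) (counitAlg G r)
      rw [mul_pb_lTensor, pb_lift_kun_comul, mul_inv_cancel, Hom.one_def, pb_one] }

end Groth.Agent.Lib.Helper19.FunHopf
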