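import Mathlib
import Groth.Agent.Lib.Helper19.Grp.FunHopf
import Groth.Agent.Lib.Helper19.Grp.DominantHom

/-!
# The affine hull `Spec Γ(G, ⊤)` of a qcqs group scheme over a field, as a group scheme

`X G = Spec Γ(G, ⊤)` over `Spec k` with the group structure of Mathlib's `Spec` of the Hopf algebra
`FunHopf.hopf G`; `j G : G ⟶ X G` (underlying morphism `G.left.toSpecΓ`) is a homomorphism.
`isAffine_of_isQuasiAffine`: a quasi-affine group scheme over a field is affine (`j` is a dominant
quasi-compact homomorphism, hence surjective, and an open immersion).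
-/

set_option autoImplicit false
set_option linter.style.haveILetI false
set_option linter.unusedSectionVars false
set_option linter.overlappingInstances false
universe u
open CategoryTheory CategoryTheory.Limits MonoidalCategory CartesianMonoidalCategory MonObj GrpObj
  AlgebraicGeometry
open scoped TensorProduct
open Groth.Agent.Lib.Helper19.Kunneth Groth.Agent.Lib.Helper19.FunCoalg
  Groth.Agent.Lib.Helper19.FunHopf

namespace Groth.Agent.Lib.Helper19.AffHull

variable {k : Type u} [Field k] (G : Over (Spec (CommRingCat.of k))) [GrpObj G]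
  [CompactSpace G.left] [QuasiSeparatedSpace G.left]

/-- The affine hull `Spec Γ(G, ⊤)` as a scheme over `k`. -/
noncomputable abbrev X : Over (Spec (CommRingCat.of k)) :=
  @Scheme.asOver (Spec Γ(G.left, ⊤)) (Spec (CommRingCat.of k))
    (@specOverSpec (CommRingCat.of k) Γ(G.left, ⊤) (hopf G).toAlgebra)

noncomputable instance : GrpObj (X G) :=
  @instGrpObjSpecAsOverSpec (CommRingCat.of k) Γ(G.left, ⊤) (hopf G)

theorem X_hom : (X G).hom = Spec.map (CommRingCat.ofHom (algebraMap k Γ(G.left, ⊤))) := rfl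

theorem X_left : (X G).left = Spec Γ(G.left, ⊤) := rfl

end Groth.Agent.Lib.Helper19.AffHull

namespace Groth.Agent.Lib.Helper19.AffHull

variable {k : Type u} [Field k] (G : Over (Spec (CommRingCat.of k))) [GrpObj G]
  [CompactSpace G.left] [QuasiSeparatedSpace G.left]

theorem toSpecΓ_str (Y : Over (Spec (CommRingCat.of k))) :
    Y.left.toSpecΓ ≫ Spec.map (CommRingCat.ofHom (algebraMap k Γ(Y.left, ⊤))) = Y.hom := by
  have h1 : CommRingCat.ofHom (algebraMap k Γ(Y.left, ⊤)) =
      (Scheme.ΓSpecIso (CommRingCat.of k)).inv ≫ Y.hom.appTop := rfl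
  rw [h1, Spec.map_comp, ← Category.assoc, ← Scheme.toSpecΓ_naturality, Category.assoc,
    toSpecΓ_SpecMap_ΓSpecIso_inv, Category.comp_id]

/-- The canonical morphism to the affine hull. -/
noncomputable def j : G ⟶ X G :=
  Over.homMk G.left.toSpecΓ (toSpecΓ_str G)

theorem j_left : (j G).left = G.left.toSpecΓ := rfl

theorem one_X_left :
    η[X G].left = Spec.map (CommRingCat.ofHom (counitAlg G).toRingHom) := by
  letI := hopf G
  exact one_spec_asOver_spec_left (R := CommRingCat.of k) (A := Γ(G.left, ⊤))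

theorem mul_X_left :
    letI := hopf G
    μ[X G].left = (pullbackSpecIso k Γ(G.left, ⊤) Γ(G.left, ⊤)).hom ≫
      Spec.map (CommRingCat.ofHom (Bialgebra.comulAlgHom k Γ(G.left, ⊤)).toRingHom) := by
  letI := hopf G
  exact mul_spec_asOver_spec_left (R := CommRingCat.of k) (A := Γ(G.left, ⊤))

theorem one_hom_j_left :
    η[G].left ≫ G.left.toSpecΓ = Spec.map (CommRingCat.ofHom (counitAlg G).toRingHom) := by
  rw [Scheme.toSpecΓ_naturality]
  have h1 : CommRingCat.ofHom (counitAlg G).toRingHom =
      η[G].left.appTop ≫ (Scheme.ΓSpecIso (CommRingCat.of k)).hom := rfl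
  rw [h1, Spec.map_comp, SpecMap_ΓSpecIso_hom]
  rfl

theorem one_hom_j : η[G] ≫ j G = η[X G] := by
  ext1
  exact (one_hom_j_left G).trans (one_X_left G).symm

theorem F1 : CommRingCat.ofHom (Algebra.TensorProduct.includeLeftRingHom :
      Γ(G.left, ⊤) →+* Γ(G.left, ⊤) ⊗[k] Γ(G.left, ⊤)) ≫
      CommRingCat.ofHom (kun G G).toRingHom = (pullback.fst G.hom G.hom).appTop := by
  ext a
  change kun G G (a ⊗ₜ[k] 1) = pb (fst G G) a
  rw [kun_tmul, map_one, _root_.mul_one]

theorem F2 : CommRingCat.ofHom (RingHomClass.toRingHom (Algebra.TensorProduct.includeRight :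
      Γ(G.left, ⊤) →ₐ[k] Γ(G.left, ⊤) ⊗[k] Γ(G.left, ⊤))) ≫
      CommRingCat.ofHom (kun G G).toRingHom = (pullback.snd G.hom G.hom).appTop := by
  ext a
  change kun G G (1 ⊗ₜ[k] a) = pb (snd G G) a
  rw [kun_tmul, map_one, _root_.one_mul]

theorem F3 :
    letI := hopf G
    CommRingCat.ofHom (Bialgebra.comulAlgHom k Γ(G.left, ⊤)).toRingHom ≫
      CommRingCat.ofHom (kun G G).toRingHom = μ[G].left.appTop := by
  letI := hopf G
  ext a
  change kun G G (comulLin G a) = pb μ[G] a
  rw [kun_comul]

/-- `j × j` at the level of schemes. -/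
noncomputable def J2 : pullback G.hom G.hom ⟶
    pullback (Spec.map (CommRingCat.ofHom (algebraMap k Γ(G.left, ⊤))))
      (Spec.map (CommRingCat.ofHom (algebraMap k Γ(G.left, ⊤)))) :=
  pullback.map _ _ _ _ G.left.toSpecΓ G.left.toSpecΓ (𝟙 _)
    (by rw [Category.comp_id, toSpecΓ_str]) (by rw [Category.comp_id, toSpecΓ_str])

theorem J2_eq : (j G ⊗ₘ j G).left = J2 G := rfl

theorem J2_iso :
    J2 G ≫ (pullbackSpecIso k Γ(G.left, ⊤) Γ(G.left, ⊤)).hom =
      (pullback G.hom G.hom).toSpecΓ ≫ Spec.map (CommRingCat.ofHom (kun G G).toRingHom) := by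
  rw [← Iso.eq_comp_inv]
  apply pullback.hom_ext
  · rw [Category.assoc, Category.assoc, pullbackSpecIso_inv_fst, ← Spec.map_comp, F1,
      ← Scheme.toSpecΓ_naturality]
    exact pullback.lift_fst _ _ _
  · rw [Category.assoc, Category.assoc, pullbackSpecIso_inv_snd, ← Spec.map_comp, F2,
      ← Scheme.toSpecΓ_naturality]
    exact pullback.lift_snd _ _ _

theorem mul_hom_j_left :
    letI := hopf G
    μ[G].left ≫ G.left.toSpecΓ = J2 G ≫ (pullbackSpecIso k Γ(G.left, ⊤) Γ(G.left, ⊤)).hom ≫
      Spec.map (CommRingCat.ofHom (Bialgebra.comulAlgHom k Γ(G.left, ⊤)).toRingHom) := by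
  letI := hopf G
  rw [← Category.assoc, J2_iso, Category.assoc, ← Spec.map_comp, F3,
    Scheme.toSpecΓ_naturality]
  rfl

theorem mul_hom_j : μ[G] ≫ j G = (j G ⊗ₘ j G) ≫ μ[X G] := by
  letI := hopf G
  ext1
  have h := mul_hom_j_left G
  rw [← mul_X_left] at h
  exact h

instance : IsMonHom (j G) where
  one_hom := one_hom_j G
  mul_hom := mul_hom_j G

/-- A quasi-affine group scheme over a field is affine. -/
theorem isAffine_of_isQuasiAffine [G.left.IsQuasiAffine] : IsAffine G.left := by
  haveI : QuasiCompact (j G).left := inferInstanceAs (QuasiCompact G.left.toSpecΓ)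
  have hd : DenseRange (j G).left :=
    (inferInstance : IsDominant G.left.toSpecΓ).denseRange
  have hs := Groth.Agent.Lib.Helper19.surjective_of_denseRange_of_quasiCompact k G (X G) (j G) hd
  haveI : IsOpenImmersion G.left.toSpecΓ := inferInstance
  haveI : IsIso G.left.toSpecΓ := by
    rw [isIso_iff_isOpenImmersion_and_epi_base]
    refine ⟨inferInstance, ?_⟩
    rw [TopCat.epi_iff_surjective]
    exact hs.surj
  exact IsAffine.of_isIso G.left.toSpecΓ

end Groth.Agent.Lib.Helper19.AffHull
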