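import Mathlib
import Groth.Prelude.Def_VecGrp

/-!
# Affine-valued points of a scheme over a field

For a scheme `G` over a field `k` (an object of `Over (Spec k)`):
* `algU G U`: the `k`-algebra structure on `Γ(G, U)`; `gU G hU : VecGrp.pt k Γ(G, U) ⟶ G` the
  inclusion of an affine open as a point; `resAlg`, `ptMap_resAlg_gU` (compatibility with
  restriction);
* `ev G g : Γ(G, ⊤) →+* B`: evaluation of global functions at a `B`-valued point, `ev_ptMap`,
  `ev_gU`;
* `exists_factor`: a point with values in a local ring factors through some `gU`;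
* `eq_of_forall_affine_le`, `exists_glue`: sections are determined by / glued from their
  restrictions to affine opens.
-/

set_option autoImplicit false
set_option linter.style.haveILetI false
set_option linter.unusedSectionVars false
universe u
open CategoryTheory CategoryTheory.Limits MonoidalCategory CartesianMonoidalCategory MonObj
  AlgebraicGeometry Opposite TopologicalSpace

namespace Groth.Agent.Lib.Helper19.AffinePts


/-- Sections agreeing on all affine opens contained in `W` agree. -/
theorem eq_of_forall_affine_le (X : Scheme.{u}) (W : X.Opens) (a b : Γ(X, W))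
    (h : ∀ (U : X.Opens) (_ : IsAffineOpen U) (hUW : U ≤ W),
      X.presheaf.map (homOfLE hUW).op a = X.presheaf.map (homOfLE hUW).op b) : a = b := by
  have key : ∀ x : W, ∃ U : X.Opens, IsAffineOpen U ∧ U ≤ W ∧ x.1 ∈ U := by
    intro x
    obtain ⟨_, ⟨U, hU : IsAffineOpen U, rfl⟩, hxU, hUW⟩ :=
      X.isBasis_affineOpens.exists_subset_of_mem_open x.2 W.2
    exact ⟨U, hU, hUW, hxU⟩
  choose U hU hUW hxU using key
  refine X.sheaf.eq_of_locally_eq' U W (fun x => homOfLE (hUW x)) ?_ a b ?_
  · intro y hy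
    exact Opens.mem_iSup.mpr ⟨⟨y, hy⟩, hxU ⟨y, hy⟩⟩
  · intro x
    exact h (U x) (hU x) (hUW x)

/-- Gluing a compatible family of sections over the affine opens. -/
theorem exists_glue (X : Scheme.{u}) (s : ∀ (U : X.Opens), IsAffineOpen U → Γ(X, U))
    (hs : ∀ (U V : X.Opens) (hU : IsAffineOpen U) (hV : IsAffineOpen V) (h : V ≤ U),
      X.presheaf.map (homOfLE h).op (s U hU) = s V hV) :
    ∃ t : Γ(X, ⊤), ∀ (U : X.Opens) (hU : IsAffineOpen U),
      X.presheaf.map (homOfLE (le_top : U ≤ ⊤)).op t = s U hU := by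
  have hcompat : TopCat.Presheaf.IsCompatible X.sheaf.1 (fun U : X.affineOpens => U.1)
      (fun U => s U.1 U.2) := by
    intro U V
    apply eq_of_forall_affine_le
    intro W hW hWUV
    change X.presheaf.map _ (X.presheaf.map _ _) = X.presheaf.map _ (X.presheaf.map _ _)
    rw [← ConcreteCategory.comp_apply, ← ConcreteCategory.comp_apply, ← X.presheaf.map_comp,
      ← X.presheaf.map_comp]
    have h1 := hs U.1 W U.2 hW (hWUV.trans inf_le_left)
    have h2 := hs V.1 W V.2 hW (hWUV.trans inf_le_right)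
    exact h1.trans h2.symm
  obtain ⟨t, ht, -⟩ := X.sheaf.existsUnique_gluing' (fun U : X.affineOpens => U.1) ⊤
    (fun U => homOfLE le_top) (by rw [iSup_affineOpens_eq_top]) (fun U => s U.1 U.2) hcompat
  exact ⟨t, fun U hU => ht ⟨U, hU⟩⟩


variable {k : Type u} [Field k] (G : Over (Spec (CommRingCat.of k)))

/-- The `k`-algebra structure on the sections of a `k`-scheme over an open. -/
@[reducible] noncomputable def algU (U : G.left.Opens) : Algebra k Γ(G.left, U) :=
  (((Scheme.ΓSpecIso (CommRingCat.of k)).inv ≫ G.hom.appLE ⊤ U le_top).hom).toAlgebra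

theorem fromSpec_hom {U : G.left.Opens} (hU : IsAffineOpen U) :
    letI := algU G U
    hU.fromSpec ≫ G.hom = Spec.map (CommRingCat.ofHom (algebraMap k Γ(G.left, U))) := by
  letI := algU G U
  have h := IsAffineOpen.SpecMap_appLE_fromSpec G.hom (isAffineOpen_top _) hU (le_top)
  rw [← h, IsAffineOpen.fromSpec_top, Scheme.isoSpec_Spec_inv, ← Spec.map_comp]
  rfl

/-- The inclusion of an affine open, as a point with values in its ring of sections. -/
noncomputable def gU {U : G.left.Opens} (hU : IsAffineOpen U) :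
    letI := algU G U
    VecGrp.pt k Γ(G.left, U) ⟶ G :=
  letI := algU G U
  Over.homMk hU.fromSpec (fromSpec_hom G hU)

/-- Restriction of sections as a `k`-algebra homomorphism. -/
noncomputable def resAlg {U V : G.left.Opens} (h : V ≤ U) :
    letI := algU G U
    letI := algU G V
    Γ(G.left, U) →ₐ[k] Γ(G.left, V) :=
  letI := algU G U
  letI := algU G V
  { (G.left.presheaf.map (homOfLE h).op).hom with
    commutes' := fun r => by
      change (G.left.presheaf.map (homOfLE h).op).hom
        (((Scheme.ΓSpecIso (CommRingCat.of k)).inv ≫ G.hom.appLE ⊤ U le_top).hom r) =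
        ((Scheme.ΓSpecIso (CommRingCat.of k)).inv ≫ G.hom.appLE ⊤ V le_top).hom r
      rw [← Scheme.Hom.appLE_map G.hom (le_top : U ≤ G.hom ⁻¹ᵁ ⊤) (homOfLE h).op]
      rfl }

theorem resAlg_apply {U V : G.left.Opens} (h : V ≤ U) (r : Γ(G.left, U)) :
    resAlg G h r = (G.left.presheaf.map (homOfLE h).op).hom r := rfl

theorem ptMap_resAlg_gU {U V : G.left.Opens} (hU : IsAffineOpen U) (hV : IsAffineOpen V)
    (h : V ≤ U) :
    letI := algU G U
    letI := algU G V
    VecGrp.ptMap (resAlg G h) ≫ gU G hU = gU G hV := by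
  letI := algU G U
  letI := algU G V
  ext1
  exact hU.map_fromSpec hV (homOfLE h).op

/-- A point with values in a local ring factors through an affine open. -/
theorem exists_factor {B : Type u} [CommRing B] [Algebra k B] [IsLocalRing B]
    (g : VecGrp.pt k B ⟶ G) :
    ∃ (U : G.left.Opens) (hU : IsAffineOpen U),
      letI := algU G U
      ∃ ψ : Γ(G.left, U) →ₐ[k] B, VecGrp.ptMap ψ ≫ gU G hU = g := by
  obtain ⟨_, ⟨U, hU : IsAffineOpen U, rfl⟩, hxU, -⟩ :=
    G.left.isBasis_affineOpens.exists_subset_of_mem_open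
      (Set.mem_univ (g.left.base (IsLocalRing.closedPoint B))) isOpen_univ
  refine ⟨U, hU, ?_⟩
  letI := algU G U
  have hr : Set.range g.left.base ⊆ Set.range hU.fromSpec.base := by
    rw [hU.range_fromSpec]
    rintro _ ⟨y, rfl⟩
    have hy : y ⤳ IsLocalRing.closedPoint B := IsLocalRing.specializes_closedPoint y
    exact (hy.map g.left.base.hom.continuous).mem_open U.isOpen hxU
  haveI : IsOpenImmersion hU.fromSpec := hU.isOpenImmersion_fromSpec
  let l : Spec (CommRingCat.of B) ⟶ Spec Γ(G.left, U) := IsOpenImmersion.lift hU.fromSpec g.left hr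
  have hl : l ≫ hU.fromSpec = g.left := IsOpenImmersion.lift_fac _ _ _
  let ψ₀ : Γ(G.left, U) ⟶ CommRingCat.of B := Spec.preimage l
  have hψ₀ : Spec.map ψ₀ = l := Spec.map_preimage l
  have hcomm : ψ₀.hom.comp (algebraMap k Γ(G.left, U)) = algebraMap k B := by
    have h1 : Spec.map (CommRingCat.ofHom (ψ₀.hom.comp (algebraMap k Γ(G.left, U)))) =
        Spec.map (CommRingCat.ofHom (algebraMap k B)) := by
      have h2 : g.left ≫ G.hom = Spec.map (CommRingCat.ofHom (algebraMap k B)) := Over.w g
      rw [← h2, ← hl, Category.assoc, fromSpec_hom G hU, ← hψ₀, ← Spec.map_comp]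
      rfl
    have h3 := Spec.map_injective h1
    exact congrArg CommRingCat.Hom.hom h3
  refine ⟨{ ψ₀.hom with commutes' := fun r => RingHom.congr_fun hcomm r }, ?_⟩
  ext1
  change Spec.map _ ≫ hU.fromSpec = g.left
  rw [← hl, ← hψ₀]
  rfl

/-- Evaluation of global functions at an affine-valued point. -/
noncomputable def ev {B : Type u} [CommRing B] [Algebra k B] (g : VecGrp.pt k B ⟶ G) :
    Γ(G.left, ⊤) →+* B :=
  (g.left.appTop ≫ (Scheme.ΓSpecIso (CommRingCat.of B)).hom).hom

theorem ev_apply {B : Type u} [CommRing B] [Algebra k B] (g : VecGrp.pt k B ⟶ G)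
    (r : Γ(G.left, ⊤)) :
    ev G g r = (Scheme.ΓSpecIso (CommRingCat.of B)).hom.hom (g.left.appTop.hom r) := rfl

theorem ev_ptMap {B B' : Type u} [CommRing B] [Algebra k B] [CommRing B'] [Algebra k B']
    (φ : B →ₐ[k] B') (g : VecGrp.pt k B ⟶ G) (r : Γ(G.left, ⊤)) :
    ev G (VecGrp.ptMap φ ≫ g) r = φ (ev G g r) := by
  rw [ev_apply, ev_apply]
  have h1 : (VecGrp.ptMap φ ≫ g).left.appTop = g.left.appTop ≫
      (Spec.map (CommRingCat.ofHom φ.toRingHom)).appTop := by
    rw [Over.comp_left, Scheme.Hom.comp_appTop]; rfl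
  have h2 := Scheme.ΓSpecIso_naturality (CommRingCat.ofHom φ.toRingHom)
  rw [h1]
  have h3 := congrArg (fun f => f.hom (g.left.appTop.hom r)) h2
  simp only [CommRingCat.hom_comp, RingHom.comp_apply] at h3
  exact h3

theorem fromSpec_appTop_ΓSpecIso (X : Scheme.{u}) {U : X.Opens} (hU : IsAffineOpen U) :
    hU.fromSpec.appTop ≫ (Scheme.ΓSpecIso Γ(X, U)).hom =
      X.presheaf.map (homOfLE (le_top : U ≤ ⊤)).op := by
  have h := hU.fromSpec_toSpecΓ
  have h2 := congrArg Scheme.Hom.appTop h
  rw [Scheme.Hom.comp_appTop, Scheme.toSpecΓ_appTop] at h2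
  have h3 := Scheme.ΓSpecIso_naturality (X.presheaf.map (homOfLE (le_top : U ≤ ⊤)).op)
  rw [← h2, Category.assoc] at h3
  exact (cancel_epi _).mp h3

theorem ev_gU {U : G.left.Opens} (hU : IsAffineOpen U) (r : Γ(G.left, ⊤)) :
    letI := algU G U
    ev G (gU G hU) r = (G.left.presheaf.map (homOfLE (le_top : U ≤ ⊤)).op).hom r := by
  letI := algU G U
  rw [ev_apply]
  change (Scheme.ΓSpecIso _).hom.hom (hU.fromSpec.appTop.hom r) = _
  have h := fromSpec_appTop_ΓSpecIso G.left hU
  exact congrArg (fun f => f.hom r) h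

end Groth.Agent.Lib.Helper19.AffinePts
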