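import Mathlib
import Groth.Prelude.Def_AGF
import Groth.Agent.Lib.Helper19.Grp.Kunneth
import Groth.Agent.Lib.Helper19.Grp.ActionPts

/-!
# Linear actions on affine space from a multiplicative matrix of functions

* `AffJ J`: the affine space `𝔸(J; Spec k)` as an object of `Over (Spec k)`; `crd`, `pt`,
  `crd_pt`, `ext_crd`, `crd_comp` describe its points by coordinates.
* `matAct G c`: the morphism `G ⊗ 𝔸ᴶ ⟶ 𝔸ᴶ`, `(g, v) ↦ c(g) v`, for a matrix `c` of functions
  on `G`; `matAction G c hmul hone` the action it defines when `c` is multiplicative.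
-/

set_option autoImplicit false
set_option linter.style.haveILetI false
set_option linter.unusedSectionVars false
universe u
open CategoryTheory CategoryTheory.Limits MonoidalCategory CartesianMonoidalCategory MonObj
  AlgebraicGeometry
open Groth.Agent.Lib.Helper19.Kunneth

namespace Groth.Agent.Lib.Helper19.MatrixAction

variable {k : Type u} [Field k]

/-- affine space over `Spec k` as an object of `Over (Spec k)` -/
noncomputable abbrev AffJ (k : Type u) [Field k] (J : Type u) : Over (Spec (CommRingCat.of k)) :=
  Over.mk (𝔸(J; Spec (CommRingCat.of k)) ↘ Spec (CommRingCat.of k))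

variable {J : Type u}

/-- the coordinate functions on affine space -/
noncomputable def coordJ (k : Type u) [Field k] (i : J) : Γ((AffJ k J).left, ⊤) :=
  AffineSpace.coord (Spec (CommRingCat.of k)) i

/-- coordinates of a point -/
noncomputable def crd {T : Over (Spec (CommRingCat.of k))} (p : T ⟶ AffJ k J) (i : J) :
    Γ(T.left, ⊤) := pb p (coordJ k i)

/-- the point with given coordinates -/
noncomputable def pt {T : Over (Spec (CommRingCat.of k))} (v : J → Γ(T.left, ⊤)) :
    T ⟶ AffJ k J :=
  Over.homMk (AffineSpace.homOfVector T.hom v) (AffineSpace.homOfVector_over _ _)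

@[simp] theorem crd_pt {T : Over (Spec (CommRingCat.of k))} (v : J → Γ(T.left, ⊤)) (i : J) :
    crd (pt v) i = v i :=
  AffineSpace.homOfVector_appTop_coord _ _ _

theorem ext_crd {T : Over (Spec (CommRingCat.of k))} {p q : T ⟶ AffJ k J}
    (h : ∀ i, crd p i = crd q i) : p = q := by
  apply Over.OverMorphism.ext
  apply AffineSpace.hom_ext
  · exact (Over.w p).trans (Over.w q).symm
  · exact h

theorem crd_comp {T T' : Over (Spec (CommRingCat.of k))} (u : T' ⟶ T) (p : T ⟶ AffJ k J)
    (i : J) : crd (u ≫ p) i = pb u (crd p i) :=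
  pb_comp u p _

variable (G : Over (Spec (CommRingCat.of k))) [GrpObj G] [Fintype J] [DecidableEq J]

/-- the action morphism of a matrix of functions -/
noncomputable def matAct (c : J → J → Γ(G.left, ⊤)) : G ⊗ AffJ k J ⟶ AffJ k J :=
  pt fun i => ∑ j, pb (fst G (AffJ k J)) (c i j) * crd (snd G (AffJ k J)) j

theorem crd_matAct (c : J → J → Γ(G.left, ⊤)) {T : Over (Spec (CommRingCat.of k))}
    (g : T ⟶ G) (v : T ⟶ AffJ k J) (i : J) :
    crd (lift g v ≫ matAct G c) i = ∑ j, pb g (c i j) * crd v j := by
  rw [crd_comp]
  unfold matAct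
  rw [crd_pt, map_sum]
  refine Finset.sum_congr rfl fun j _ => ?_
  rw [map_mul, ← pb_comp, lift_fst, ← crd_comp, lift_snd]

/-- the linear action on affine space defined by a multiplicative matrix of functions -/
noncomputable def matAction (c : J → J → Γ(G.left, ⊤))
    (hmul : ∀ (T : Over (Spec (CommRingCat.of k))) (g h : T ⟶ G) (i j : J),
      pb (g * h) (c i j) = ∑ l, pb g (c i l) * pb h (c l j))
    (hone : ∀ (T : Over (Spec (CommRingCat.of k))) (i j : J),
      pb (toUnit T ≫ η[G]) (c i j) = if i = j then 1 else 0) :
    AlgGrp.Action G (AffJ k J) :=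
  Groth.Agent.Lib.Helper19.ActionPts.mkOfPts (matAct G c)
    (by
      intro T x
      apply ext_crd
      intro i
      rw [crd_matAct]
      simp only [hone, ite_mul, _root_.one_mul, zero_mul, Finset.sum_ite_eq, Finset.mem_univ, if_true])
    (by
      intro T g h x
      apply ext_crd
      intro i
      rw [crd_matAct, crd_matAct]
      simp only [crd_matAct, hmul, Finset.sum_mul, Finset.mul_sum]
      rw [Finset.sum_comm]
      refine Finset.sum_congr rfl fun l _ => Finset.sum_congr rfl fun j _ => ?_
      rw [_root_.mul_assoc])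

@[simp] theorem matAction_act (c : J → J → Γ(G.left, ⊤)) (hmul hone) :
    (matAction G c hmul hone).act = matAct G c := rfl

end Groth.Agent.Lib.Helper19.MatrixAction
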