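import Mathlib
import Groth.Agent.Lib.Helper19.Grp.FunCoalg
import Groth.Agent.Lib.Helper19.Grp.MatrixAction

/-!
# Local finiteness of the regular representation of a group scheme over a field

* `exists_matrix_rep`: every function `f` on a qcqs group scheme `G` over a field lies in the span
  of a finite linearly independent family `a` of functions with
  `a j (g h) = ∑ i, a i (g) c i j (h)` for a multiplicative matrix `c` of functions.
* `mem_range_of_trivial`: if the matrix `c` is the identity matrix, the `a j` are constant.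
* `exists_action_of_not_const`: hence if `O(G) ≠ k` there is a nontrivial linear action of `G` on
  an affine space (`surjective_of_forall_matAct`).
-/

set_option autoImplicit false
set_option linter.style.haveILetI false
set_option linter.unusedSectionVars false
universe u
open CategoryTheory CategoryTheory.Limits MonoidalCategory CartesianMonoidalCategory MonObj
  AlgebraicGeometry
open scoped TensorProduct
open Groth.Agent.Lib.Helper19.Kunneth Groth.Agent.Lib.Helper19.FunCoalg
  Groth.Agent.Lib.Helper19.MatrixAction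

namespace Groth.Agent.Lib.Helper19.AntiAffineRep

variable {k : Type u} [Field k] (G : Over (Spec (CommRingCat.of k))) [GrpObj G]
  [CompactSpace G.left] [QuasiSeparatedSpace G.left]

theorem exists_matrix_rep (f : Γ(G.left, ⊤)) :
    ∃ (J : Type u) (_ : Fintype J) (_ : DecidableEq J) (a : J → Γ(G.left, ⊤))
      (c : J → J → Γ(G.left, ⊤)),
      LinearIndependent k a ∧ f ∈ Submodule.span k (Set.range a) ∧
      (∀ (T : Over (Spec (CommRingCat.of k))) (g h : T ⟶ G) (j : J),
        pb (g * h) (a j) = ∑ i, pb g (a i) * pb h (c i j)) ∧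
      (∀ (T : Over (Spec (CommRingCat.of k))) (g h : T ⟶ G) (i j : J),
        pb (g * h) (c i j) = ∑ l, pb g (c i l) * pb h (c l j)) ∧
      (∀ (T : Over (Spec (CommRingCat.of k))) (i j : J),
        pb (toUnit T ≫ η[G]) (c i j) = if i = j then 1 else 0) := by
  letI := coalg G
  obtain ⟨J, hJ, hJ', a, c, hli, hf, h2, h3, h4⟩ :=
    Groth.Agent.Lib.Helper19.CoalgLF.exists_matrix (k := k) f
  refine ⟨J, hJ, hJ', a, c, hli, hf, ?_, ?_, ?_⟩
  · intro T g h j
    exact pb_mul_of_comul G g h (a j) _ _ (h2 j)
  · intro T g h i j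
    exact pb_mul_of_comul G g h (c i j) _ _ (h3 i j)
  · intro T i j
    rw [pb_one]
    have h5 : counitAlg G (c i j) = if i = j then 1 else 0 := h4 i j
    rw [h5]
    split_ifs
    · rw [map_one]
    · rw [map_zero]

theorem mem_range_of_trivial {J : Type u} [Fintype J] [DecidableEq J] (a : J → Γ(G.left, ⊤))
    (c : J → J → Γ(G.left, ⊤))
    (ha : ∀ (T : Over (Spec (CommRingCat.of k))) (g h : T ⟶ G) (j : J),
        pb (g * h) (a j) = ∑ i, pb g (a i) * pb h (c i j))
    (hc : ∀ i j, c i j = if i = j then 1 else 0) (j : J) :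
    a j ∈ Set.range (algebraMap k Γ(G.left, ⊤)) := by
  refine ⟨counitAlg G (a j), ?_⟩
  have h1 := ha G (toUnit G ≫ η[G]) (𝟙 G) j
  have h2 : (toUnit G ≫ η[G]) * 𝟙 G = 𝟙 G := by
    rw [← Hom.one_def, _root_.one_mul]
  rw [h2, pb_id] at h1
  rw [← pb_one G G (a j)]
  conv_rhs => rw [h1]
  simp only [hc, pb_id, mul_ite, _root_.mul_one, mul_zero, Finset.sum_ite_eq', Finset.mem_univ,
    if_true]

/-- If every multiplicative matrix of functions on `G` is the identity matrix, then `O(G) = k`. -/
theorem surjective_of_forall_matrix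
    (H : ∀ (J : Type u) (_ : Fintype J) (_ : DecidableEq J) (c : J → J → Γ(G.left, ⊤))
      (_ : ∀ (T : Over (Spec (CommRingCat.of k))) (g h : T ⟶ G) (i j : J),
        pb (g * h) (c i j) = ∑ l, pb g (c i l) * pb h (c l j))
      (_ : ∀ (T : Over (Spec (CommRingCat.of k))) (i j : J),
        pb (toUnit T ≫ η[G]) (c i j) = if i = j then 1 else 0),
      ∀ i j, c i j = if i = j then 1 else 0) :
    Function.Surjective (algebraMap k Γ(G.left, ⊤)) := by
  intro f
  obtain ⟨J, hJ, hJ', a, c, -, hf, h2, h3, h4⟩ := exists_matrix_rep G f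
  have hc := H J hJ hJ' c h3 h4
  have hrange : Submodule.span k (Set.range a) ≤
      (Algebra.ofId k Γ(G.left, ⊤)).range.toSubmodule := by
    rw [Submodule.span_le]
    rintro _ ⟨j, rfl⟩
    exact mem_range_of_trivial G a c h2 hc j
  obtain ⟨r, hr⟩ := hrange hf
  exact ⟨r, hr⟩

/-- If every linear action of `G` on an affine space, given by a multiplicative matrix of functions,
is trivial, then `O(G) = k`. -/
theorem surjective_of_forall_matAct
    (H : ∀ (J : Type u) (_ : Fintype J) (_ : DecidableEq J) (c : J → J → Γ(G.left, ⊤))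
      (hmul : ∀ (T : Over (Spec (CommRingCat.of k))) (g h : T ⟶ G) (i j : J),
        pb (g * h) (c i j) = ∑ l, pb g (c i l) * pb h (c l j))
      (hone : ∀ (T : Over (Spec (CommRingCat.of k))) (i j : J),
        pb (toUnit T ≫ η[G]) (c i j) = if i = j then 1 else 0),
      matAct G c = snd G (AffJ k J)) :
    Function.Surjective (algebraMap k Γ(G.left, ⊤)) := by
  intro f
  obtain ⟨J, hJ, hJ', a, c, -, hf, h2, h3, h4⟩ := exists_matrix_rep G f
  have hact := H J hJ hJ' c h3 h4
  have hc : ∀ i m, c i m = if i = m then 1 else 0 := by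
    intro i m
    have h5 := crd_matAct G c (𝟙 G) (pt fun j => if j = m then (1 : Γ(G.left, ⊤)) else 0) i
    rw [hact, lift_snd, crd_pt] at h5
    simp only [crd_pt, pb_id, mul_ite, _root_.mul_one, mul_zero, Finset.sum_ite_eq',
      Finset.mem_univ, if_true] at h5
    exact h5.symm
  have hrange : Submodule.span k (Set.range a) ≤
      (Algebra.ofId k Γ(G.left, ⊤)).range.toSubmodule := by
    rw [Submodule.span_le]
    rintro _ ⟨j, rfl⟩
    exact mem_range_of_trivial G a c h2 hc j
  obtain ⟨r, hr⟩ := hrange hf
  exact ⟨r, hr⟩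

end Groth.Agent.Lib.Helper19.AntiAffineRep
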