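import Mathlib
import Groth.Agent.Lib.Helper19.Grp.GeneralHomogeneity

/-!
# Homogeneity for pointwise properties invariant under arbitrary base change

Variant of `forall_of_exists_of_isFlatBaseChangeInvariant` for properties (such as "unramified
near a point") which are invariant under arbitrary base change of morphisms locally of finite type.
No finiteness hypothesis on the target group is needed.
-/

set_option autoImplicit false
universe u

open CategoryTheory CategoryTheory.Limits AlgebraicGeometry MonoidalCategory
  CartesianMonoidalCategory MonObj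

namespace Groth.Agent.Lib.Helper19

/-- A pointwise property of morphisms of schemes compatible with arbitrary base change (for
morphisms locally of finite type). -/
def IsBaseChangeInvariant (Q : ∀ {X Y : Scheme.{u}} (_ : X ⟶ Y), X → Prop) : Prop :=
  ∀ {X' X Y' Y : Scheme.{u}} {k : X' ⟶ X} {f' : X' ⟶ Y'} {f : X ⟶ Y} {g : Y' ⟶ Y},
    IsPullback k f' f g → LocallyOfFiniteType f → ∀ x' : X', Q f' x' ↔ Q f (k x')

variable (k : Type u) [Field k]

/-- Translation invariance. -/
theorem fst_iff_mul_of_isBaseChangeInvariant
    {Q : ∀ {X Y : Scheme.{u}} (_ : X ⟶ Y), X → Prop} (hQ : IsBaseChangeInvariant Q)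
    {S : Scheme.{u}} (H G : Over S) [GrpObj H] [GrpObj G]
    (f : H ⟶ G) [IsMonHom f] [LocallyOfFiniteType f.left]
    (z : ↥(H ⊗ H).left) :
    Q f.left ((fst H H).left.base z) ↔ Q f.left (μ[H].left.base z) := by
  have sq1 := (Groth.Agent.Lib.Helper10.GrpShear.sq_fst f).map (Over.forget _)
  have sq2 := (Groth.Agent.Lib.Helper10.GrpShear.sq_mul f).map (Over.forget _)
  simp only [Over.forget_obj, Over.forget_map] at sq1 sq2
  exact (hQ sq1.flip inferInstance z).symm.trans (hQ sq2.flip inferInstance z)

/-- Homogeneity at arbitrary points, over a base with at most one point. -/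
theorem forall_of_exists_of_isBaseChangeInvariant
    {Q : ∀ {X Y : Scheme.{u}} (_ : X ⟶ Y), X → Prop} (hQ : IsBaseChangeInvariant Q)
    {S : Scheme.{u}} [Subsingleton S] (H G : Over S) [GrpObj H] [GrpObj G]
    (f : H ⟶ G) [IsMonHom f] [LocallyOfFiniteType f.left]
    (x : H.left) (hx : Q f.left x) (y : H.left) : Q f.left y := by
  have hxy : H.hom x = H.hom y := Subsingleton.elim _ _
  obtain ⟨w, hw1, hw2⟩ := Scheme.Pullback.exists_preimage_pullback x y hxy
  have hfst : (fst H H).left = pullback.fst H.hom H.hom := rfl
  have hsnd : (snd H H).left = pullback.snd H.hom H.hom := rfl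
  let z : ↥(H ⊗ H).left := (shear H).inv.left w
  have h1 : (fst H H).left z = x := by
    have e := congrArg (fun φ => φ.left w) (shear_inv_fst H)
    simp only [Over.comp_left, Scheme.Hom.comp_apply] at e
    rw [← hw1, ← hfst]
    exact e
  have h2 : μ[H].left z = y := by
    have e := congrArg (fun φ => φ.left w) (shear_inv_mul H)
    simp only [Over.comp_left, Scheme.Hom.comp_apply] at e
    rw [← hw2, ← hsnd]
    exact e
  have key := (fst_iff_mul_of_isBaseChangeInvariant hQ H G f z).mp (h1 ▸ hx)
  exact h2 ▸ key

/-- Being formally unramified near a point is invariant under arbitrary base change. -/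
theorem isBaseChangeInvariant_unramified :
    IsBaseChangeInvariant (fun {X Y : Scheme.{u}} (f : X ⟶ Y) x =>
      ∃ U : X.Opens, x ∈ U ∧ FormallyUnramified (U.ι ≫ f)) := by
  intro X' X Y' Y k f' f g sq hf x'
  haveI := hf
  exact exists_nhd_formallyUnramified_iff_of_isPullback sq x'

end Groth.Agent.Lib.Helper19
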