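import Mathlib
import Groth.Agent.Lib.Helper19.Grp.SubgroupSet

/-!
# The closure of a subgroup set is a subgroup set

Over a local artinian ring, the closure of a "subgroup set" of the underlying space of a group
scheme is again a subgroup set.
-/

set_option autoImplicit false
universe u

open CategoryTheory CategoryTheory.Limits AlgebraicGeometry MonoidalCategory
  CartesianMonoidalCategory MonObj GrpObj

namespace Groth.Agent.Lib.Helper19

variable (A : Type u) [CommRing A] [IsArtinianRing A] [IsLocalRing A]
  (G : Over (Spec (CommRingCat.of A))) [GrpObj G]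

/-- if `P · Q ⊆ C` with `C` closed then `closure P · Q ⊆ C` -/
theorem mul_mem_of_closure_left {P Q C : Set G.left} (hC : IsClosed C)
    (h : ∀ z : ↥(G ⊗ G).left, (fst G G).left z ∈ P → (snd G G).left z ∈ Q → μ[G].left z ∈ C)
    (z : ↥(G ⊗ G).left) (hz1 : (fst G G).left z ∈ closure P) (hz2 : (snd G G).left z ∈ Q) :
    μ[G].left z ∈ C := by
  set b := (snd G G).left z with hb
  let T : Over (Spec (CommRingCat.of A)) := Over.mk (G.left.fromSpecResidueField b ≫ G.hom)
  let t : T ⟶ G := Over.homMk (G.left.fromSpecResidueField b)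
  have ht : ∀ x : T.left, t.left x = b := fun x => Scheme.fromSpecResidueField_apply b x
  have hTopen : UniversallyOpen T.hom := universallyOpen_of_isArtinianRing_of_isLocalRing A T.hom
  have hfst : (fst G T).left = pullback.fst G.hom T.hom := rfl
  have hopen : IsOpenMap (fst G T).left := by
    rw [hfst]; exact Scheme.Hom.isOpenMap _
  have sq := (isPullback_whiskerLeft_snd G t).map (Over.forget _)
  simp only [Over.forget_obj, Over.forget_map] at sq
  obtain ⟨pt⟩ : Nonempty ↥T.left := inferInstanceAs (Nonempty ↥(Spec (G.left.residueField b)))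
  obtain ⟨w, hw1, -⟩ := exists_preimage_of_isPullback sq z pt (ht pt).symm
  let C' : Set ↥(G ⊗ T).left := {w | μ[G].left ((G ◁ t).left w) ∈ C}
  have hC' : IsClosed C' :=
    hC.preimage (μ[G].left.continuous.comp (G ◁ t).left.continuous)
  have hfstw : ∀ w' : ↥(G ⊗ T).left, (fst G G).left ((G ◁ t).left w') = (fst G T).left w' := by
    intro w'
    have e := congrArg (fun φ => φ.left w') (whiskerLeft_fst G t)
    simp only [Over.comp_left, Scheme.Hom.comp_apply] at e
    exact e
  have hsndw : ∀ w' : ↥(G ⊗ T).left, (snd G G).left ((G ◁ t).left w') = b := by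
    intro w'
    have e := congrArg (fun φ => φ.left w') (whiskerLeft_snd G t)
    simp only [Over.comp_left, Scheme.Hom.comp_apply] at e
    rw [e, ht]
  have hsub : (fst G T).left ⁻¹' P ⊆ C' := by
    intro w' hw'
    exact h _ (by rw [hfstw]; exact hw') (by rw [hsndw]; exact hz2)
  have h1 : (fst G T).left ⁻¹' closure P ⊆ C' :=
    hopen.preimage_closure_subset_closure_preimage.trans (hC'.closure_subset_iff.mpr hsub)
  have hw : w ∈ C' := h1 (by
    change (fst G T).left w ∈ closure P
    rw [← hfstw, hw1]; exact hz1)
  change μ[G].left ((G ◁ t).left w) ∈ C at hw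
  rwa [hw1] at hw

/-- if `P · Q ⊆ C` with `C` closed then `P · closure Q ⊆ C` -/
theorem mul_mem_of_closure_right {P Q C : Set G.left} (hC : IsClosed C)
    (h : ∀ z : ↥(G ⊗ G).left, (fst G G).left z ∈ P → (snd G G).left z ∈ Q → μ[G].left z ∈ C)
    (z : ↥(G ⊗ G).left) (hz1 : (fst G G).left z ∈ P) (hz2 : (snd G G).left z ∈ closure Q) :
    μ[G].left z ∈ C := by
  set b := (fst G G).left z with hb
  let T : Over (Spec (CommRingCat.of A)) := Over.mk (G.left.fromSpecResidueField b ≫ G.hom)
  let t : T ⟶ G := Over.homMk (G.left.fromSpecResidueField b)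
  have ht : ∀ x : T.left, t.left x = b := fun x => Scheme.fromSpecResidueField_apply b x
  have hTopen : UniversallyOpen T.hom := universallyOpen_of_isArtinianRing_of_isLocalRing A T.hom
  have hsnd : (snd T G).left = pullback.snd T.hom G.hom := rfl
  have hopen : IsOpenMap (snd T G).left := by
    rw [hsnd]; exact Scheme.Hom.isOpenMap _
  have sq := (isPullback_whiskerRight_fst G t).map (Over.forget _)
  simp only [Over.forget_obj, Over.forget_map] at sq
  obtain ⟨pt⟩ : Nonempty ↥T.left := inferInstanceAs (Nonempty ↥(Spec (G.left.residueField b)))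
  obtain ⟨w, hw1, -⟩ := exists_preimage_of_isPullback sq z pt (ht pt).symm
  let C' : Set ↥(T ⊗ G).left := {w | μ[G].left ((t ▷ G).left w) ∈ C}
  have hC' : IsClosed C' :=
    hC.preimage (μ[G].left.continuous.comp (t ▷ G).left.continuous)
  have hsndw : ∀ w' : ↥(T ⊗ G).left, (snd G G).left ((t ▷ G).left w') = (snd T G).left w' := by
    intro w'
    have e := congrArg (fun φ => φ.left w') (whiskerRight_snd t G)
    simp only [Over.comp_left, Scheme.Hom.comp_apply] at e
    exact e
  have hfstw : ∀ w' : ↥(T ⊗ G).left, (fst G G).left ((t ▷ G).left w') = b := by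
    intro w'
    have e := congrArg (fun φ => φ.left w') (whiskerRight_fst t G)
    simp only [Over.comp_left, Scheme.Hom.comp_apply] at e
    rw [e, ht]
  have hsub : (snd T G).left ⁻¹' Q ⊆ C' := by
    intro w' hw'
    exact h _ (by rw [hfstw]; exact hz1) (by rw [hsndw]; exact hw')
  have h1 : (snd T G).left ⁻¹' closure Q ⊆ C' :=
    hopen.preimage_closure_subset_closure_preimage.trans (hC'.closure_subset_iff.mpr hsub)
  have hw : w ∈ C' := h1 (by
    change (snd T G).left w ∈ closure Q
    rw [← hsndw, hw1]; exact hz2)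
  change μ[G].left ((t ▷ G).left w) ∈ C at hw
  rwa [hw1] at hw

/-- The closure of a subgroup set is a subgroup set. -/
theorem IsSubgroupSet.closure {Y : Set G.left} (hY : IsSubgroupSet G Y) :
    IsSubgroupSet G (closure Y) where
  one_mem pt := subset_closure (hY.one_mem pt)
  inv_mem y hy := map_mem_closure ι[G].left.continuous hy hY.inv_mem
  mul_mem z hz1 hz2 := by
    refine mul_mem_of_closure_right A G isClosed_closure ?_ z hz1 hz2
    intro z' hz'1 hz'2
    refine mul_mem_of_closure_left A G isClosed_closure ?_ z' hz'1 hz'2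
    intro z'' h1 h2
    exact subset_closure (hY.mul_mem z'' h1 h2)

end Groth.Agent.Lib.Helper19
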