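import Mathlib
import Groth.Agent.Lib.Helper19.Grp.SubgroupSet

/-!
# Products of dominant morphisms over a local artinian ring are dominant
-/

set_option autoImplicit false
universe u

open CategoryTheory CategoryTheory.Limits AlgebraicGeometry MonoidalCategory
  CartesianMonoidalCategory

namespace Groth.Agent.Lib.Helper19

/-- range of a base change -/
theorem range_eq_preimage_of_isPullback {P X Y Z : Scheme.{u}} {fst' : P ⟶ X} {snd' : P ⟶ Y}
    {f : X ⟶ Z} {g : Y ⟶ Z} (sq : IsPullback fst' snd' f g) :
    Set.range fst' = f ⁻¹' Set.range g := by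
  ext x
  constructor
  · rintro ⟨w, rfl⟩
    refine ⟨snd' w, ?_⟩
    have := congrArg (fun φ => φ w) sq.w
    simp only [Scheme.Hom.comp_apply] at this
    exact this.symm
  · rintro ⟨y, hy⟩
    obtain ⟨w, hw, -⟩ := exists_preimage_of_isPullback sq x y hy.symm
    exact ⟨w, hw⟩

variable (A : Type u) [CommRing A] [IsArtinianRing A] [IsLocalRing A]

theorem denseRange_tensorHom_and_quasiCompact
    (X X' Y Y' : Over (Spec (CommRingCat.of A)))
    (f : X' ⟶ X) (g : Y' ⟶ Y) [QuasiCompact f.left] [QuasiCompact g.left]
    (hf : DenseRange f.left.base) (hg : DenseRange g.left.base) :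
    DenseRange (f ⊗ₘ g).left.base ∧ QuasiCompact (f ⊗ₘ g).left := by
  have sq1 := ((isPullback_whiskerRight_fst Y' f).map (Over.forget _)).flip
  have sq2 := ((isPullback_whiskerLeft_snd X g).map (Over.forget _)).flip
  simp only [Over.forget_obj, Over.forget_map] at sq1 sq2
  have hY' : UniversallyOpen Y'.hom := universallyOpen_of_isArtinianRing_of_isLocalRing A Y'.hom
  have hX : UniversallyOpen X.hom := universallyOpen_of_isArtinianRing_of_isLocalRing A X.hom
  have hfst : (fst X Y').left = pullback.fst X.hom Y'.hom := rfl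
  have hsnd : (snd X Y).left = pullback.snd X.hom Y.hom := rfl
  have ho1 : IsOpenMap (fst X Y').left := by rw [hfst]; exact Scheme.Hom.isOpenMap _
  have ho2 : IsOpenMap (snd X Y).left := by rw [hsnd]; exact Scheme.Hom.isOpenMap _
  have hd1 : DenseRange (f ▷ Y').left := by
    rw [DenseRange, range_eq_preimage_of_isPullback sq1.flip]
    exact hf.preimage ho1
  have hd2 : DenseRange (X ◁ g).left := by
    rw [DenseRange, range_eq_preimage_of_isPullback sq2.flip]
    exact hg.preimage ho2
  have hq1 : QuasiCompact (f ▷ Y').left :=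
    MorphismProperty.of_isPullback (P := @QuasiCompact) sq1 inferInstance
  have hq2 : QuasiCompact (X ◁ g).left :=
    MorphismProperty.of_isPullback (P := @QuasiCompact) sq2 inferInstance
  have e : (f ⊗ₘ g).left = (f ▷ Y').left ≫ (X ◁ g).left := by
    rw [← Over.comp_left, MonoidalCategory.tensorHom_def]
  rw [e]
  refine ⟨?_, inferInstance⟩
  have := hd2.comp hd1 (X ◁ g).left.continuous
  convert this using 1
  ext w
  simp

end Groth.Agent.Lib.Helper19
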