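import Mathlib
import Groth.Agent.S3024
import Groth.Agent.Lib.Helper19.Cartier.ReducedSmooth
import Groth.Agent.Lib.Helper19.Act.SectionRigid
import Groth.Agent.Lib.Helper19.GC.SectionComponents

/-!
# The reduced image of a homomorphism from a smooth group scheme over a field is smooth
-/

set_option autoImplicit false
universe u

open CategoryTheory CategoryTheory.Limits AlgebraicGeometry MonoidalCategory
  CartesianMonoidalCategory MonObj

namespace Groth.Agent.Lib.Helper19

/-- Two reduced closed subschemes with the same underlying set are isomorphic over the ambient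
scheme. -/
theorem exists_iso_of_range_eq {X H₁ H₂ : Scheme.{u}} (i₁ : H₁ ⟶ X) (i₂ : H₂ ⟶ X)
    [IsClosedImmersion i₁] [IsClosedImmersion i₂] [IsReduced H₁] [IsReduced H₂]
    (h : Set.range i₁ = Set.range i₂) : ∃ ε : H₁ ≅ H₂, ε.hom ≫ i₂ = i₁ := by
  have hker : i₁.ker = i₂.ker := by
    rw [ker_eq_vanishingIdeal_of_isReduced' i₁, ker_eq_vanishingIdeal_of_isReduced' i₂]
    congr 2
    change i₁ '' Set.univ = i₂ '' Set.univ
    rw [Set.image_univ, Set.image_univ, h]
  let l₁ := IsClosedImmersion.lift i₂ i₁ hker.ge
  let l₂ := IsClosedImmersion.lift i₁ i₂ hker.le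
  have h₁ : l₁ ≫ i₂ = i₁ := IsClosedImmersion.lift_fac _ _ _
  have h₂ : l₂ ≫ i₁ = i₂ := IsClosedImmersion.lift_fac _ _ _
  refine ⟨⟨l₁, l₂, ?_, ?_⟩, h₁⟩
  · rw [← cancel_mono i₁, Category.assoc, h₂, h₁, Category.id_comp]
  · rw [← cancel_mono i₂, Category.assoc, h₁, h₂, Category.id_comp]

/-- The base change square of a morphism of `S`-schemes along `g : S' ⟶ S`. -/
theorem isPullback_pullback_map_left {S S' : Scheme.{u}} (g : S' ⟶ S) {X Y : Over S} (φ : X ⟶ Y) :
    IsPullback (pullback.fst X.hom g) ((Over.pullback g).map φ).left φ.left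
      (pullback.fst Y.hom g) := by
  have h1 : ((Over.pullback g).map φ).left ≫ pullback.snd Y.hom g = pullback.snd X.hom g := by
    simp only [Over.pullback_map_left]
    exact pullback.lift_snd _ _ _
  have h2 : ((Over.pullback g).map φ).left ≫ pullback.fst Y.hom g =
      pullback.fst X.hom g ≫ φ.left := by
    simp only [Over.pullback_map_left]
    exact pullback.lift_fst _ _ _
  refine IsPullback.flip (IsPullback.of_right (h₁₂ := pullback.snd Y.hom g) (h₂₂ := Y.hom)
    (v₁₃ := g) ?_ h2 (IsPullback.of_hasPullback Y.hom g).flip)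
  rw [h1, Over.w φ]
  exact (IsPullback.of_hasPullback X.hom g).flip

/-- The reduced image of a homomorphism from a smooth group scheme of finite type over a field to
a group scheme locally of finite type is smooth. -/
theorem smooth_reduced_image (k : Type u) [Field k]
    (G G' : Over (Spec (CommRingCat.of k))) [GrpObj G] [GrpObj G'] [Smooth G.hom]
    [QuasiCompact G.hom] [LocallyOfFiniteType G'.hom] (f : G ⟶ G') [IsMonHom f]
    (H : Scheme.{u}) (i : H ⟶ G'.left) [IsClosedImmersion i] [IsReduced H]
    (hH : Set.range i = Set.range f.left) : Smooth (i ≫ G'.hom) := by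
  haveI : IsLocallyNoetherian G'.left := LocallyOfFiniteType.isLocallyNoetherian G'.hom
  haveI : CompactSpace G.left := QuasiCompact.compactSpace_of_compactSpace G.hom
  haveI : QuasiCompact f.left := inferInstance
  obtain ⟨H', inst, i', f', hi', hf', hfac, hcl, hker, hqc, hsurj⟩ :=
    Groth.Agent.S3024.result k G G' f
  haveI : IsSchemeTheoreticallyDominant f'.left := ⟨hker⟩
  haveI : IsReduced G.left := Act.isReduced_of_smooth G.hom
  haveI : IsReduced H'.left := IsSchemeTheoreticallyDominant.isReduced f'.left
  -- base change to an algebraic closure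
  let g : Spec (CommRingCat.of (AlgebraicClosure k)) ⟶ Spec (CommRingCat.of k) :=
    Spec.map (CommRingCat.ofHom (algebraMap k (AlgebraicClosure k)))
  have sq := isPullback_pullback_map_left g f'
  haveI : Flat (pullback.fst H'.hom g) := MorphismProperty.pullback_fst (P := @Flat) _ _ inferInstance
  haveI : IsSchemeTheoreticallyDominant ((Over.pullback g).map f').left := .of_isPullback sq
  haveI : QuasiCompact ((Over.pullback g).map f').left :=
    MorphismProperty.of_isPullback (P := @QuasiCompact) sq hqc
  haveI : Smooth (pullback.snd G.hom g) := MorphismProperty.pullback_snd (P := @Smooth) _ _ inferInstance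
  haveI : IsReduced ((Over.pullback g).obj G).left :=
    Act.isReduced_of_smooth (pullback.snd G.hom g)
  haveI : IsReduced ((Over.pullback g).obj H').left :=
    IsSchemeTheoreticallyDominant.isReduced ((Over.pullback g).map f').left
  -- a point of the base change
  haveI : LocallyOfFiniteType H'.hom := by
    rw [← Over.w i']; infer_instance
  letI : GrpObj ((Over.pullback g).obj H') := Functor.grpObjObj
  obtain ⟨pt⟩ : Nonempty ↥(𝟙_ (Over (Spec (CommRingCat.of (AlgebraicClosure k))))).left :=
    inferInstanceAs (Nonempty (PrimeSpectrum (AlgebraicClosure k)))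
  let x : ((Over.pullback g).obj H').left := η[(Over.pullback g).obj H'].left pt
  have hsm : Smooth H'.hom := Cartier.smooth_of_isReduced_stalk_baseChange H' x
  -- transfer to `H`
  have hr : Set.range i = Set.range i'.left := by
    rw [hH, ← hfac, Over.comp_left, Scheme.Hom.comp_base, TopCat.coe_comp,
      Set.range_comp, Set.range_eq_univ.mpr f'.left.surjective, Set.image_univ]
  obtain ⟨ε, hε⟩ := exists_iso_of_range_eq i i'.left hr
  rw [← hε, Category.assoc, Over.w i']
  infer_instance

end Groth.Agent.Lib.Helper19
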