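import Mathlib
import Groth.Agent.Lib.Helper19.Grp.GeneralHomogeneity
import Groth.Agent.Lib.Helper19.Grp.ImageSmooth
import Groth.Agent.Lib.Helper19.Sm.RelFiber
import Groth.Agent.Lib.Helper19.Sm.SmoothDescent

/-!
# Fibrewise loci of a homomorphism of group schemes over a base (SGA3 VI_B 2.5)

For a homomorphism `u : G ⟶ H` of `S`-group schemes and a pointwise property `Q` which can be
tested on fibres and is homogeneous on the fibres, the locus of `Q` in `G` is the preimage of the
set `E` of points `s` of `S` such that `u_s` has `Q` everywhere, and `E` is open if the locus is.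
-/

set_option autoImplicit false
universe u

open CategoryTheory CategoryTheory.Limits AlgebraicGeometry MonoidalCategory
  CartesianMonoidalCategory MonObj

namespace Groth.Agent.Lib.Helper19.FibLoci

variable {S : Scheme.{u}} (G H : Over S) [GrpObj G] [GrpObj H] (u : G ⟶ H)

/-- the fibre homomorphism over `s` -/
noncomputable abbrev fibHom (s : S) :
    (Over.pullback (S.fromSpecResidueField s)).obj G ⟶
      (Over.pullback (S.fromSpecResidueField s)).obj H :=
  (Over.pullback (S.fromSpecResidueField s)).map u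

/-- the projection from the fibre -/
noncomputable abbrev fibι (s : S) :
    ((Over.pullback (S.fromSpecResidueField s)).obj G).left ⟶ G.left :=
  pullback.fst G.hom (S.fromSpecResidueField s)

lemma isPullback_fib (s : S) :
    IsPullback (fibι G s) (fibHom G H u s).left u.left (fibι H s) :=
  isPullback_pullback_map_left (S.fromSpecResidueField s) u

lemma hom_fibι_apply (s : S) (x₁ : ((Over.pullback (S.fromSpecResidueField s)).obj G).left) :
    G.hom (fibι G s x₁) = s := by
  rw [← Scheme.Hom.comp_apply]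
  have : fibι G s ≫ G.hom = pullback.snd G.hom (S.fromSpecResidueField s) ≫
      S.fromSpecResidueField s := pullback.condition
  rw [this, Scheme.Hom.comp_apply, Scheme.fromSpecResidueField_apply]

lemma exists_fibι_eq (x : G.left) :
    ∃ x₁ : ((Over.pullback (S.fromSpecResidueField (G.hom x))).obj G).left,
      fibι G (G.hom x) x₁ = x := by
  obtain ⟨p⟩ : Nonempty (Spec (S.residueField (G.hom x))) := inferInstance
  obtain ⟨z, hz₁, -⟩ := Scheme.Pullback.exists_preimage_pullback (f := G.hom)
    (g := S.fromSpecResidueField (G.hom x)) x p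
    (by rw [Scheme.fromSpecResidueField_apply])
  exact ⟨z, hz₁⟩

lemma hom_unit_apply (s : S) : G.hom ((η[G] : 𝟙_ (Over S) ⟶ G).left s) = s := by
  rw [← Scheme.Hom.comp_apply]
  have : (η[G] : 𝟙_ (Over S) ⟶ G).left ≫ G.hom = 𝟙 S := Over.w (η[G] : 𝟙_ (Over S) ⟶ G)
  rw [this]
  rfl

/-- The generic statement. -/
theorem locus_eq_preimage_and_isOpen
    (Q : ∀ {X Y : Scheme.{u}} (_ : X ⟶ Y), X → Prop)
    (hfib : ∀ (s : S) (x₁ : ((Over.pullback (S.fromSpecResidueField s)).obj G).left),
      Q (fibHom G H u s).left x₁ ↔ Q u.left (fibι G s x₁))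
    (hhom : ∀ (s : S), (∃ x₁, Q (fibHom G H u s).left x₁) → ∀ x₁, Q (fibHom G H u s).left x₁)
    (hopen : IsOpen {x : G.left | Q u.left x}) :
    IsOpen {s : S | ∀ x₁, Q (fibHom G H u s).left x₁} ∧
    {x : G.left | Q u.left x} = G.hom ⁻¹' {s : S | ∀ x₁, Q (fibHom G H u s).left x₁} := by
  have h2 : {x : G.left | Q u.left x} =
      G.hom ⁻¹' {s : S | ∀ x₁, Q (fibHom G H u s).left x₁} := by
    ext x
    simp only [Set.mem_setOf_eq, Set.mem_preimage]
    obtain ⟨x₁, hx₁⟩ := exists_fibι_eq G x
    constructor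
    · intro hx
      refine hhom _ ⟨x₁, ?_⟩
      rw [hfib, hx₁]
      exact hx
    · intro h
      have := (hfib _ x₁).mp (h x₁)
      rwa [hx₁] at this
  refine ⟨?_, h2⟩
  have h1 : {s : S | ∀ x₁, Q (fibHom G H u s).left x₁} =
      (η[G] : 𝟙_ (Over S) ⟶ G).left ⁻¹' {x : G.left | Q u.left x} := by
    ext s
    rw [h2]
    simp only [Set.mem_setOf_eq, Set.mem_preimage]
    rw [hom_unit_apply]
  rw [h1]
  exact hopen.preimage (η[G] : 𝟙_ (Over S) ⟶ G).left.continuous

end Groth.Agent.Lib.Helper19.FibLoci
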