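import Mathlib
import Groth.Prelude.Def_FrameBundle
import Groth.Agent.Lib.Helper19.Grp.AdjPoints
import Groth.Agent.Lib.Helper19.Grp.InnerAutBC

/-!
# Points of `GL_n` (the group scheme `FrB.GLn n S`) as invertible matrices

* `zpt n φ`: the point of `FrB.GLZ n` (over `Spec (ULift ℤ)`) given by a ring hom out of the
  coordinate ring; `zpt_mul` (product = convolution), `comp_zpt`, `zpt_injective`.
* `gpt n M d h : T ⟶ FrB.GLn n S`: the point given by a matrix `M` over `Γ(T)` with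
  `det M * d = 1`; `gpt_mul`, `comp_gpt`, `gpt_one`, `eq_one_of_gpt_eq_one`, `gpt_congr`.
* `exists_hom_of_matrix`: a multiplicative matrix of functions on a group scheme `G` over `S`
  defines a homomorphism `G ⟶ FrB.GLn n S`, trivial only if the matrix is the identity.
-/

set_option autoImplicit false
set_option warn.classDefReducibility false
set_option linter.style.haveILetI false
set_option linter.unusedSectionVars false
universe u
open CategoryTheory CategoryTheory.Limits MonoidalCategory CartesianMonoidalCategory MonObj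
  AlgebraicGeometry
open scoped TensorProduct

namespace Groth.Agent.Lib.Helper19.GLnPoints

/-- the canonical algebra structure over `ULift ℤ` -/
noncomputable def algZ (R : Type u) [CommRing R] : Algebra (ULift.{u} ℤ) R :=
  ((Int.castRingHom R).comp (ULift.ringEquiv (R := ℤ)).toRingHom).toAlgebra

theorem ringHom_ext_Z {R : Type u} [CommRing R] (f g : ULift.{u} ℤ →+* R) : f = g := by
  have h : f.comp (ULift.ringEquiv (R := ℤ)).symm.toRingHom =
      g.comp (ULift.ringEquiv (R := ℤ)).symm.toRingHom := RingHom.ext_int _ _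
  ext x
  exact RingHom.congr_fun h x.down

variable (n : ℕ)

/-- a ring hom out of the coordinate ring of `GL_n` over `ULift ℤ` is an algebra hom -/
noncomputable def toAlgHomZ {R : Type u} [CommRing R] (φ : CoordGrp.GLn n (ULift.{u} ℤ) →+* R) :
    letI := algZ R
    CoordGrp.GLn n (ULift.{u} ℤ) →ₐ[ULift.{u} ℤ] R :=
  letI := algZ R
  { φ with
    commutes' := fun r => by
      have := ringHom_ext_Z (φ.comp (algebraMap (ULift.{u} ℤ) (CoordGrp.GLn n (ULift.{u} ℤ))))
        (algebraMap (ULift.{u} ℤ) R)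
      exact congrArg (fun ψ => ψ r) this }

/-- the point of `GL_{n,ℤ}` given by a ring hom -/
noncomputable def zpt {T' : Over (Spec (CommRingCat.of (ULift.{u} ℤ)))}
    (φ : CoordGrp.GLn n (ULift.{u} ℤ) →+* Γ(T'.left, ⊤)) : T' ⟶ FrB.GLZ n :=
  Over.homMk (T'.left.toSpecΓ ≫ Spec.map (CommRingCat.ofHom φ)) (specULiftZIsTerminal.hom_ext _ _)

theorem zpt_left {T' : Over (Spec (CommRingCat.of (ULift.{u} ℤ)))}
    (φ : CoordGrp.GLn n (ULift.{u} ℤ) →+* Γ(T'.left, ⊤)) :
    (zpt n φ).left = T'.left.toSpecΓ ≫ Spec.map (CommRingCat.ofHom φ) := rfl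

theorem zpt_injective {T' : Over (Spec (CommRingCat.of (ULift.{u} ℤ)))}
    (φ ψ : CoordGrp.GLn n (ULift.{u} ℤ) →+* Γ(T'.left, ⊤)) (h : zpt n φ = zpt n ψ) : φ = ψ := by
  have h1 : T'.left.toSpecΓ ≫ Spec.map (CommRingCat.ofHom φ) =
      T'.left.toSpecΓ ≫ Spec.map (CommRingCat.ofHom ψ) := congrArg (fun f => f.left) h
  have h2 := congrArg (fun f => f.appTop) h1
  simp only [Scheme.Hom.comp_appTop, Scheme.toSpecΓ_appTop] at h2
  rw [Scheme.ΓSpecIso_naturality, Scheme.ΓSpecIso_naturality, cancel_epi] at h2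
  have h3 := congrArg (fun f => f.hom) h2
  exact h3


/-- convolution of two ring homs out of the coordinate ring -/
noncomputable def conv {R : Type u} [CommRing R] (φ ψ : CoordGrp.GLn n (ULift.{u} ℤ) →+* R) :
    CoordGrp.GLn n (ULift.{u} ℤ) →+* R :=
  letI := algZ R
  ((Algebra.TensorProduct.productMap (toAlgHomZ n φ) (toAlgHomZ n ψ)).comp
    (Bialgebra.comulAlgHom (ULift.{u} ℤ) (CoordGrp.GLn n (ULift.{u} ℤ)))).toRingHom

theorem conv_X {R : Type u} [CommRing R] (φ ψ : CoordGrp.GLn n (ULift.{u} ℤ) →+* R)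
    (i j : Fin n) : conv n φ ψ (CoordGrp.GLn.X i j) =
      ∑ l, φ (CoordGrp.GLn.X i l) * ψ (CoordGrp.GLn.X l j) := by
  letI := algZ R
  change (Algebra.TensorProduct.productMap (toAlgHomZ n φ) (toAlgHomZ n ψ))
    (CoalgebraStruct.comul (R := ULift.{u} ℤ) (CoordGrp.GLn.X i j)) = _
  rw [CoordGrp.GLn.comul_X, map_sum]
  refine Finset.sum_congr rfl fun l _ => ?_
  rw [Algebra.TensorProduct.productMap_apply_tmul]
  rfl

theorem conv_Dinv {R : Type u} [CommRing R] (φ ψ : CoordGrp.GLn n (ULift.{u} ℤ) →+* R) :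
    conv n φ ψ CoordGrp.GLn.Dinv = φ CoordGrp.GLn.Dinv * ψ CoordGrp.GLn.Dinv := by
  letI := algZ R
  change (Algebra.TensorProduct.productMap (toAlgHomZ n φ) (toAlgHomZ n ψ))
    (CoalgebraStruct.comul (R := ULift.{u} ℤ) CoordGrp.GLn.Dinv) = _
  rw [CoordGrp.GLn.comul_Dinv, Algebra.TensorProduct.productMap_apply_tmul]
  rfl

theorem zpt_mul {T' : Over (Spec (CommRingCat.of (ULift.{u} ℤ)))}
    (φ ψ : CoordGrp.GLn n (ULift.{u} ℤ) →+* Γ(T'.left, ⊤)) :
    zpt n φ * zpt n ψ = zpt n (conv n φ ψ) := by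
  letI := algZ Γ(T'.left, ⊤)
  have hcomm : (T'.left.toSpecΓ ≫ Spec.map (CommRingCat.ofHom φ)) ≫
      Spec.map (CommRingCat.ofHom (algebraMap (ULift.{u} ℤ) (CoordGrp.GLn n (ULift.{u} ℤ)))) =
      (T'.left.toSpecΓ ≫ Spec.map (CommRingCat.ofHom ψ)) ≫
      Spec.map (CommRingCat.ofHom (algebraMap (ULift.{u} ℤ) (CoordGrp.GLn n (ULift.{u} ℤ)))) :=
    specULiftZIsTerminal.hom_ext _ _
  have key : pullback.lift (T'.left.toSpecΓ ≫ Spec.map (CommRingCat.ofHom φ))
      (T'.left.toSpecΓ ≫ Spec.map (CommRingCat.ofHom ψ)) hcomm ≫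
      (pullbackSpecIso (ULift.{u} ℤ) (CoordGrp.GLn n (ULift.{u} ℤ))
        (CoordGrp.GLn n (ULift.{u} ℤ))).hom =
      T'.left.toSpecΓ ≫ Spec.map (CommRingCat.ofHom (Algebra.TensorProduct.productMap
        (toAlgHomZ n φ) (toAlgHomZ n ψ)).toRingHom) := by
    rw [← Iso.eq_comp_inv]
    apply pullback.hom_ext
    · rw [pullback.lift_fst, Category.assoc, Category.assoc, pullbackSpecIso_inv_fst,
        ← Spec.map_comp]
      congr 2
      ext x
      change φ x = (Algebra.TensorProduct.productMap (toAlgHomZ n φ) (toAlgHomZ n ψ)) (x ⊗ₜ 1)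
      rw [Algebra.TensorProduct.productMap_apply_tmul, map_one, _root_.mul_one]
      rfl
    · rw [pullback.lift_snd, Category.assoc, Category.assoc, pullbackSpecIso_inv_snd,
        ← Spec.map_comp]
      congr 2
      ext x
      change ψ x = (Algebra.TensorProduct.productMap (toAlgHomZ n φ) (toAlgHomZ n ψ)) (1 ⊗ₜ x)
      rw [Algebra.TensorProduct.productMap_apply_tmul, map_one, _root_.one_mul]
      rfl
  have hconv : CommRingCat.ofHom (conv n φ ψ) =
      CommRingCat.ofHom (Bialgebra.comulAlgHom (ULift.{u} ℤ)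
        (CoordGrp.GLn n (ULift.{u} ℤ))).toRingHom ≫
      CommRingCat.ofHom (Algebra.TensorProduct.productMap (toAlgHomZ n φ)
        (toAlgHomZ n ψ)).toRingHom := rfl
  apply Over.OverMorphism.ext
  rw [Hom.mul_def]
  change pullback.lift (T'.left.toSpecΓ ≫ Spec.map (CommRingCat.ofHom φ))
      (T'.left.toSpecΓ ≫ Spec.map (CommRingCat.ofHom ψ)) hcomm ≫
      ((pullbackSpecIso (ULift.{u} ℤ) (CoordGrp.GLn n (ULift.{u} ℤ))
        (CoordGrp.GLn n (ULift.{u} ℤ))).hom ≫
      Spec.map (CommRingCat.ofHom (Bialgebra.comulAlgHom (ULift.{u} ℤ)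
        (CoordGrp.GLn n (ULift.{u} ℤ))).toRingHom)) =
    T'.left.toSpecΓ ≫ Spec.map (CommRingCat.ofHom (conv n φ ψ))
  rw [← Category.assoc, key, hconv, Spec.map_comp, Category.assoc]

theorem comp_zpt {T' T'' : Over (Spec (CommRingCat.of (ULift.{u} ℤ)))} (v : T'' ⟶ T')
    (φ : CoordGrp.GLn n (ULift.{u} ℤ) →+* Γ(T'.left, ⊤)) :
    v ≫ zpt n φ = zpt n (v.left.appTop.hom.comp φ) := by
  apply Over.OverMorphism.ext
  change v.left ≫ (T'.left.toSpecΓ ≫ Spec.map (CommRingCat.ofHom φ)) =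
    T''.left.toSpecΓ ≫ Spec.map (CommRingCat.ofHom (v.left.appTop.hom.comp φ))
  rw [← Category.assoc, Scheme.toSpecΓ_naturality, Category.assoc, ← Spec.map_comp]
  rfl

theorem ringHom_ext_GLn {R : Type u} [CommRing R] {f g : CoordGrp.GLn n (ULift.{u} ℤ) →+* R}
    (h : ∀ i j, f (CoordGrp.GLn.X i j) = g (CoordGrp.GLn.X i j))
    (hD : f CoordGrp.GLn.Dinv = g CoordGrp.GLn.Dinv) : f = g := by
  letI := algZ R
  have h1 : toAlgHomZ n f = toAlgHomZ n g := CoordGrp.GLn.algHom_ext h hD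
  ext x
  exact congrArg (fun φ => φ x) h1

/-- the ring hom out of the coordinate ring given by an invertible matrix -/
noncomputable def mhom {R : Type u} [CommRing R] (M : Matrix (Fin n) (Fin n) R) (d : R)
    (h : M.det * d = 1) : CoordGrp.GLn n (ULift.{u} ℤ) →+* R :=
  letI := algZ R
  (CoordGrp.GLn.pt n (ULift.{u} ℤ) M d h).toRingHom

@[simp] theorem mhom_X {R : Type u} [CommRing R] (M : Matrix (Fin n) (Fin n) R) (d : R)
    (h : M.det * d = 1) (i j : Fin n) : mhom n M d h (CoordGrp.GLn.X i j) = M i j := by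
  letI := algZ R
  exact CoordGrp.GLn.pt_X M d h i j

@[simp] theorem mhom_Dinv {R : Type u} [CommRing R] (M : Matrix (Fin n) (Fin n) R) (d : R)
    (h : M.det * d = 1) : mhom n M d h CoordGrp.GLn.Dinv = d := by
  letI := algZ R
  exact CoordGrp.GLn.pt_Dinv M d h

theorem conv_mhom {R : Type u} [CommRing R] (M M' : Matrix (Fin n) (Fin n) R) (d d' : R)
    (h : M.det * d = 1) (h' : M'.det * d' = 1) (h'' : (M * M').det * (d * d') = 1) :
    conv n (mhom n M d h) (mhom n M' d' h') = mhom n (M * M') (d * d') h'' := by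
  apply ringHom_ext_GLn
  · intro i j
    rw [conv_X, mhom_X, Matrix.mul_apply]
    refine Finset.sum_congr rfl fun l _ => ?_
    rw [mhom_X, mhom_X]
  · rw [conv_Dinv, mhom_Dinv, mhom_Dinv, mhom_Dinv]

theorem comp_mhom {R R' : Type u} [CommRing R] [CommRing R'] (f : R →+* R')
    (M : Matrix (Fin n) (Fin n) R) (d : R) (h : M.det * d = 1)
    (h' : (f.mapMatrix M).det * f d = 1) :
    f.comp (mhom n M d h) = mhom n (f.mapMatrix M) (f d) h' := by
  apply ringHom_ext_GLn
  · intro i j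
    rw [RingHom.comp_apply, mhom_X, mhom_X]
    rfl
  · rw [RingHom.comp_apply, mhom_Dinv, mhom_Dinv]

theorem det_map_mul {R R' : Type u} [CommRing R] [CommRing R'] (f : R →+* R')
    (M : Matrix (Fin n) (Fin n) R) (d : R) (h : M.det * d = 1) :
    (f.mapMatrix M).det * f d = 1 := by
  rw [← RingHom.map_det, ← map_mul, h, map_one]

theorem det_mul_mul {R : Type u} [CommRing R] (M M' : Matrix (Fin n) (Fin n) R) (d d' : R)
    (h : M.det * d = 1) (h' : M'.det * d' = 1) : (M * M').det * (d * d') = 1 := by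
  rw [Matrix.det_mul, _root_.mul_mul_mul_comm, h, h', _root_.mul_one]

theorem zpt_mhom_one {T' : Over (Spec (CommRingCat.of (ULift.{u} ℤ)))} (d : Γ(T'.left, ⊤))
    (h : (1 : Matrix (Fin n) (Fin n) Γ(T'.left, ⊤)).det * d = 1) :
    zpt n (mhom n 1 d h) = 1 := by
  have hd : d = 1 := by rwa [Matrix.det_one, _root_.one_mul] at h
  subst hd
  have h2 : zpt n (mhom n 1 1 h) * zpt n (mhom n 1 1 h) = zpt n (mhom n 1 1 h) := by
    rw [zpt_mul, conv_mhom n 1 1 1 1 h h (det_mul_mul n 1 1 1 1 h h)]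
    congr 1
    apply ringHom_ext_GLn
    · intro i j
      rw [mhom_X, mhom_X, _root_.mul_one]
    · rw [mhom_Dinv, mhom_Dinv, _root_.mul_one]
  exact mul_left_cancel (a := zpt n (mhom n 1 1 h)) (by rw [h2, _root_.mul_one])

section base

open scoped Obj

variable {S : Scheme.{u}}

/-- the matrix point of `GL_n` over `S` -/
noncomputable def gpt {T : Over S} (M : Matrix (Fin n) (Fin n) Γ(T.left, ⊤)) (d : Γ(T.left, ⊤))
    (h : M.det * d = 1) : T ⟶ FrB.GLn n S :=
  (Over.mapPullbackAdj (IsTerminal.from specULiftZIsTerminal S)).homEquiv T (FrB.GLZ n)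
    (zpt n (T' := (Over.map (IsTerminal.from specULiftZIsTerminal S)).obj T) (mhom n M d h))

theorem gpt_congr {T : Over S} {M M' : Matrix (Fin n) (Fin n) Γ(T.left, ⊤)} {d d' : Γ(T.left, ⊤)}
    (h : M.det * d = 1) (h' : M'.det * d' = 1) (hM : M = M') : gpt n M d h = gpt n M' d' h' := by
  subst hM
  have hd : d = d' := by
    calc d = d * (M.det * d') := by rw [h', _root_.mul_one]
      _ = (M.det * d) * d' := by ring
      _ = d' := by rw [h, _root_.one_mul]
  subst hd
  rfl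

theorem gpt_mul {T : Over S} (M M' : Matrix (Fin n) (Fin n) Γ(T.left, ⊤)) (d d' : Γ(T.left, ⊤))
    (h : M.det * d = 1) (h' : M'.det * d' = 1) :
    gpt n M d h * gpt n M' d' h' = gpt n (M * M') (d * d') (det_mul_mul n M M' d d' h h') := by
  have h1 := (Groth.Agent.Lib.Helper19.CommWords.homMulEquiv
    (Over.mapPullbackAdj (IsTerminal.from specULiftZIsTerminal S)) (FrB.GLZ n) T).map_mul
    (zpt n (T' := (Over.map (IsTerminal.from specULiftZIsTerminal S)).obj T) (mhom n M d h))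
    (zpt n (T' := (Over.map (IsTerminal.from specULiftZIsTerminal S)).obj T) (mhom n M' d' h'))
  rw [zpt_mul, conv_mhom n M M' d d' h h' (det_mul_mul n M M' d d' h h')] at h1
  exact h1.symm

theorem comp_gpt {T T₂ : Over S} (g : T₂ ⟶ T) (M : Matrix (Fin n) (Fin n) Γ(T.left, ⊤))
    (d : Γ(T.left, ⊤)) (h : M.det * d = 1) :
    g ≫ gpt n M d h = gpt n (g.left.appTop.hom.mapMatrix M) (g.left.appTop.hom d)
      (det_map_mul n g.left.appTop.hom M d h) := by
  unfold gpt
  rw [← Adjunction.homEquiv_naturality_left, comp_zpt]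
  congr 2
  exact comp_mhom n _ M d h _

theorem gpt_one {T : Over S} (d : Γ(T.left, ⊤))
    (h : (1 : Matrix (Fin n) (Fin n) Γ(T.left, ⊤)).det * d = 1) : gpt n 1 d h = 1 := by
  unfold gpt
  rw [zpt_mhom_one]
  exact (Groth.Agent.Lib.Helper19.CommWords.homMulEquiv
    (Over.mapPullbackAdj (IsTerminal.from specULiftZIsTerminal S)) (FrB.GLZ n) T).map_one

theorem eq_one_of_gpt_eq_one {T : Over S} (M : Matrix (Fin n) (Fin n) Γ(T.left, ⊤))
    (d : Γ(T.left, ⊤)) (h : M.det * d = 1) (h1 : gpt n M d h = 1) : M = 1 := by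
  have h2 : (1 : Matrix (Fin n) (Fin n) Γ(T.left, ⊤)).det * 1 = 1 := by
    rw [Matrix.det_one, _root_.mul_one]
  rw [← gpt_one n 1 h2] at h1
  have h3 := ((Over.mapPullbackAdj (IsTerminal.from specULiftZIsTerminal S)).homEquiv T
    (FrB.GLZ n)).injective h1
  have h4 := zpt_injective n _ _ h3
  ext i j
  have h5 := congrArg (fun φ => φ (CoordGrp.GLn.X i j)) h4
  simp only [mhom_X] at h5
  exact h5

/-- A multiplicative matrix of functions on a group scheme defines a homomorphism to `GL_n`. -/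
theorem exists_hom_of_matrix (G : Over S) [GrpObj G] (C : Matrix (Fin n) (Fin n) Γ(G.left, ⊤))
    (hmul : ∀ (T : Over S) (g h : T ⟶ G), (g * h).left.appTop.hom.mapMatrix C =
      g.left.appTop.hom.mapMatrix C * h.left.appTop.hom.mapMatrix C)
    (hone : ∀ (T : Over S), (toUnit T ≫ η[G]).left.appTop.hom.mapMatrix C = 1) :
    ∃ ρ : G ⟶ FrB.GLn n S, IsMonHom ρ ∧ (ρ = 1 → C = 1) := by
  have hid : (𝟙 G : G ⟶ G).left.appTop.hom.mapMatrix C = C := by
    ext i j
    change (𝟙 G : G ⟶ G).left.appTop.hom (C i j) = C i j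
    rw [Over.id_left, Scheme.Hom.id_appTop]
    rfl
  have hCC' : C * (ι[G]).left.appTop.hom.mapMatrix C = 1 := by
    have h1 := hmul G (𝟙 G) ι[G]
    have h2 : (𝟙 G : G ⟶ G) * ι[G] = toUnit G ≫ η[G] := by
      have : ι[G] = (𝟙 G : G ⟶ G)⁻¹ := by rw [Hom.inv_def, Category.id_comp]
      rw [this, mul_inv_cancel, Hom.one_def]
    rw [h2, hone, hid] at h1
    exact h1.symm
  have h : C.det * ((ι[G]).left.appTop.hom.mapMatrix C).det = 1 := by
    rw [← Matrix.det_mul, hCC', Matrix.det_one]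
  let ρ : G ⟶ FrB.GLn n S := gpt n C _ h
  have key : ∀ {T : Over S} (g : T ⟶ G), g ≫ ρ = gpt n (g.left.appTop.hom.mapMatrix C)
      (g.left.appTop.hom ((ι[G]).left.appTop.hom.mapMatrix C).det)
      (det_map_mul n g.left.appTop.hom C _ h) := fun g => comp_gpt n g C _ h
  refine ⟨ρ, ?_, ?_⟩
  · apply Groth.Agent.Lib.Helper19.InnerAut.isMonHom_of_mul ρ
    · rw [Hom.one_def, key]
      have h3 := hone (𝟙_ (Over S))
      rw [gpt_congr n _ (by rw [Matrix.det_one, _root_.mul_one] :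
        (1 : Matrix (Fin n) (Fin n) Γ((𝟙_ (Over S)).left, ⊤)).det * 1 = 1) h3, gpt_one]
    · rw [key, key, key, gpt_mul]
      exact gpt_congr n _ _ (hmul _ _ _)
  · intro hρ
    exact eq_one_of_gpt_eq_one n C _ h hρ

end base

end Groth.Agent.Lib.Helper19.GLnPoints
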