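import Mathlib
import Groth.Prelude.Def_VecGrp
import Groth.Agent.Lib.Helper19.Grp.AffinePts
import Groth.Agent.Lib.Helper19.Grp.Kunneth

/-!
# The `G`-module defined by a multiplicative matrix of functions

For a group scheme `G` over a field `k` and a matrix `c : J → J → Γ(G, ⊤)` of global functions with
`c(gh) = c(g) c(h)` and `c(1) = 1` (on `T`-valued points), `gmod G c hmul hone : VecGrp.GMod G (J → k)`
is the representation on `J → k` in which a `B`-valued point `g` acts by the matrix `mat G c B g`
(`= c` evaluated at `g`).  `eq_one_of_trivial`: if this representation is trivial then `c` is the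
identity matrix.
-/

set_option autoImplicit false
set_option linter.style.haveILetI false
set_option linter.unusedSectionVars false
universe u
open CategoryTheory CategoryTheory.Limits MonoidalCategory CartesianMonoidalCategory MonObj
  AlgebraicGeometry Opposite TopologicalSpace
open scoped TensorProduct
open Groth.Agent.Lib.Helper19.AffinePts Groth.Agent.Lib.Helper19.Kunneth

namespace Groth.Agent.Lib.Helper19.GModMatrix

variable {k : Type u} [Field k] (G : Over (Spec (CommRingCat.of k))) [GrpObj G]
  {J : Type u} [Fintype J] [DecidableEq J] (c : J → J → Γ(G.left, ⊤))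

/-- The matrix of a point. -/
noncomputable def mat (B : Type u) [CommRing B] [Algebra k B] (g : VecGrp.pt k B ⟶ G) :
    Matrix J J B :=
  fun i j => ev G g (c i j)

theorem mat_apply (B : Type u) [CommRing B] [Algebra k B] (g : VecGrp.pt k B ⟶ G) (i j : J) :
    mat G c B g i j = (Scheme.ΓSpecIso (CommRingCat.of B)).hom.hom (pb g (c i j)) := rfl

theorem mat_ptMap {B B' : Type u} [CommRing B] [Algebra k B] [CommRing B'] [Algebra k B']
    (φ : B →ₐ[k] B') (g : VecGrp.pt k B ⟶ G) :
    mat G c B' (VecGrp.ptMap φ ≫ g) = (mat G c B g).map φ := by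
  ext i j
  exact ev_ptMap G φ g (c i j)

section
variable (hmul : ∀ (T : Over (Spec (CommRingCat.of k))) (g h : T ⟶ G) (i j : J),
        pb (g * h) (c i j) = ∑ l, pb g (c i l) * pb h (c l j))
  (hone : ∀ (T : Over (Spec (CommRingCat.of k))) (i j : J),
        pb (toUnit T ≫ η[G]) (c i j) = if i = j then 1 else 0)

include hmul in
theorem mat_mul (B : Type u) [CommRing B] [Algebra k B] (g h : VecGrp.pt k B ⟶ G) :
    mat G c B (g * h) = mat G c B g * mat G c B h := by
  ext i j
  rw [mat_apply, hmul, Matrix.mul_apply, map_sum]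
  simp only [map_mul]
  rfl

include hone in
theorem mat_one (B : Type u) [CommRing B] [Algebra k B] :
    mat G c B 1 = 1 := by
  ext i j
  rw [mat_apply, Hom.one_def, hone, Matrix.one_apply]
  split_ifs <;> simp

end

/-- The identification `B ⊗ (J → k) ≃ (J → B)`. -/
noncomputable abbrev e (B : Type u) [CommRing B] [Algebra k B] : B ⊗[k] (J → k) ≃ₗ[B] (J → B) :=
  TensorProduct.piScalarRight k B B J

theorem e_Wmap {B B' : Type u} [CommRing B] [Algebra k B] [CommRing B'] [Algebra k B']
    (φ : B →ₐ[k] B') (x : B ⊗[k] (J → k)) (j : J) :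
    e (J := J) B' (VecGrp.Wmap φ x) j = φ (e (J := J) B x j) := by
  induction x using TensorProduct.induction_on with
  | zero => simp
  | tmul a y =>
    rw [VecGrp.Wmap_tmul]
    simp only [TensorProduct.piScalarRight_apply, TensorProduct.piScalarRightHom_tmul]
    rw [Algebra.smul_def, Algebra.smul_def, map_mul, AlgHom.commutes]
  | add x y hx hy => simp only [map_add, Pi.add_apply, hx, hy]

/-- The action of a point, as a linear map. -/
noncomputable def F (B : Type u) [CommRing B] [Algebra k B] (g : VecGrp.pt k B ⟶ G) :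
    B ⊗[k] (J → k) →ₗ[B] B ⊗[k] (J → k) :=
  (e (J := J) B).symm.toLinearMap ∘ₗ Matrix.toLin' (mat G c B g) ∘ₗ (e (J := J) B).toLinearMap

theorem e_F (B : Type u) [CommRing B] [Algebra k B] (g : VecGrp.pt k B ⟶ G)
    (x : B ⊗[k] (J → k)) :
    e (J := J) B (F G c B g x) = (mat G c B g).mulVec (e (J := J) B x) := by
  simp [F]

section
variable (hmul : ∀ (T : Over (Spec (CommRingCat.of k))) (g h : T ⟶ G) (i j : J),
        pb (g * h) (c i j) = ∑ l, pb g (c i l) * pb h (c l j))
  (hone : ∀ (T : Over (Spec (CommRingCat.of k))) (i j : J),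
        pb (toUnit T ≫ η[G]) (c i j) = if i = j then 1 else 0)

include hmul in
theorem F_mul (B : Type u) [CommRing B] [Algebra k B] (g h : VecGrp.pt k B ⟶ G) :
    F G c B (g * h) = F G c B g ∘ₗ F G c B h := by
  apply LinearMap.ext
  intro x
  apply (e (J := J) B).injective
  rw [LinearMap.comp_apply, e_F, e_F, e_F, mat_mul G c hmul, Matrix.mulVec_mulVec]

include hone in
theorem F_one (B : Type u) [CommRing B] [Algebra k B] :
    F G c B 1 = LinearMap.id := by
  apply LinearMap.ext
  intro x
  apply (e (J := J) B).injective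
  rw [e_F, mat_one G c hone, Matrix.one_mulVec, LinearMap.id_apply]

/-- The representation on `J → k` defined by a multiplicative matrix of functions. -/
noncomputable def rho (B : Type u) [CommRing B] [Algebra k B] :
    (VecGrp.pt k B ⟶ G) →* (B ⊗[k] (J → k) ≃ₗ[B] B ⊗[k] (J → k)) where
  toFun g := LinearEquiv.ofLinearMap (F G c B g) (F G c B g⁻¹)
    (by rw [← F_mul G c hmul, _root_.mul_inv_cancel, F_one G c hone])
    (by rw [← F_mul G c hmul, _root_.inv_mul_cancel, F_one G c hone])
  map_one' := by
    apply LinearEquiv.toLinearMap_injective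
    exact F_one G c hone B
  map_mul' g h := by
    apply LinearEquiv.toLinearMap_injective
    exact F_mul G c hmul B g h

theorem rho_apply (B : Type u) [CommRing B] [Algebra k B] (g : VecGrp.pt k B ⟶ G)
    (x : B ⊗[k] (J → k)) : rho G c hmul hone B g x = F G c B g x := rfl

/-- The `G`-module structure on `J → k` defined by a multiplicative matrix of functions. -/
noncomputable def gmod : VecGrp.GMod G (J → k) where
  ρ B _ _ := rho G c hmul hone B
  naturality {B B'} _ _ _ _ φ g x := by
    rw [rho_apply, rho_apply]
    apply (e (J := J) B').injective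
    ext i
    rw [e_Wmap, e_F, e_F, mat_ptMap]
    simp only [Matrix.mulVec, dotProduct, map_sum, map_mul, Matrix.map_apply]
    refine Finset.sum_congr rfl fun j _ => ?_
    rw [e_Wmap]

theorem mat_eq_one_of_rho (B : Type u) [CommRing B] [Algebra k B] (g : VecGrp.pt k B ⟶ G)
    (h : (gmod G c hmul hone).ρ B g = 1) : mat G c B g = 1 := by
  apply Matrix.toLin'.injective
  apply LinearMap.ext
  intro v
  have h1 : F G c B g ((e (J := J) B).symm v) = (e (J := J) B).symm v := by
    have := congrArg (fun f : (B ⊗[k] (J → k) ≃ₗ[B] B ⊗[k] (J → k)) => f ((e (J := J) B).symm v)) h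
    exact this
  have h2 := e_F G c B g ((e (J := J) B).symm v)
  rw [h1, LinearEquiv.apply_symm_apply] at h2
  rw [Matrix.toLin'_apply, ← h2, Matrix.toLin'_one, LinearMap.id_apply]

/-- If the representation defined by a multiplicative matrix of functions is trivial, the matrix
is the identity matrix. -/
theorem eq_one_of_trivial
    (h : ∀ (B : Type u) [CommRing B] [Algebra k B] (g : VecGrp.pt k B ⟶ G),
      (gmod G c hmul hone).ρ B g = 1) (i j : J) : c i j = if i = j then 1 else 0 := by
  apply eq_of_forall_affine_le G.left ⊤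
  intro U hU hUW
  letI := algU G U
  have h1 := mat_eq_one_of_rho G c hmul hone Γ(G.left, U) (gU G hU) (h _ _)
  have h2 : mat G c Γ(G.left, U) (gU G hU) i j = (1 : Matrix J J Γ(G.left, U)) i j := by rw [h1]
  change ev G (gU G hU) (c i j) = _ at h2
  rw [ev_gU, Matrix.one_apply] at h2
  change (G.left.presheaf.map (homOfLE le_top).op).hom (c i j) = _
  rw [h2]
  split_ifs <;> simp

end

end Groth.Agent.Lib.Helper19.GModMatrix
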