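import Mathlib
import Groth.Prelude.Def_VecGrp
import Groth.Agent.Lib.Helper19.Grp.AffinePts

/-!
# Representations of a group scheme with only constant functions are trivial

`rho_eq_one`, `rho_eq_one_of_finite`: if `k → Γ(G, ⊤)` is surjective, then for every `G`-module
structure `m : VecGrp.GMod G M` on a finite free `k`-module every point acts trivially.  The matrix
coefficients `coef` over the affine opens glue to global functions, hence are constants; evaluating at
the unit shows they are the identity matrix; general points are handled by localisation.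
-/

set_option autoImplicit false
set_option linter.style.haveILetI false
set_option linter.unusedSectionVars false
universe u
open CategoryTheory CategoryTheory.Limits MonoidalCategory CartesianMonoidalCategory MonObj
  AlgebraicGeometry Opposite TopologicalSpace
open scoped TensorProduct
open Groth.Agent.Lib.Helper19.AffinePts

namespace Groth.Agent.Lib.Helper19.GModTriv

variable {k : Type u} [Field k] (G : Over (Spec (CommRingCat.of k))) [GrpObj G]
  {M : Type u} [AddCommGroup M] [Module k M] (m : VecGrp.GMod G M)
  {J : Type} [Fintype J] [DecidableEq J] (b : Module.Basis J k M)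

theorem repr_Wmap {B B' : Type u} [CommRing B] [Algebra k B] [CommRing B'] [Algebra k B']
    (φ : B →ₐ[k] B') (x : B ⊗[k] M) (i : J) :
    (Algebra.TensorProduct.basis B' b).repr (VecGrp.Wmap φ x) i =
      φ ((Algebra.TensorProduct.basis B b).repr x i) := by
  induction x using TensorProduct.induction_on with
  | zero => simp
  | tmul a y =>
    rw [VecGrp.Wmap_tmul, Algebra.TensorProduct.basis_repr_tmul,
      Algebra.TensorProduct.basis_repr_tmul]
    simp only [Finsupp.smul_apply, Finsupp.mapRange_apply, smul_eq_mul, map_mul, AlgHom.commutes]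
  | add x y hx hy => simp only [map_add, Finsupp.add_apply, hx, hy]

/-- The matrix coefficients of a point in a `G`-module with a basis. -/
noncomputable def coef (B : Type u) [CommRing B] [Algebra k B] (g : VecGrp.pt k B ⟶ G) (i j : J) :
    B :=
  (Algebra.TensorProduct.basis B b).repr (m.ρ B g ((1 : B) ⊗ₜ[k] b j)) i

theorem coef_ptMap {B B' : Type u} [CommRing B] [Algebra k B] [CommRing B'] [Algebra k B']
    (φ : B →ₐ[k] B') (g : VecGrp.pt k B ⟶ G) (i j : J) :
    coef G m b B' (VecGrp.ptMap φ ≫ g) i j = φ (coef G m b B g i j) := by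
  unfold coef
  rw [← repr_Wmap, m.naturality φ g, VecGrp.Wmap_tmul, map_one]

theorem rho_eq_one_of_coef {B : Type u} [CommRing B] [Algebra k B] (g : VecGrp.pt k B ⟶ G)
    (h : ∀ i j, coef G m b B g i j = if i = j then 1 else 0) : m.ρ B g = 1 := by
  apply LinearEquiv.toLinearMap_injective
  apply (Algebra.TensorProduct.basis B b).ext
  intro j
  apply (Algebra.TensorProduct.basis B b).repr.injective
  ext i
  rw [Algebra.TensorProduct.basis_apply]
  change coef G m b B g i j = _
  rw [h, ← Algebra.TensorProduct.basis_apply]
  change _ = (Algebra.TensorProduct.basis B b).repr ((Algebra.TensorProduct.basis B b) j) i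
  rw [Module.Basis.repr_self, Finsupp.single_apply]
  simp only [eq_comm]

theorem coef_one (B : Type u) [CommRing B] [Algebra k B] (i j : J) :
    coef G m b B 1 i j = if i = j then 1 else 0 := by
  unfold coef
  rw [map_one, ← Algebra.TensorProduct.basis_apply]
  change (Algebra.TensorProduct.basis B b).repr ((Algebra.TensorProduct.basis B b) j) i = _
  rw [Module.Basis.repr_self, Finsupp.single_apply]
  simp only [eq_comm]

/-- If the only global functions are the constants, the matrix coefficients over the affine
opens are constants. -/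
theorem exists_const (hG : Function.Surjective
      ((Scheme.ΓSpecIso (CommRingCat.of k)).inv ≫ G.hom.appTop).hom) (i j : J) :
    ∃ c : k, ∀ (U : G.left.Opens) (hU : IsAffineOpen U),
      letI := algU G U
      coef G m b Γ(G.left, U) (gU G hU) i j = algebraMap k Γ(G.left, U) c := by
  obtain ⟨t, ht⟩ := exists_glue G.left
    (fun U hU => letI := algU G U; coef G m b Γ(G.left, U) (gU G hU) i j) (by
      intro U V hU hV h
      letI := algU G U
      letI := algU G V
      have h1 := coef_ptMap G m b (resAlg G h) (gU G hU) i j
      rw [ptMap_resAlg_gU G hU hV h] at h1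
      exact h1.symm)
  obtain ⟨c, hc⟩ := hG t
  refine ⟨c, fun U hU => ?_⟩
  letI := algU G U
  have h2 := ht U hU
  change _ = coef G m b Γ(G.left, U) (gU G hU) i j at h2
  rw [← h2, ← hc]
  rfl

theorem coef_local (hG : Function.Surjective
      ((Scheme.ΓSpecIso (CommRingCat.of k)).inv ≫ G.hom.appTop).hom)
    {B : Type u} [CommRing B] [Algebra k B] [IsLocalRing B] (g : VecGrp.pt k B ⟶ G) (i j : J) :
    coef G m b B g i j = if i = j then 1 else 0 := by
  obtain ⟨c, hc⟩ := exists_const G m b hG i j
  have key : ∀ {B' : Type u} [CommRing B'] [Algebra k B'] [IsLocalRing B']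
      (g' : VecGrp.pt k B' ⟶ G), coef G m b B' g' i j = algebraMap k B' c := by
    intro B' _ _ _ g'
    obtain ⟨U, hU, ψ, hψ⟩ := exists_factor G g'
    letI := algU G U
    rw [← hψ, coef_ptMap, hc U hU, AlgHom.commutes]
  have h1 := key (B' := k) (1 : VecGrp.pt k k ⟶ G)
  rw [coef_one] at h1
  rw [key g, ← Algebra.algebraMap_self_apply (R := k) c, ← h1]
  split_ifs <;> simp

include b in
theorem rho_eq_one (hG : Function.Surjective
      ((Scheme.ΓSpecIso (CommRingCat.of k)).inv ≫ G.hom.appTop).hom)
    (B : Type u) [CommRing B] [Algebra k B] (g : VecGrp.pt k B ⟶ G) : m.ρ B g = 1 := by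
  apply rho_eq_one_of_coef G m b
  intro i j
  rw [← sub_eq_zero]
  apply eq_zero_of_localization
  intro p hp
  haveI : p.IsPrime := hp.isPrime
  rw [map_sub, sub_eq_zero]
  have h1 := coef_ptMap G m b (IsScalarTower.toAlgHom k B (Localization.AtPrime p)) g i j
  rw [coef_local G m b hG] at h1
  rw [IsScalarTower.coe_toAlgHom'] at h1
  rw [← h1]
  split_ifs <;> simp

theorem rho_eq_one_of_finite [Module.Finite k M] (hG : Function.Surjective
      ((Scheme.ΓSpecIso (CommRingCat.of k)).inv ≫ G.hom.appTop).hom)
    (B : Type u) [CommRing B] [Algebra k B] (g : VecGrp.pt k B ⟶ G) : m.ρ B g = 1 :=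
  rho_eq_one G m (Module.finBasis k M) hG B g

end Groth.Agent.Lib.Helper19.GModTriv
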