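import Mathlib
import Groth.Agent.Lib.Helper19.Grp.LangSerre

/-!
# Factorisation through separable isogenies

`existsUnique_desc_hom`: over an algebraically closed field, a homomorphism killing the rational
points of the kernel of a quasi-compact étale surjective homomorphism `φ` (from a reduced group
scheme locally of finite type) factors uniquely through `φ`, by a homomorphism.
-/

set_option autoImplicit false
set_option linter.style.haveILetI false
set_option linter.unusedSectionVars false
universe u
open CategoryTheory CategoryTheory.Limits MonoidalCategory CartesianMonoidalCategory MonObj GrpObj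
  AlgebraicGeometry Opposite TopologicalSpace

namespace Groth.Agent.Lib.Helper19.IsogenyDesc

variable {k : Type u} [Field k] [IsAlgClosed k] {E E' E'' : Over (Spec (CommRingCat.of k))}
  [GrpObj E] [GrpObj E'] [GrpObj E'']

/-- Factorisation through a quasi-compact étale surjective homomorphism from a reduced group scheme
locally of finite type over an algebraically closed field: a homomorphism killing the rational
points of the kernel factors uniquely. -/
theorem existsUnique_desc_hom [LocallyOfFiniteType E.hom] [IsReduced E.left]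
    [LocallyOfFiniteType E''.hom]
    (φ : E ⟶ E') [IsMonHom φ] [QuasiCompact φ.left] [Surjective φ.left] [Etale φ.left]
    (ψ : E ⟶ E'') [IsMonHom ψ]
    (hker : ∀ P : 𝟙_ (Over (Spec (CommRingCat.of k))) ⟶ E, P ≫ φ = η[E'] → P ≫ ψ = η[E'']) :
    ∃! ρ : E' ⟶ E'', IsMonHom ρ ∧ φ ≫ ρ = ψ := by
  haveI : IsLocallyNoetherian E.left := LocallyOfFiniteType.isLocallyNoetherian E.hom
  haveI : IsSeparated E''.hom := Groth.Agent.Lib.Helper81.KPointsDense.isSeparated_grp k E''
  haveI : GeometricallyReduced φ.left :=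
    Groth.Agent.Lib.Helper94.geometricallyReduced_of_smooth φ.left
  let R : Over (Spec (CommRingCat.of k)) := Over.mk (pullback.fst φ.left φ.left ≫ E.hom)
  let p₁ : R ⟶ E := Over.homMk (pullback.fst φ.left φ.left) rfl
  let p₂ : R ⟶ E := Over.homMk (pullback.snd φ.left φ.left) (by
    change pullback.snd φ.left φ.left ≫ E.hom = pullback.fst φ.left φ.left ≫ E.hom
    rw [← Over.w φ, ← Category.assoc, ← pullback.condition, Category.assoc])
  have hcondR : p₁ ≫ φ = p₂ ≫ φ := by
    ext1
    exact pullback.condition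
  have hk : IsPullback p₁ p₂ φ φ :=
    IsPullback.of_map (Over.forget _) hcondR (IsPullback.of_hasPullback φ.left φ.left)
  haveI : IsReduced R.left := by
    change IsReduced (pullback φ.left φ.left)
    infer_instance
  haveI : LocallyOfFiniteType R.hom := by
    change LocallyOfFiniteType (pullback.fst φ.left φ.left ≫ E.hom)
    infer_instance
  have h1 : ∀ T : Over (Spec (CommRingCat.of k)), (η[E'] : 𝟙_ _ ⟶ E') = 1 ∧
      (η[E''] : 𝟙_ _ ⟶ E'') = 1 := by
    intro _
    have : toUnit (𝟙_ (Over (Spec (CommRingCat.of k)))) = 𝟙 _ := toUnit_unique _ _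
    constructor <;> rw [Hom.one_def, this, Category.id_comp]
  have hu : (p₁⁻¹ * p₂) ≫ ψ = 1 := by
    apply Groth.Agent.Lib.Helper19.LangSerre.eq_of_forall_rational R E''
    intro e
    rw [MonObj.comp_one, ← Category.assoc, ← (h1 R).2]
    apply hker
    rw [(h1 R).1, Category.assoc, MonObj.mul_comp, GrpObj.inv_comp, hcondR, inv_mul_cancel,
      MonObj.comp_one]
  have hf' : p₁ ≫ ψ = p₂ ≫ ψ := by
    have h2 : p₂ = p₁ * (p₁⁻¹ * p₂) := by rw [mul_inv_cancel_left]
    rw [h2, MonObj.mul_comp, hu, _root_.mul_one]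
  haveI : EffectiveEpi φ.left := inferInstance
  obtain ⟨ρ, hρ⟩ := Groth.Agent.Lib.Helper81.GrpQuotDesc.exists_desc φ p₁ p₂ hk _ hf'
  haveI : Epi φ.left := Flat.epi_of_flat_of_surjective _
  haveI : Epi φ := (Over.forget _).epi_of_epi_map (by exact ‹Epi φ.left›)
  have hst : Groth.Agent.Lib.Helper72.StableEpi φ := fun X =>
    Groth.Agent.Lib.Helper81.GrpQuotDesc.epi_whiskerLeft X φ
  refine ⟨ρ, ⟨⟨?_, ?_⟩, hρ⟩, ?_⟩
  · rw [← IsMonHom.one_hom (f := φ), Category.assoc, hρ, IsMonHom.one_hom]
  · haveI := (hst.tensorHom hst).epi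
    rw [← cancel_epi (φ ⊗ₘ φ), ← Category.assoc, ← IsMonHom.mul_hom (f := φ), Category.assoc, hρ,
      ← Category.assoc (φ ⊗ₘ φ), tensorHom_comp_tensorHom, hρ, IsMonHom.mul_hom]
  · rintro ρ' ⟨-, hρ'⟩
    rw [← cancel_epi φ, hρ', hρ]

end Groth.Agent.Lib.Helper19.IsogenyDesc
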