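import Mathlib
import Groth.Agent.Lib.Helper19.Grp.Homogeneity

/-!
# A flat homomorphism of locally algebraic groups is étale iff its kernel is étale
-/

set_option autoImplicit false
universe u

open CategoryTheory CategoryTheory.Limits AlgebraicGeometry MonoidalCategory
  CartesianMonoidalCategory MonObj GrpObj

namespace Groth.Agent.Lib.Helper19

variable (k : Type u) [Field k]

/-- A homomorphism of locally algebraic groups over a field whose kernel is unramified over the
field is unramified. -/
theorem formallyUnramified_of_kernel (X Y : Over (Spec (CommRingCat.of k))) [GrpObj X] [GrpObj Y]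
    [LocallyOfFiniteType X.hom] [LocallyOfFiniteType Y.hom] (f : X ⟶ Y) [IsMonHom f]
    (N : Over (Spec (CommRingCat.of k))) (i : N ⟶ X) (hN : IsPullback i (toUnit N) f η[Y])
    [FormallyUnramified N.hom] : FormallyUnramified f.left := by
  have hY : IsLocallyNoetherian Y.left := LocallyOfFiniteType.isLocallyNoetherian Y.hom
  have hlft : LocallyOfFiniteType f.left := by
    have : LocallyOfFiniteType (f.left ≫ Y.hom) := by rw [Over.w f]; infer_instance
    exact locallyOfFiniteType_of_comp f.left Y.hom
  let pt : ↥(𝟙_ (Over (Spec (CommRingCat.of k)))).left := IsLocalRing.closedPoint k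
  have sq := hN.map (Over.forget _)
  simp only [Over.forget_obj, Over.forget_map] at sq
  rw [toUnit_left_eq] at sq
  -- the unit section of `N`
  have hone : η[X] ≫ f = η[Y] := IsMonHom.one_hom f
  obtain ⟨u, hu1, hu2⟩ : ∃ u : 𝟙_ _ ⟶ N, u ≫ i = η[X] ∧ u ≫ toUnit N = 𝟙 _ :=
    ⟨hN.lift η[X] (𝟙 _) (by rw [hone, Category.id_comp]), hN.lift_fst _ _ _, hN.lift_snd _ _ _⟩
  let x' : N.left := u.left.base pt
  have hx' : i.left.base x' = η[X].left.base pt := by
    have := congrArg (fun φ => φ.left.base pt) hu1
    simpa using this
  refine formallyUnramified_of_unit k X Y f pt ?_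
  rw [← hx']
  refine (exists_nhd_formallyUnramified_iff_of_isPullback sq x').mp ⟨⊤, trivial, ?_⟩
  exact MorphismProperty.comp_mem _ _ _ (inferInstance : FormallyUnramified (⊤ : N.left.Opens).ι) ‹_›

/-- A flat homomorphism of locally algebraic groups over a field is étale iff its kernel is étale
over the field. -/
theorem etale_iff_etale_kernel (X Y : Over (Spec (CommRingCat.of k))) [GrpObj X] [GrpObj Y]
    [LocallyOfFiniteType X.hom] [LocallyOfFiniteType Y.hom] (f : X ⟶ Y) [IsMonHom f] [Flat f.left]
    (N : Over (Spec (CommRingCat.of k))) (i : N ⟶ X) (hN : IsPullback i (toUnit N) f η[Y]) :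
    Etale f.left ↔ Etale N.hom := by
  have hY : IsLocallyNoetherian Y.left := LocallyOfFiniteType.isLocallyNoetherian Y.hom
  have hlft : LocallyOfFiniteType f.left := by
    have : LocallyOfFiniteType (f.left ≫ Y.hom) := by rw [Over.w f]; infer_instance
    exact locallyOfFiniteType_of_comp f.left Y.hom
  have sq := hN.map (Over.forget _)
  simp only [Over.forget_obj, Over.forget_map] at sq
  rw [toUnit_left_eq] at sq
  constructor
  · intro h
    exact MorphismProperty.of_isPullback (P := @Etale) sq h
  · intro h
    have : FormallyUnramified N.hom := inferInstance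
    have : FormallyUnramified f.left := formallyUnramified_of_kernel k X Y f N i hN
    exact Etale.of_formallyUnramified_of_flat f.left

end Groth.Agent.Lib.Helper19
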