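import Mathlib
import Groth.Prelude.Def_Red
import Groth.Agent.Lib.Helper19.Grp.DenseProduct
import Groth.Agent.Lib.Helper19.Grp.FibrewiseLoci

/-!
# The multiplication of two fibrewise dense maps into a group scheme is surjective
(SGA3 VI_B 10.x)
-/

set_option autoImplicit false
universe u

open CategoryTheory CategoryTheory.Limits AlgebraicGeometry MonoidalCategory
  CartesianMonoidalCategory MonObj

namespace Groth.Agent.Lib.Helper19.MulCover

variable {S : Scheme.{u}} (G : Over S) [GrpObj G]

/-- A property stable under base change and composition passes to `(a, c) ↦ a * c`. -/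
theorem prop_tensorHom_mul (P : MorphismProperty Scheme.{u}) [P.IsStableUnderBaseChange]
    [P.IsStableUnderComposition] [P.RespectsIso] {T T' : Over S} (a : T ⟶ G) (c : T' ⟶ G)
    (ha : P a.left) (hc : P c.left) (hG : P G.hom) : P ((a ⊗ₘ c) ≫ μ[G]).left := by
  rw [Over.comp_left]
  refine P.comp_mem _ _ ?_ ?_
  · rw [Over.tensorHom_left]
    exact MorphismProperty.pullbackMap ha hc (Over.w a).symm (Over.w c).symm
  · rw [← shear_hom_snd, Over.comp_left]
    haveI : IsIso (shear G).hom.left :=
      inferInstanceAs (IsIso ((Over.forget S).map (shear G).hom))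
    rw [P.cancel_left_of_respectsIso]
    rw [Over.snd_left]
    exact MorphismProperty.pullback_snd _ _ hG

/-- naturality of the projection from the fibre -/
lemma fibι_naturality {Y Y' : Over S} (φ : Y ⟶ Y') (s : S)
    (y : ((Over.pullback (S.fromSpecResidueField s)).obj Y).left) :
    FibLoci.fibι Y' s (((Over.pullback (S.fromSpecResidueField s)).map φ).left y) =
      φ.left (FibLoci.fibι Y s y) := by
  have := (isPullback_pullback_map_left (S.fromSpecResidueField s) φ).w
  rw [← Scheme.Hom.comp_apply, ← Scheme.Hom.comp_apply]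
  exact congrArg (fun ψ => ψ y) this.symm

/-- If the images of `a` and `c` are fibrewise dense opens of `G`, then `(a, c) ↦ a * c` is
surjective. -/
theorem surjective_tensorHom_mul {T T' : Over S} (a : T ⟶ G) (c : T' ⟶ G)
    (ha : IsOpen (Set.range a.left)) (hc : IsOpen (Set.range c.left))
    (hda : ∀ s : S, Dense ((FibLoci.fibι G s) ⁻¹' (Set.range a.left)))
    (hdc : ∀ s : S, Dense ((FibLoci.fibι G s) ⁻¹' (Set.range c.left))) :
    Surjective ((a ⊗ₘ c) ≫ μ[G]).left := by
  refine ⟨fun g₀ => ?_⟩
  set s := G.hom g₀ with hs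
  obtain ⟨g₁, hg₁⟩ := FibLoci.exists_fibι_eq G g₀
  let F := Over.pullback (S.fromSpecResidueField s)
  let Us : (F.obj G).left.Opens :=
    ⟨(FibLoci.fibι G s) ⁻¹' (Set.range a.left), ha.preimage (FibLoci.fibι G s).continuous⟩
  let Vs : (F.obj G).left.Opens :=
    ⟨(FibLoci.fibι G s) ⁻¹' (Set.range c.left), hc.preimage (FibLoci.fibι G s).continuous⟩
  have hA : @IsArtinianRing ↑(S.residueField s)
      (S.residueField s).commRing.toCommSemiring.toSemiring := by infer_instance
  have hL : @IsLocalRing ↑(S.residueField s)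
      (S.residueField s).commRing.toCommSemiring.toSemiring := by infer_instance
  obtain ⟨z, hz1, hz2, hz3⟩ := @exists_mul_eq_of_dense (S.residueField s)
    (S.residueField s).commRing hA hL (F.obj G) _ Us Vs (hda s) (hdc s) g₁
  let z' : (G ⊗ G).left := FibLoci.fibι (G ⊗ G) s ((Functor.LaxMonoidal.μ F G G).left z)
  have h1 : (fst G G).left z' = FibLoci.fibι G s ((fst (F.obj G) (F.obj G)).left z) := by
    change (fst G G).left (FibLoci.fibι (G ⊗ G) s _) = _
    rw [← fibι_naturality]
    congr 1
    have := congrArg (fun φ : F.obj G ⊗ F.obj G ⟶ F.obj G => φ.left z)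
      (Functor.Monoidal.μ_fst F G G)
    simpa only [Over.comp_left, Scheme.Hom.comp_apply] using this
  have h2 : (snd G G).left z' = FibLoci.fibι G s ((snd (F.obj G) (F.obj G)).left z) := by
    change (snd G G).left (FibLoci.fibι (G ⊗ G) s _) = _
    rw [← fibι_naturality]
    congr 1
    have := congrArg (fun φ : F.obj G ⊗ F.obj G ⟶ F.obj G => φ.left z)
      (Functor.Monoidal.μ_snd F G G)
    simpa only [Over.comp_left, Scheme.Hom.comp_apply] using this
  have h3 : μ[G].left z' = g₀ := by
    change μ[G].left (FibLoci.fibι (G ⊗ G) s _) = _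
    rw [← fibι_naturality]
    have hμ : Functor.LaxMonoidal.μ F G G ≫ F.map μ[G] = μ[F.obj G] := rfl
    have := congrArg (fun φ : F.obj G ⊗ F.obj G ⟶ F.obj G => φ.left z) hμ
    simp only [Over.comp_left, Scheme.Hom.comp_apply] at this
    rw [this]
    have e : μ[F.obj G].left z = g₁ := hz3
    rw [e, hg₁]
  have hmem : z' ∈ Set.range (a ⊗ₘ c).left := by
    rw [Over.tensorHom_left, Scheme.Pullback.range_map]
    refine ⟨?_, ?_⟩
    · change (fst G G).left z' ∈ Set.range a.left
      rw [h1]
      exact hz1
    · change (snd G G).left z' ∈ Set.range c.left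
      rw [h2]
      exact hz2
  obtain ⟨w, hw⟩ := hmem
  refine ⟨w, ?_⟩
  rw [Over.comp_left, Scheme.Hom.comp_apply, hw]
  exact h3

/-- A subset of `X` containing all maximal points of the fibre `p⁻¹(s)` has dense preimage in the
scheme-theoretic fibre. -/
theorem dense_preimage_fiberι_of_maximal_points {X Y : Scheme.{u}} (p : X ⟶ Y) (s : Y) (O : Set X)
    (hO : ∀ g : ↥(p.base ⁻¹' {s}), closure {g} ∈ irreducibleComponents ↥(p.base ⁻¹' {s}) →
      g.1 ∈ O) :
    Dense ((p.fiberι s) ⁻¹' O) := by
  intro y
  have hZ := irreducibleComponent_mem_irreducibleComponents y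
  have hZirr : IsIrreducible (irreducibleComponent y) := hZ.1
  have hZcl : IsClosed (irreducibleComponent y) := isClosed_irreducibleComponent
  obtain ⟨ξ, hξ⟩ := QuasiSober.sober hZirr hZcl
  let h := p.fiberHomeo s
  have hcomp : closure {h ξ} ∈ irreducibleComponents ↥(p.base ⁻¹' {s}) := by
    have e : closure {h ξ} = h.symm ⁻¹' (irreducibleComponent y) := by
      rw [← Set.image_singleton, ← h.image_closure, hξ.def, h.image_eq_preimage_symm]
    rw [e]
    exact preimage_mem_irreducibleComponents hZ h.symm.isOpenEmbedding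
      ⟨y, mem_irreducibleComponent, ⟨h y, h.symm_apply_apply y⟩⟩
  have hξO : ξ ∈ (p.fiberι s) ⁻¹' O := hO (h ξ) hcomp
  have hy : y ∈ closure {ξ} := by
    rw [hξ.def]
    exact mem_irreducibleComponent
  exact closure_mono (Set.singleton_subset_iff.mpr hξO) hy

end Groth.Agent.Lib.Helper19.MulCover
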