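import Mathlib
import Groth.Agent.Lib.Helper19.Grp.ClosureSubgroup
import Groth.Agent.Lib.Helper19.RatPts.DenseSections
import Groth.Agent.Lib.Helper19.GC.SectionComponents
import Groth.Agent.Lib.Helper19.Cartier.ReducedSmooth
import Groth.Agent.Lib.Helper72.SubGrp

/-!
# The closure of a subgroup of rational points is a smooth closed subgroup scheme
-/

set_option autoImplicit false
universe u

open CategoryTheory CategoryTheory.Limits AlgebraicGeometry MonoidalCategory
  CartesianMonoidalCategory MonObj GrpObj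

namespace Groth.Agent.Lib.Helper19

/-- The reduced induced closed subscheme structure is reduced. -/
theorem isReduced_subscheme_vanishingIdeal' {X : Scheme.{u}} (Z : TopologicalSpace.Closeds X) :
    IsReduced (Scheme.IdealSheafData.vanishingIdeal Z).subscheme := by
  set I := Scheme.IdealSheafData.vanishingIdeal Z with hI
  have h1 : ∀ U : X.affineOpens, IsReduced (Spec (.of (Γ(X, U) ⧸ I.ideal U))) := by
    intro U
    rw [affine_isReduced_iff]
    change _root_.IsReduced (Γ(X, U) ⧸ I.ideal U)
    rw [← Ideal.isRadical_iff_quotient_reduced, hI, Scheme.IdealSheafData.vanishingIdeal_ideal]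
    exact PrimeSpectrum.isRadical_vanishingIdeal _
  have : ∀ U, IsReduced (I.subschemeCover.openCover.X U) := fun U => h1 U
  exact IsReduced.of_openCover _ I.subschemeCover.openCover

variable {k : Type u} [Field k]

/-- Let `G` be a group scheme locally of finite type over a field `k` and `Y` a subgroup set of
`G` consisting of `k`-rational points. Then the closure of `Y`, with its reduced structure, is a
smooth closed subgroup scheme of `G`. -/
theorem exists_smooth_closed_subgroup_of_rational_subgroupSet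
    (G : Over (Spec (CommRingCat.of k))) [GrpObj G] [LocallyOfFiniteType G.hom]
    (Y : Set G.left) (hY : IsSubgroupSet G Y)
    (hrat : ∀ y ∈ Y, ∃ s : 𝟙_ (Over (Spec (CommRingCat.of k))) ⟶ G, y ∈ Set.range s.left) :
    ∃ (H : Over (Spec (CommRingCat.of k))) (_ : GrpObj H) (i : H ⟶ G), IsMonHom i ∧
      IsClosedImmersion i.left ∧ Smooth H.hom ∧ Set.range i.left = closure Y := by
  have hZ := hY.closure k G
  haveI hred1 : IsReduced (𝟙_ (Over (Spec (CommRingCat.of k)))).left :=
    inferInstanceAs (IsReduced (Spec (CommRingCat.of k)))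
  let Z : TopologicalSpace.Closeds G.left := ⟨closure Y, isClosed_closure⟩
  let I := Scheme.IdealSheafData.vanishingIdeal Z
  let ι₀ : I.subscheme ⟶ G.left := I.subschemeι
  haveI : IsReduced I.subscheme := isReduced_subscheme_vanishingIdeal' Z
  have hrange : Set.range ι₀ = closure Y := by
    rw [Scheme.IdealSheafData.range_subschemeι, Scheme.IdealSheafData.coe_support_vanishingIdeal]
    rfl
  let K : Over (Spec (CommRingCat.of k)) := Over.mk (ι₀ ≫ G.hom)
  let i : K ⟶ G := Over.homMk ι₀ rfl
  haveI hredK : IsReduced K.left := inferInstanceAs (IsReduced I.subscheme)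
  haveI : IsClosedImmersion i.left := inferInstanceAs (IsClosedImmersion ι₀)
  haveI : Mono i := Over.mono_of_mono_left i
  have hi_mem : ∀ x : K.left, i.left x ∈ closure Y := fun x => hrange ▸ ⟨x, rfl⟩
  -- dense set of rational points
  let D : Set K.left := ι₀ ⁻¹' Y
  have hD : Dense D := by
    intro x
    rw [ι₀.isClosedEmbedding.isInducing.closure_eq_preimage_closure_image]
    have : ι₀ '' D = Y := by
      rw [Set.image_preimage_eq_inter_range, hrange]
      exact Set.inter_eq_left.mpr subset_closure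
    rw [this]
    exact hi_mem x
  have hsec : ∀ x ∈ D, ∃ s : Spec (CommRingCat.of k) ⟶ K.left, s ≫ K.hom = 𝟙 _ ∧
      x ∈ Set.range s := by
    intro x hx
    obtain ⟨s, pt, hpt⟩ := hrat _ hx
    have hsr : Set.range s.left ⊆ Z := by
      rintro _ ⟨pt', rfl⟩
      have : pt' = pt := Subsingleton.elim (α := PrimeSpectrum k) _ _
      rw [this, hpt]
      exact subset_closure hx
    obtain ⟨s', hs'⟩ := exists_lift_vanishingIdeal' s.left Z hsr
    refine ⟨s', ?_, pt, ?_⟩
    · show s' ≫ ι₀ ≫ G.hom = 𝟙 _
      rw [← Category.assoc, hs']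
      exact Over.w s
    · apply ι₀.isClosedEmbedding.injective
      rw [← Scheme.Hom.comp_apply, hs', hpt]
  -- the product is reduced
  haveI hredKK : IsReduced (K ⊗ K).left := by
    show IsReduced (pullback K.hom K.hom)
    exact RatPts.isReduced_pullback_of_dense_sections K.hom K.hom D hD hsec
  -- multiplication
  have hmr : Set.range ((i ⊗ₘ i) ≫ μ[G]).left ⊆ Z := by
    rintro _ ⟨w, rfl⟩
    rw [Over.comp_left, Scheme.Hom.comp_apply]
    apply hZ.mul_mem
    · have e := congrArg (fun φ => φ.left w) (tensorHom_fst i i)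
      simp only [Over.comp_left, Scheme.Hom.comp_apply] at e
      rw [e]
      exact hi_mem _
    · have e := congrArg (fun φ => φ.left w) (tensorHom_snd i i)
      simp only [Over.comp_left, Scheme.Hom.comp_apply] at e
      rw [e]
      exact hi_mem _
  obtain ⟨m₀, hm₀⟩ := exists_lift_vanishingIdeal' ((i ⊗ₘ i) ≫ μ[G]).left Z hmr
  let m : K ⊗ K ⟶ K := Over.homMk m₀ (by
    show m₀ ≫ ι₀ ≫ G.hom = _
    rw [← Category.assoc, hm₀, Over.w])
  have hm : m ≫ i = (i ⊗ₘ i) ≫ μ[G] := by
    ext
    exact hm₀
  -- inverse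
  have hvr : Set.range (i ≫ ι[G]).left ⊆ Z := by
    rintro _ ⟨w, rfl⟩
    rw [Over.comp_left, Scheme.Hom.comp_apply]
    exact hZ.inv_mem _ (hi_mem _)
  obtain ⟨v₀, hv₀⟩ := exists_lift_vanishingIdeal' (i ≫ ι[G]).left Z hvr
  let v : K ⟶ K := Over.homMk v₀ (by
    show v₀ ≫ ι₀ ≫ G.hom = _
    rw [← Category.assoc, hv₀, Over.w])
  have hv : v ≫ i = i ≫ ι[G] := by
    ext
    exact hv₀
  -- unit
  have hor : Set.range η[G].left ⊆ Z := by
    rintro _ ⟨w, rfl⟩
    exact hZ.one_mem w
  obtain ⟨o₀, ho₀⟩ := exists_lift_vanishingIdeal' η[G].left Z hor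
  let o : 𝟙_ (Over (Spec (CommRingCat.of k))) ⟶ K := Over.homMk o₀ (by
    show o₀ ≫ ι₀ ≫ G.hom = _
    rw [← Category.assoc, ho₀, Over.w])
  have ho : o ≫ i = η[G] := by
    ext
    exact ho₀
  let inst : GrpObj K := Groth.Agent.Lib.Helper72.grpObjOfMono i m hm o ho v hv
  haveI hi : IsMonHom i := ⟨ho, hm⟩
  refine ⟨K, inst, i, hi, inferInstance, ?_, hrange⟩
  -- smoothness
  haveI : LocallyOfFiniteType K.hom := by
    show LocallyOfFiniteType (ι₀ ≫ G.hom)
    infer_instance
  let g : Spec (.of (AlgebraicClosure k)) ⟶ Spec (.of k) :=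
    Spec.map (CommRingCat.ofHom <| algebraMap k (AlgebraicClosure k))
  haveI : IsReduced (pullback K.hom g) :=
    RatPts.isReduced_pullback_of_dense_sections K.hom g D hD hsec
  obtain ⟨pt⟩ : Nonempty ↥(Spec (CommRingCat.of k)) :=
    inferInstanceAs (Nonempty (PrimeSpectrum k))
  obtain ⟨pt'⟩ : Nonempty ↥(Spec (CommRingCat.of (AlgebraicClosure k))) :=
    inferInstanceAs (Nonempty (PrimeSpectrum (AlgebraicClosure k)))
  obtain ⟨x, -, -⟩ := Scheme.Pullback.exists_preimage_pullback (f := K.hom) (g := g)
    (o₀ pt) pt' (Subsingleton.elim (α := PrimeSpectrum k) _ _)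
  let x' : ((Over.pullback g).obj K).left := x
  haveI : _root_.IsReduced (((Over.pullback g).obj K).left.presheaf.stalk x') :=
    inferInstanceAs (_root_.IsReduced ((pullback K.hom g).presheaf.stalk x))
  exact Cartier.smooth_of_isReduced_stalk_baseChange K x'

end Groth.Agent.Lib.Helper19
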