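import Mathlib
import Groth.Agent.Lib.Helper19.Sm.SmoothFiberPointwise

/-!
# Flat lfp group schemes with geometrically reduced fibres are smooth (SGA3 VI_B 1.3.1-ish)
-/

set_option autoImplicit false
universe u

open CategoryTheory CategoryTheory.Limits AlgebraicGeometry MonoidalCategory
  CartesianMonoidalCategory MonObj GrpObj

namespace Groth.Agent.Lib.Helper19

theorem smooth_of_grpObj_of_flat_of_geometricallyReduced {S : Scheme.{u}} (G : Over S) [GrpObj G]
    [Flat G.hom] [LocallyOfFinitePresentation G.hom] [GeometricallyReduced G.hom] :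
    Smooth G.hom := by
  rw [← Scheme.Hom.smoothLocus_eq_top_iff]
  ext x
  simp only [TopologicalSpace.Opens.coe_top, Set.mem_univ, iff_true, SetLike.mem_coe]
  refine mem_smoothLocus_of_flat_of_smooth_fiber G.hom x (Flat.stalkMap G.hom x) ?_
  set s := G.hom x
  let K := IsLocalRing.ResidueField (S.presheaf.stalk s)
  let f' : G.hom.fiber s ⟶ Spec (.of K) := G.hom.fiberToSpecResidueField s
  have hG : GrpObj (Over.mk G.hom) := inferInstanceAs (GrpObj G)
  have : GrpObj (Over.mk f') :=
    Over.grpObjMkPullbackSnd (f := G.hom) (g := S.fromSpecResidueField s)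
  have : LocallyOfFinitePresentation f' :=
    inferInstanceAs (LocallyOfFinitePresentation (pullback.snd G.hom (S.fromSpecResidueField s)))
  have : LocallyOfFiniteType f' := inferInstance
  have : GeometricallyReduced f' :=
    inferInstanceAs (GeometricallyReduced (G.hom.fiberToSpecResidueField s))
  exact smooth_of_grpObj f'

end Groth.Agent.Lib.Helper19
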