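import Mathlib
import Groth.Agent.Lib.Helper19.Grp.CommWordsScheme
import Groth.Agent.Lib.Helper19.Grp.AdjPoints
import Groth.Agent.Lib.Helper19.RatPts.FlatGeneric

set_option autoImplicit false
set_option linter.style.haveILetI false
universe u
open CategoryTheory CategoryTheory.Limits MonoidalCategory CartesianMonoidalCategory MonObj GrpObj
  AlgebraicGeometry
open scoped commutatorElement

namespace Groth.Agent.Lib.Helper19.CommWords

section flat

variable {S : Scheme.{u}} (G : Over S) [GrpObj G] [Flat G.hom]

instance flat_dP : ∀ n : ℕ, Flat (dP G n).hom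
  | 0 => inferInstanceAs (Flat G.hom)
  | n + 1 => by
    haveI := flat_dP n
    change Flat (dP G n ⊗ dP G n).hom
    rw [Over.tensorObj_hom]
    infer_instance

instance flat_lP : ∀ n : ℕ, Flat (lP G n).hom
  | 0 => inferInstanceAs (Flat G.hom)
  | n + 1 => by
    haveI := flat_lP n
    change Flat (lP G n ⊗ G).hom
    rw [Over.tensorObj_hom]
    infer_instance

end flat

section generic

variable {A : Type u} [CommRing A] [IsDomain A] (K : Type u) [Field K] [Algebra A K]
  [IsFractionRing A K]

/-- two morphisms from a flat `A`-scheme to a separated `A`-scheme which agree on the generic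
fibre are equal -/
theorem eq_of_generic (P Y : Over (Spec (CommRingCat.of A))) [Flat P.hom] [IsSeparated Y.hom]
    (f g : P ⟶ Y)
    (h : (Over.mapPullbackAdj (Spec.map (CommRingCat.ofHom (algebraMap A K)))).counit.app P ≫ f =
      (Over.mapPullbackAdj (Spec.map (CommRingCat.ofHom (algebraMap A K)))).counit.app P ≫ g) :
    f = g := by
  haveI : IsIso (equalizer.ι f g) := by
    have : IsIso ((Over.forget _).map (equalizer.ι f g)) := by
      change IsIso (equalizer.ι f g).left
      refine AffProd.isIso_of_flat_generic K P.hom (equalizer.ι f g).left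
        (equalizer.lift _ h).left ?_
      rw [← Over.comp_left, equalizer.lift_ι]
      simp
    exact isIso_of_reflects_iso _ (Over.forget _)
  rw [← cancel_epi (equalizer.ι f g)]
  exact equalizer.condition f g

section words
open scoped Obj

variable (G : Over (Spec (CommRingCat.of A))) [GrpObj G] [Flat G.hom] [IsSeparated G.hom]

/-- if all groups of points of the generic fibre have trivial `n`-th lower central term, the
universal lower central word of `G` is trivial -/
theorem lC_eq_one_of_generic (n : ℕ)
    (h : ∀ X : Over (Spec (CommRingCat.of K)), Subgroup.lowerCentralSeries (⊤ : Subgroup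
      (X ⟶ (Over.pullback (Spec.map (CommRingCat.ofHom (algebraMap A K)))).obj G)) n = ⊥) :
    lC G n = 1 := by
  apply eq_of_generic K (lP G n) G (lC G n) 1
  rw [comp_one]
  apply (homMulEquiv (Over.mapPullbackAdj (Spec.map (CommRingCat.ofHom (algebraMap A K)))) G
    _).injective
  rw [map_one]
  have h1 := map_mem_lW (homMulEquiv (Over.mapPullbackAdj
    (Spec.map (CommRingCat.ofHom (algebraMap A K)))) G _).toMonoidHom n _
    (comp_lC_mem_lW G n ((Over.mapPullbackAdj
      (Spec.map (CommRingCat.ofHom (algebraMap A K)))).counit.app (lP G n)))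
  have h2 := lW_subset_lowerCentralSeries n h1
  rw [h] at h2
  exact h2

theorem dC_eq_one_of_generic (n : ℕ)
    (h : ∀ X : Over (Spec (CommRingCat.of K)), derivedSeries
      (X ⟶ (Over.pullback (Spec.map (CommRingCat.ofHom (algebraMap A K)))).obj G) n = ⊥) :
    dC G n = 1 := by
  apply eq_of_generic K (dP G n) G (dC G n) 1
  rw [comp_one]
  apply (homMulEquiv (Over.mapPullbackAdj (Spec.map (CommRingCat.ofHom (algebraMap A K)))) G
    _).injective
  rw [map_one]
  have h1 := map_mem_dW (homMulEquiv (Over.mapPullbackAdj
    (Spec.map (CommRingCat.ofHom (algebraMap A K)))) G _).toMonoidHom n _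
    (comp_dC_mem_dW G n ((Over.mapPullbackAdj
      (Spec.map (CommRingCat.ofHom (algebraMap A K)))).counit.app (dP G n)))
  have h2 := dW_subset_derivedSeries n h1
  rw [h] at h2
  exact h2

end words

section bc
open scoped Obj

variable {S S' : Scheme.{u}} (τ : S' ⟶ S) (G : Over S) [GrpObj G]

theorem lowerCentralSeries_bc_eq_bot (n : ℕ) (h : lC G n = 1) (X : Over S') :
    Subgroup.lowerCentralSeries (⊤ : Subgroup (X ⟶ (Over.pullback τ).obj G)) n = ⊥ :=
  lowerCentralSeries_eq_bot_of_injective
    (homMulEquiv (Over.mapPullbackAdj τ) G X).symm.toMonoidHom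
    (homMulEquiv (Over.mapPullbackAdj τ) G X).symm.injective n
    (lowerCentralSeries_eq_bot_of_lC G n h _)

theorem derivedSeries_bc_eq_bot (n : ℕ) (h : dC G n = 1) (X : Over S') :
    derivedSeries (X ⟶ (Over.pullback τ).obj G) n = ⊥ :=
  derivedSeries_eq_bot_of_injective
    (homMulEquiv (Over.mapPullbackAdj τ) G X).symm.toMonoidHom
    (homMulEquiv (Over.mapPullbackAdj τ) G X).symm.injective n
    (derivedSeries_eq_bot_of_dC G n h _)

end bc

end generic

end Groth.Agent.Lib.Helper19.CommWords
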