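import Mathlib
import Groth.Agent.Lib.Helper19.Grp.GeneralHomogeneity
import Groth.Agent.Lib.Helper19.Grp.FlatBaseChangePt
import Groth.Agent.Lib.Helper55.GR.Scheme

/-!
# Surjective homomorphisms onto reduced locally algebraic groups over a field are flat
-/

set_option autoImplicit false
universe u

open CategoryTheory CategoryTheory.Limits AlgebraicGeometry MonoidalCategory
  CartesianMonoidalCategory MonObj

namespace Groth.Agent.Lib.Helper19

variable (k : Type u) [Field k]

/-- A homomorphism of locally algebraic groups over a field which is flat at one point is flat. -/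
theorem flat_of_exists_flat_stalkMap (H G : Over (Spec (CommRingCat.of k))) [GrpObj H] [GrpObj G]
    [LocallyOfFiniteType H.hom] [LocallyOfFiniteType G.hom] (f : H ⟶ G) [IsMonHom f]
    (x : H.left) (hx : (f.left.stalkMap x).hom.Flat) : Flat f.left := by
  rw [Flat.iff_flat_stalkMap]
  exact forall_of_exists_of_isFlatBaseChangeInvariant k isFlatBaseChangeInvariant_flat H G f x hx

/-- A quasi-compact surjective homomorphism of locally algebraic groups over a field with reduced
target is flat (generic flatness + homogeneity). -/
theorem flat_of_surjective_of_isReduced (H G : Over (Spec (CommRingCat.of k))) [GrpObj H]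
    [GrpObj G] [LocallyOfFiniteType H.hom] [LocallyOfFiniteType G.hom] (f : H ⟶ G) [IsMonHom f]
    [QuasiCompact f.left] [Surjective f.left] [IsReduced G.left] : Flat f.left := by
  have hlft : LocallyOfFiniteType f.left := by
    have : LocallyOfFiniteType (f.left ≫ G.hom) := by rw [Over.w f]; infer_instance
    exact locallyOfFiniteType_of_comp f.left G.hom
  obtain ⟨U, hUd, hUflat, -⟩ := Groth.Agent.Lib.Helper55.GR.generic_flatness_reduced f.left
  have hne : (Set.univ : Set G.left).Nonempty := ⟨η[G].left (IsLocalRing.closedPoint k), trivial⟩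
  obtain ⟨y, hy⟩ : ∃ y : G.left, y ∈ U := by
    obtain ⟨y, -, hy⟩ := hUd.inter_open_nonempty Set.univ isOpen_univ hne
    exact ⟨y, hy⟩
  obtain ⟨x, rfl⟩ := f.left.surjective y
  haveI : Flat ((f.left ⁻¹ᵁ U).ι ≫ f.left) := by
    rw [← morphismRestrict_ι]
    infer_instance
  exact flat_of_exists_flat_stalkMap k H G f x (flat_stalkMap_of_ι_comp f.left (f.left ⁻¹ᵁ U) x hy)

end Groth.Agent.Lib.Helper19
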