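import Mathlib
import Groth.Agent.Lib.Helper19.Grp.SubgroupSet

/-!
# Words in the points of a scheme mapping to a group scheme

Finite powers `X^n` of an object of `Over S`, the universal tuple, and values of products of
points of a group scheme over a field at points lying over rational points.
-/

set_option autoImplicit false
universe u

open CategoryTheory CategoryTheory.Limits AlgebraicGeometry MonoidalCategory
  CartesianMonoidalCategory MonObj GrpObj

namespace Groth.Agent.Lib.Helper19.Words

section Rational

variable {k : Type u} [Field k] (G : Over (Spec (CommRingCat.of k))) [GrpObj G]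

/-- A point of `G × G` both of whose projections are rational points is the rational point given
by the pair; hence its product is the product of the rational points. -/
theorem mul_left_apply_of_rational (z : ↥(G ⊗ G).left)
    (s₁ s₂ : 𝟙_ (Over (Spec (CommRingCat.of k))) ⟶ G)
    (pt : ↥(𝟙_ (Over (Spec (CommRingCat.of k)))).left)
    (h1 : (fst G G).left z = s₁.left pt) (h2 : (snd G G).left z = s₂.left pt) :
    μ[G].left z = (s₁ * s₂).left pt := by
  let U := 𝟙_ (Over (Spec (CommRingCat.of k)))
  have hpt : ∀ p : ↥U.left, p = pt := fun p => Subsingleton.elim (α := PrimeSpectrum k) _ _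
  have sq1 := (isPullback_whiskerLeft_snd G s₂).map (Over.forget _)
  simp only [Over.forget_obj, Over.forget_map] at sq1
  obtain ⟨z', hz'1, -⟩ := exists_preimage_of_isPullback sq1 z pt h2
  have sq2 := (isPullback_whiskerRight_fst U s₁).map (Over.forget _)
  simp only [Over.forget_obj, Over.forget_map] at sq2
  have hfz' : (fst G U).left z' = s₁.left pt := by
    have e := congrArg (fun φ => φ.left z') (whiskerLeft_fst G s₂)
    simp only [Over.comp_left, Scheme.Hom.comp_apply] at e
    rw [← e, hz'1, h1]
  obtain ⟨z'', hz''1, -⟩ := exists_preimage_of_isPullback sq2 z' pt hfz'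
  have e0 : (s₁ ▷ U) ≫ (G ◁ s₂) ≫ μ[G] = toUnit (U ⊗ U) ≫ (s₁ * s₂) := by
    rw [Hom.mul_def, ← Category.assoc, ← Category.assoc, ← MonoidalCategory.tensorHom_def]
    congr 1
    apply CartesianMonoidalCategory.hom_ext
    · rw [tensorHom_fst, Category.assoc, lift_fst,
        show fst U U = toUnit (U ⊗ U) from toUnit_unique _ _]
    · rw [tensorHom_snd, Category.assoc, lift_snd,
        show snd U U = toUnit (U ⊗ U) from toUnit_unique _ _]
  have e := congrArg (fun φ => φ.left z'') e0
  simp only [Over.comp_left, Scheme.Hom.comp_apply] at e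
  rw [hz''1, hz'1] at e
  rw [e, hpt ((toUnit (U ⊗ U)).left z'')]

/-- The value of a product of two `T`-points at a point where both factors take rational
values. -/
theorem mul_apply_of_rational {T : Over (Spec (CommRingCat.of k))} (a b : T ⟶ G) (p : ↥T.left)
    (s₁ s₂ : 𝟙_ (Over (Spec (CommRingCat.of k))) ⟶ G)
    (pt : ↥(𝟙_ (Over (Spec (CommRingCat.of k)))).left)
    (h1 : a.left p = s₁.left pt) (h2 : b.left p = s₂.left pt) :
    (a * b).left p = (s₁ * s₂).left pt := by
  rw [Hom.mul_def, Over.comp_left, Scheme.Hom.comp_apply]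
  apply mul_left_apply_of_rational
  · have e := congrArg (fun φ => φ.left p) (lift_fst a b)
    simp only [Over.comp_left, Scheme.Hom.comp_apply] at e
    rw [e, h1]
  · have e := congrArg (fun φ => φ.left p) (lift_snd a b)
    simp only [Over.comp_left, Scheme.Hom.comp_apply] at e
    rw [e, h2]

omit [Field k] in
/-- The value of the inverse of a `T`-point. -/
theorem inv_apply_of_rational {S : Scheme.{u}} (G : Over S) [GrpObj G] {T T' : Over S}
    (a : T ⟶ G) (p : ↥T.left) (s : T' ⟶ G) (pt : ↥T'.left) (h : a.left p = s.left pt) :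
    (a⁻¹).left p = (s⁻¹).left pt := by
  rw [Hom.inv_def, Hom.inv_def, Over.comp_left, Over.comp_left, Scheme.Hom.comp_apply,
    Scheme.Hom.comp_apply, h]

end Rational

section Pow

variable {S : Scheme.{u}}

/-- the `n`-fold power of an object of `Over S` -/
noncomputable def pow (X : Over S) : ℕ → Over S
  | 0 => 𝟙_ (Over S)
  | n + 1 => X ⊗ pow X n

/-- the projections of the `n`-fold power -/
noncomputable def proj (X : Over S) : (n : ℕ) → Fin n → (pow X n ⟶ X)
  | 0 => fun j => j.elim0
  | n + 1 => Fin.cases (fst X (pow X n)) (fun j => snd X (pow X n) ≫ proj X n j)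

/-- the morphism to the `n`-fold power given by a tuple -/
noncomputable def tuple (X : Over S) {T : Over S} : (n : ℕ) → (Fin n → (T ⟶ X)) → (T ⟶ pow X n)
  | 0, _ => toUnit T
  | n + 1, x => lift (x 0) (tuple X n (fun j => x j.succ))

theorem tuple_proj (X : Over S) {T : Over S} : ∀ (n : ℕ) (x : Fin n → (T ⟶ X)) (j : Fin n),
    tuple X n x ≫ proj X n j = x j
  | 0, _, j => j.elim0
  | n + 1, x, j => by
    refine Fin.cases ?_ (fun j => ?_) j
    · show lift (x 0) _ ≫ fst X (pow X n) = x 0
      exact lift_fst _ _
    · show lift (x 0) (tuple X n (fun j => x j.succ)) ≫ snd X (pow X n) ≫ proj X n j = x j.succ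
      rw [lift_snd_assoc, tuple_proj X n]

instance locallyOfFiniteType_pow (X : Over S) [LocallyOfFiniteType X.hom] :
    ∀ n, LocallyOfFiniteType (pow X n).hom
  | 0 => by
    show LocallyOfFiniteType (𝟙 S)
    infer_instance
  | n + 1 => by
    haveI := locallyOfFiniteType_pow X n
    show LocallyOfFiniteType (pullback.fst X.hom (pow X n).hom ≫ X.hom)
    infer_instance

end Pow

section Word

variable {S : Scheme.{u}} (G : Over S) [GrpObj G] {X : Over S} (f : X ⟶ G)

/-- the word in the `T`-points `f (x j) ^ ± 1` -/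
noncomputable def word {T : Over S} {n : ℕ} (x : Fin n → (T ⟶ X)) (ε : Fin n → Bool) : T ⟶ G :=
  (List.ofFn fun j : Fin n => if ε j then x j ≫ f else (x j ≫ f)⁻¹).prod

/-- precomposition as a monoid homomorphism -/
noncomputable def precompHom {T T' : Over S} (t : T' ⟶ T) : (T ⟶ G) →* (T' ⟶ G) where
  toFun a := t ≫ a
  map_one' := MonObj.comp_one t
  map_mul' a b := MonObj.comp_mul t a b

theorem comp_word {T T' : Over S} (t : T' ⟶ T) {n : ℕ} (x : Fin n → (T ⟶ X)) (ε : Fin n → Bool) :
    t ≫ word G f x ε = word G f (fun j => t ≫ x j) ε := by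
  show precompHom G t (word G f x ε) = _
  unfold word
  rw [map_list_prod, List.map_ofFn]
  congr 2
  funext j
  show precompHom G t (if ε j then x j ≫ f else (x j ≫ f)⁻¹) = _
  split_ifs
  · show t ≫ x j ≫ f = (t ≫ x j) ≫ f
    rw [Category.assoc]
  · show t ≫ (x j ≫ f)⁻¹ = ((t ≫ x j) ≫ f)⁻¹
    rw [GrpObj.comp_inv, Category.assoc]

theorem word_cons {T : Over S} {n : ℕ} (x₀ : T ⟶ X) (b : Bool) (x : Fin n → (T ⟶ X))
    (ε : Fin n → Bool) :
    word G f (Fin.cons x₀ x : Fin (n + 1) → (T ⟶ X)) (Fin.cons b ε : Fin (n + 1) → Bool) =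
      (if b then x₀ ≫ f else (x₀ ≫ f)⁻¹) * word G f x ε := by
  unfold word
  rw [← List.prod_cons, ← List.ofFn_cons]
  congr 2
  funext j
  refine Fin.cases ?_ (fun j => ?_) j
  · simp
  · simp

end Word

end Groth.Agent.Lib.Helper19.Words
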